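import Cfsg.Agent.H73.StrongFusion
import Cfsg.Agent.H73.TransferCriteria

/-!
Criteria for control of strong fusion in all sections (helper73).
-/

set_option autoImplicit false

namespace H73

open Subgroup
open scoped commutatorElement

universe u

/-- `p`-stability in the normalizer form passes to groups embedded injectively. -/
theorem isNormalizerPStable_of_injective {X G : Type*} [Group X] [Group G] [Finite G] {p : ℕ}
    [Fact p.Prime] (ι : X →* G) (hι : Function.Injective ι) (hst : Cfsg.IsNormalizerPStable p G) :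
    Cfsg.IsNormalizerPStable p X := by
  intro P hP g hg hcomm
  set PG := P.map ι with hPG
  have hgG : ι g ∈ Subgroup.normalizer (PG : Set G) :=
    Subgroup.le_normalizer_map ι (Subgroup.mem_map_of_mem _ hg)
  have hcommG : ⁅⁅PG, Subgroup.zpowers (ι g)⁆, Subgroup.zpowers (ι g)⁆ = ⊥ := by
    rw [show Subgroup.zpowers (ι g) = (Subgroup.zpowers g).map ι from (MonoidHom.map_zpowers ι g).symm,
      hPG, ← Subgroup.map_commutator, ← Subgroup.map_commutator, hcomm, Subgroup.map_bot]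
  have hst' := hst PG (hP.map _) _ hgG hcommG
  set CH := (Subgroup.centralizer (P : Set X)).subgroupOf (Subgroup.normalizer (P : Set X)) with hCH
  set CG := (Subgroup.centralizer (PG : Set G)).subgroupOf (Subgroup.normalizer (PG : Set G)) with hCG
  haveI : CH.Normal := inferInstance
  haveI : CG.Normal := inferInstance
  let f : ↥(Subgroup.normalizer (P : Set X)) →* ↥(Subgroup.normalizer (PG : Set G)) :=
    (ι.comp (Subgroup.normalizer (P : Set X)).subtype).codRestrict _ fun u =>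
      Subgroup.le_normalizer_map ι (Subgroup.mem_map_of_mem _ u.2)
  have hf : CH ≤ CG.comap f := by
    intro u hu
    rw [Subgroup.mem_comap, hCG, Subgroup.mem_subgroupOf, Subgroup.mem_centralizer_iff]
    rintro _ ⟨a, ha, rfl⟩
    show ι a * ι (u : X) = ι (u : X) * ι a
    rw [← map_mul, ← map_mul, Subgroup.mem_centralizer_iff.1 (Subgroup.mem_subgroupOf.1 hu) a ha]
  let F := QuotientGroup.map CH CG f hf
  have hinj : Function.Injective F := by
    rw [← MonoidHom.ker_eq_bot_iff, eq_bot_iff]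
    intro u hu
    obtain ⟨u, rfl⟩ := QuotientGroup.mk_surjective u
    rw [MonoidHom.mem_ker, QuotientGroup.map_mk, QuotientGroup.eq_one_iff] at hu
    rw [Subgroup.mem_bot, QuotientGroup.eq_one_iff, hCH, Subgroup.mem_subgroupOf,
      Subgroup.mem_centralizer_iff]
    intro a ha
    refine hι ?_
    rw [map_mul, map_mul]
    exact Subgroup.mem_centralizer_iff.1 (Subgroup.mem_subgroupOf.1 hu) _ (Subgroup.mem_map_of_mem ι ha)
  haveI := H1.pCore_normal' p (↥(Subgroup.normalizer (PG : Set G)) ⧸ CG)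
  have hle : (Cfsg.pCore p (↥(Subgroup.normalizer (PG : Set G)) ⧸ CG)).comap F ≤ Cfsg.pCore p _ :=
    H1.le_pCore ((H1.isPGroup_pCore p _).comap_of_injective F hinj)
  exact hle hst'

variable {p : ℕ} [Fact p.Prime] {G : Type u} [Group G] [Finite G]

/-- All sections are `p`-stable once all `K/R` are. -/
theorem pStable_section (hst : ∀ (K R : Subgroup G) [hR : (R.subgroupOf K).Normal],
      Cfsg.IsNormalizerPStable p (↥K ⧸ R.subgroupOf K))
    {X : Type u} [Group X] (hX : IsSectionOf X G) : Cfsg.IsNormalizerPStable p X := by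
  obtain ⟨K, R, hR, ⟨e⟩⟩ := hX.exists_equiv
  exact isNormalizerPStable_of_injective e.symm.toMonoidHom e.symm.injective (hst K R)

theorem sf_of_normal {W : ∀ (Q : Type u) [Group Q], Subgroup Q} (hW : Cfsg.IsCharPFunctor.{u} p W)
    {𝓦 : Set (∀ (Q : Type u) [Group Q], Subgroup Q)} (hmem : W ∈ 𝓦) (S : Sylow p G)
    (hn : (Cfsg.inducedFunctor W (S : Subgroup G)).Normal) : SF 𝓦 p G := by
  refine familyControlsStrongFusionIn_top_of_fusGen (sylIn_top S) fun A g hA hgA B hB _ => ?_
  refine ⟨hB.trans hA, (cset_mono hB).trans hgA, g * 1,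
    ChainFrom.refl.step ⟨_, ⟨W, hmem, rfl⟩, Subgroup.mem_top g, ?_⟩
      (by rw [mul_one]; exact (cset_mono hB).trans hgA), fun a _ => by rw [mul_one]⟩
  haveI := hn
  rw [Subgroup.normalizer_eq_top]
  trivial

/-- A product of two normalizers controls fusion. -/
theorem sf_of_product {𝓦 : Set (∀ (Q : Type u) [Group Q], Subgroup Q)}
    (h𝓦 : ∀ W ∈ 𝓦, Cfsg.IsCharPFunctor.{u} p W)
    {W₁ W₂ : ∀ (Q : Type u) [Group Q], Subgroup Q} (h₁ : W₁ ∈ 𝓦) (h₂ : W₂ ∈ 𝓦) (S : Sylow p G)
    (hfac : ∀ x : G,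
      ∃ a ∈ Subgroup.normalizer ((Cfsg.inducedFunctor W₁ (S : Subgroup G) : Subgroup G) : Set G),
      ∃ b ∈ Subgroup.normalizer ((Cfsg.inducedFunctor W₂ (S : Subgroup G) : Subgroup G) : Set G),
        x = a * b) : SF 𝓦 p G := by
  refine familyControlsStrongFusionIn_top_of_fusGen (sylIn_top S) fun A g hA hgA => ?_
  obtain ⟨a, ha, b, hb, rfl⟩ := hfac g
  set N₁ := Subgroup.normalizer ((Cfsg.inducedFunctor W₁ (S : Subgroup G) : Subgroup G) : Set G)
  set N₂ := Subgroup.normalizer ((Cfsg.inducedFunctor W₂ (S : Subgroup G) : Subgroup G) : Set G)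
  have hS₁ : (S : Subgroup G) ≤ N₁ :=
    le_normalizer_functor (isConjugacyFunctor_inducedFunctor (h𝓦 _ h₁) G) S.2
  have hS₂ : (S : Subgroup G) ≤ N₂ :=
    le_normalizer_functor (isConjugacyFunctor_inducedFunctor (h𝓦 _ h₂) G) S.2
  have hPL : Subgroup.closure (cset b A) ≤ N₁ ⊓ N₂ := by
    rw [Subgroup.closure_le]
    rintro _ ⟨x, hx, rfl⟩
    refine ⟨?_, N₂.mul_mem (N₂.mul_mem hb (hS₂ (hA hx))) (N₂.inv_mem hb)⟩
    have h1 := hS₁ (hgA ⟨x, hx, rfl⟩)
    have h2 := N₁.mul_mem (N₁.mul_mem (N₁.inv_mem ha) h1) ha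
    simpa [mul_assoc] using h2
  have hPp : IsPGroup p (Subgroup.closure (cset b A)) := by
    rw [closure_conj_image]
    exact (S.2.to_le ((Subgroup.closure_le _).mpr hA)).map _
  obtain ⟨m, ⟨hm₁, hm₂⟩, hmP⟩ :=
    ((sylIn_top S).of_le (le_inf hS₁ hS₂) le_top).exists_conj_le hPp hPL
  have hmA : cset (m * b) A ⊆ (S : Subgroup G) := by
    rintro _ ⟨x, hx, rfl⟩
    have := hmP ⟨_, Subgroup.subset_closure ⟨x, hx, rfl⟩, rfl⟩
    show m * b * x * (m * b)⁻¹ ∈ (S : Subgroup G)
    simpa [MulAut.conj_apply, mul_assoc] using this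
  intro B hB _
  have hmB : cset (m * b) B ⊆ (S : Subgroup G) := (cset_mono hB).trans hmA
  have e : a * m⁻¹ * (m * b * 1) = a * b := by group
  have hy₁ : m * b ∈ genSet (famOf 𝓦 G) ⊤ (S : Subgroup G) :=
    ⟨_, ⟨W₂, h₂, rfl⟩, Subgroup.mem_top _, N₂.mul_mem hm₂ hb⟩
  have hy₂ : a * m⁻¹ ∈ genSet (famOf 𝓦 G) ⊤ (S : Subgroup G) :=
    ⟨_, ⟨W₁, h₁, rfl⟩, Subgroup.mem_top _, N₁.mul_mem ha (N₁.inv_mem hm₁)⟩
  refine ⟨hB.trans hA, (cset_mono hB).trans hgA, a * m⁻¹ * (m * b * 1),
    (ChainFrom.refl.step hy₁ (by rw [mul_one]; exact hmB)).step hy₂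
      (by rw [e]; exact (cset_mono hB).trans hgA), fun x _ => by rw [e]⟩

/-- A single functor: strong fusion controlled by its value at the Sylow subgroup. -/
theorem controlsStrongFusion_of_sf {W : ∀ (Q : Type u) [Group Q], Subgroup Q}
    (hW : Cfsg.IsCharPFunctor.{u} p W) (h : SF {W} p G) (T : Sylow p G) :
    Cfsg.ControlsStrongFusion p (Cfsg.inducedFunctor W (T : Subgroup G)) := by
  refine ⟨T, inducedFunctor_le _, fun A hA => ⟨hA, fun g hgA => ?_⟩⟩
  obtain ⟨-, -, c, hc, hce⟩ := familyControlsStrongFusionIn_any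
    (famOf_isConjugacyFunctor (𝓦 := {W}) (by simpa using hW)) h (sylIn_top T) (Subgroup.mem_top g) hA hgA
    A subset_rfl (Or.inl hA)
  refine ⟨c, ?_, fun a ha => (hce a ha).symm⟩
  clear hce
  induction hc with
  | refl => exact Subgroup.one_mem _
  | @step d y hd hy hs ih =>
    obtain ⟨V, hV, -, hy⟩ := hy
    rw [famOf_singleton, Set.mem_singleton_iff] at hV
    subst hV
    exact Subgroup.mul_mem _ hy ih

/-- `W(S)` normal in the constrained sections. -/
theorem sf_of_normal_sections {W : ∀ (Q : Type u) [Group Q], Subgroup Q}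
    (hW : Cfsg.IsCharPFunctor.{u} p W)
    (hloc : ∀ (X : Type u) [Group X] [Finite X], IsSectionOf X G →
      Subgroup.centralizer ((Cfsg.pCore p X : Subgroup X) : Set X) ≤ Cfsg.pCore p X →
      ∀ S : Sylow p X, (Cfsg.inducedFunctor W (S : Subgroup X)).Normal) :
    ∀ (X : Type u) [Group X] [Finite X], IsSectionOf X G → SF {W} p X := by
  refine sf_of_sections (𝓦 := {W}) (by simpa using hW) ⟨W, rfl⟩ fun X _ _ hX hc => ?_
  obtain ⟨S⟩ : Nonempty (Sylow p X) := inferInstance
  exact sf_of_normal hW rfl S (hloc X hX hc S)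

/-- The normality hypothesis, transported from the sections `K/R`. -/
theorem normal_of_template {W : ∀ (Q : Type u) [Group Q], Subgroup Q} (hW : Cfsg.IsCharPFunctor.{u} p W)
    (hloc : ∀ (K R : Subgroup G) [hR : (R.subgroupOf K).Normal],
      Subgroup.centralizer ((Cfsg.pCore p (↥K ⧸ R.subgroupOf K) : Subgroup (↥K ⧸ R.subgroupOf K)) :
        Set (↥K ⧸ R.subgroupOf K)) ≤ Cfsg.pCore p (↥K ⧸ R.subgroupOf K) →
      ∀ T : Sylow p (↥K ⧸ R.subgroupOf K), (Cfsg.inducedFunctor (G := (↥K ⧸ R.subgroupOf K)) W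
        ((T : Subgroup (↥K ⧸ R.subgroupOf K)))).Normal)
    (X : Type u) [Group X] [Finite X] (hX : IsSectionOf X G)
    (hc : Subgroup.centralizer ((Cfsg.pCore p X : Subgroup X) : Set X) ≤ Cfsg.pCore p X) (S : Sylow p X) :
    (Cfsg.inducedFunctor W (S : Subgroup X)).Normal := by
  obtain ⟨K, R, hR, ⟨e⟩⟩ := hX.exists_equiv
  have h := hloc K R (constrained_of_equiv e.symm hc)
    (S.mapSurjective (f := e.symm.toMonoidHom) e.symm.surjective)
  rw [show ((S.mapSurjective (f := e.symm.toMonoidHom) e.symm.surjective :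
      Sylow p (↥K ⧸ R.subgroupOf K)) : Subgroup (↥K ⧸ R.subgroupOf K)) =
        (S : Subgroup X).map e.symm.toMonoidHom from rfl,
    ← map_inducedFunctor hW e.symm.toMonoidHom e.symm.injective S.2] at h
  have h' := h.comap e.symm.toMonoidHom
  rwa [Subgroup.comap_map_eq_self_of_injective e.symm.injective] at h'

/-- The K-infinity subgroups are normal in constrained sections of an everywhere `p`-stable group. -/
theorem kInf_normal_of_stable (hst : ∀ (K R : Subgroup G) [hR : (R.subgroupOf K).Normal],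
      Cfsg.IsNormalizerPStable p (↥K ⧸ R.subgroupOf K))
    (X : Type u) [Group X] [Finite X] (hX : IsSectionOf X G)
    (hc : Subgroup.centralizer ((Cfsg.pCore p X : Subgroup X) : Set X) ≤ Cfsg.pCore p X) (S : Sylow p X) :
    (Cfsg.inducedFunctor Cfsg.kInfLower (S : Subgroup X)).Normal ∧
      (Cfsg.inducedFunctor Cfsg.kInfUpper (S : Subgroup X)).Normal := by
  constructor <;> by_contra hn
  · obtain ⟨g, -, -, -, -, hns⟩ := Cfsg.Agent.S1983.result S (Or.inl hn)
    obtain ⟨N, hN, hns⟩ := hns hc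
    exact hns (pStable_section hst (hX.quotient N))
  · obtain ⟨g, -, -, -, -, hns⟩ := Cfsg.Agent.S1983.result S (Or.inr hn)
    obtain ⟨N, hN, hns⟩ := hns hc
    exact hns (pStable_section hst (hX.quotient N))

end H73
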