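import Cfsg.Agent.H73.PComplementEngel
import Cfsg.Agent.H73.StrongFusionCriteria
import Cfsg.Agent.H11.QdSection

/-!
`p`-stability on chief factors and strong fusion in `Qd(p)`-free groups (helper73).
-/

set_option autoImplicit false

namespace H73

open Subgroup
open scoped commutatorElement

universe u

variable {p : ℕ} [Fact p.Prime]

/-- A quadratic nontrivial action on a chief factor refutes stability on it. -/
theorem not_isPStableOn_chief {X : Type u} [Group X] [Finite X] {U V : Subgroup X}
    (hUV : Cfsg.IsChiefFactor U V) (hU : IsPGroup p U) {g : X}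
    (h2 : ⁅⁅U, Subgroup.zpowers g⁆, Subgroup.zpowers g⁆ ≤ V)
    (h1 : ¬ ⁅U, Subgroup.zpowers g⁆ ≤ V) [V.Normal]
    [(U.map (QuotientGroup.mk' V)).Normal] :
    ¬ Cfsg.IsPStableOn p (U.map (QuotientGroup.mk' V)) := by
  intro hst
  apply h1
  haveI := hUV.2.1
  set π := QuotientGroup.mk' V with hπ
  have hπs : Function.Surjective π := QuotientGroup.mk'_surjective V
  set P' := U.map π with hP'
  have hg := hst (π g) (by
    rw [← MonoidHom.map_zpowers, ← Subgroup.map_commutator, ← Subgroup.map_commutator,
      Subgroup.map_eq_bot_iff, QuotientGroup.ker_mk']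
    exact h2)
  set q := (QuotientGroup.mk' (Subgroup.centralizer (P' : Set (X ⧸ V)))).comp π with hq
  haveI := H1.pCore_normal' p ((X ⧸ V) ⧸ Subgroup.centralizer (P' : Set (X ⧸ V)))
  set K := (Cfsg.pCore p ((X ⧸ V) ⧸ Subgroup.centralizer (P' : Set (X ⧸ V)))).comap q with hK
  haveI : K.Normal := Subgroup.Normal.comap inferInstance _
  have hker : ∀ x : X, q x = 1 → x ∈ factorCentralizer U V := by
    intro x hx u hu
    have h3 : π x ∈ Subgroup.centralizer (P' : Set (X ⧸ V)) := (QuotientGroup.eq_one_iff (π x)).mp hx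
    have h4 := Subgroup.mem_centralizer_iff.mp h3 (π u) ⟨u, hu, rfl⟩
    refine (QuotientGroup.eq_one_iff _).mp ?_
    show π ⁅u, x⁆ = 1
    rw [map_commutatorElement, commutatorElement_eq_one_iff_mul_comm]
    exact h4
  have hKle : K ≤ factorCentralizer U V := le_factorCentralizer_of_pPrime hUV hU fun x hx hxc =>
    hker x (H75.eq_one_of_mem_of_coprime (H1.isPGroup_pCore p _) hx
      (hxc.coprime_dvd_left (orderOf_map_dvd q x)))
  exact commutator_zpowers_le_iff.mpr (hKle (show g ∈ K from hg))

/-- Sections inherit freeness from `Qd(p)`. -/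
theorem IsSectionOf.not_involves {G X : Type u} [Group G] [Finite G] [Group X] (h : IsSectionOf X G) {H : Type*}
    [Group H] (hfree : ¬ Cfsg.Involves H G) : ¬ Cfsg.Involves H X := by
  intro hX
  obtain ⟨M, f, hf⟩ := h
  obtain ⟨K, R, hR, ⟨e⟩⟩ := H11.involves_of_involves_quotient f hf hX
  haveI := hR
  let j := K.equivMapOfInjective M.subtype M.subtype_injective
  exact hfree (H74.S4Section.involves_of_surjective
    ((e.toMonoidHom.comp (QuotientGroup.mk' (R.subgroupOf K))).comp j.symm.toMonoidHom)
    ((e.surjective.comp (QuotientGroup.mk'_surjective _)).comp j.symm.surjective))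

/-- The lower K-infinity subgroup is normal in constrained `Qd(p)`-free groups, `p` odd. -/
theorem kInfLower_normal_of_qdFree (hp : p ≠ 2) {X : Type u} [Group X] [Finite X]
    (hfree : ¬ Cfsg.Involves ↥(Cfsg.qd p) X)
    (hc : Subgroup.centralizer ((Cfsg.pCore p X : Subgroup X) : Set X) ≤ Cfsg.pCore p X) (S : Sylow p X) :
    (Cfsg.inducedFunctor Cfsg.kInfLower (S : Subgroup X)).Normal := by
  by_contra hn
  obtain ⟨g, -, -, U, V, hUV, hU, h2, hne⟩ := exists_quadratic_chief S hn hc
  haveI := hUV.2.2.1
  haveI := hUV.2.1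
  have hUp : IsPGroup p U := (H1.isPGroup_pCore p X).to_le hU
  haveI : (U.map (QuotientGroup.mk' V)).Normal :=
    Subgroup.Normal.map inferInstance _ (QuotientGroup.mk'_surjective _)
  refine not_isPStableOn_chief hUV hUp h2 hne (H11.isPStableOn_of_not_involves_qd hp _ (X ⧸ V) le_rfl
    (fun h => hfree (H11.involves_of_involves_quotient _ (QuotientGroup.mk'_surjective V) h)) _ (hUp.map _))

/-- In `Qd(p)`-free groups the K-infinity subgroup controls strong fusion in all sections. -/
theorem sf_of_qdFree (hp : p ≠ 2) {G : Type u} [Group G] [Finite G]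
    (hfree : ¬ Cfsg.Involves ↥(Cfsg.qd p) G) (X : Type u) [Group X] [Finite X] (hX : IsSectionOf X G) :
    SF {Cfsg.kInfLower.{u}} p X :=
  sf_of_normal_sections kInfLower_isCharPFunctor
    (fun _ _ _ hY hc S => kInfLower_normal_of_qdFree hp (hY.not_involves hfree) hc S) X hX

end H73
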