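import Cfsg.Agent.H79.QdSylow
import Cfsg.Agent.H1.Cores
import Cfsg.Prelude.Def_ConjugacyFunctors

/-!
In `Qd(p)` no set of characteristic functors controls fusion (helper73).
-/

set_option autoImplicit false

namespace H73

open Subgroup H74 H74.Qd

universe u

variable {p : ℕ} [Fact p.Prime]

theorem lin_el_entry (x : ZMod p) (t : Fin 2 → ZMod p) :
    (lin (el x t) : Matrix (Fin 2) (Fin 2) (ZMod p)) 0 1 = x := by
  simp [SL2.coe_uT]

/-- An outer involution of the unitriangular part, moving the centre of the translations. -/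
def qdFlipFun (u : H79.qdU p) : H79.qdU p :=
  ⟨el (vec (u : Cfsg.qdOver (ZMod p)) 1)
    ![(lin (u : Cfsg.qdOver (ZMod p)) : Matrix (Fin 2) (Fin 2) (ZMod p)) 0 1 *
        vec (u : Cfsg.qdOver (ZMod p)) 1 - vec (u : Cfsg.qdOver (ZMod p)) 0,
      (lin (u : Cfsg.qdOver (ZMod p)) : Matrix (Fin 2) (Fin 2) (ZMod p)) 0 1],
    H79.el_mem_qdU _ _⟩

theorem qdFlipFun_el (x : ZMod p) (t : Fin 2 → ZMod p) (h : el x t ∈ H79.qdU p) :
    qdFlipFun ⟨el x t, h⟩ = ⟨el (t 1) ![x * t 1 - t 0, x], H79.el_mem_qdU _ _⟩ := by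
  apply Subtype.ext
  show el _ _ = el _ _
  rw [lin_el_entry, vec_mk]

theorem qdFlipFun_invol (u : H79.qdU p) : qdFlipFun (qdFlipFun u) = u := by
  obtain ⟨u, hu⟩ := u
  obtain ⟨x, t, rfl⟩ := H79.exists_el hu
  rw [qdFlipFun_el, qdFlipFun_el]
  refine Subtype.ext (congrArg₂ el (by simp) ?_)
  funext i
  fin_cases i <;> simp <;> ring

theorem qdFlipFun_mul (u v : H79.qdU p) : qdFlipFun (u * v) = qdFlipFun u * qdFlipFun v := by
  obtain ⟨u, hu⟩ := u
  obtain ⟨v, hv⟩ := v
  obtain ⟨x, s, rfl⟩ := H79.exists_el hu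
  obtain ⟨y, t, rfl⟩ := H79.exists_el hv
  have e : (⟨el x s, hu⟩ * ⟨el y t, hv⟩ : H79.qdU p) =
      ⟨el (x + y) ![t 0 + x * t 1 + s 0, t 1 + s 1], H79.el_mem_qdU _ _⟩ :=
    Subtype.ext (el_mul x y s t)
  rw [e, qdFlipFun_el, qdFlipFun_el, qdFlipFun_el]
  apply Subtype.ext
  show el _ _ = el _ _ * el _ _
  rw [el_mul]
  refine congrArg₂ el (by simp [add_comm]) ?_
  funext i
  fin_cases i <;> simp <;> ring

/-- The involution as an automorphism. -/
def qdFlip : H79.qdU p ≃* H79.qdU p where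
  toFun := qdFlipFun
  invFun := qdFlipFun
  left_inv := qdFlipFun_invol
  right_inv := qdFlipFun_invol
  map_mul' := qdFlipFun_mul

theorem isPGroup_qdU : IsPGroup p (H79.qdU p) := by
  refine IsPGroup.comap_of_ker_isPGroup ?_ lin isPGroup_ker_lin
  refine IsPGroup.of_card (n := 1) ?_
  rw [pow_one, SL2.card_upper, Nat.card_eq_fintype_card, ZMod.card]

theorem not_dvd_index_qdU : ¬ p ∣ (H79.qdU p).index := by
  rw [H79.qdU, Subgroup.index_comap_of_surjective _
    (fun A => ⟨mk A 0, lin_mk A 0⟩ : Function.Surjective (lin (F := ZMod p)))]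
  exact (SL2.upperSylow (F := ZMod p) p).not_dvd_index

variable {Y : Type u} [Group Y] [Finite Y]

/-- The normalizer of a characteristic subgroup of the unitriangular part fixes the line of its centre. -/
theorem lin_entry_of_normalizer (f : Y ≃* Cfsg.qdOver (ZMod p))
    {W : ∀ (Q : Type u) [Group Q], Subgroup Q} (hW : Cfsg.IsCharPFunctor.{u} p W) {n : Y}
    (hn : n ∈ Subgroup.normalizer
      ((Cfsg.inducedFunctor W ((H79.qdU p).comap f.toMonoidHom) : Subgroup Y) : Set Y)) :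
    (lin (f n) : Matrix (Fin 2) (Fin 2) (ZMod p)) 1 0 = 0 := by
  set T := (H79.qdU p).comap f.toMonoidHom with hT
  let eT : T ≃* H79.qdU p :=
    { toFun := fun y => ⟨f y, y.2⟩
      invFun := fun u => ⟨f.symm u, by
        show f (f.symm u) ∈ H79.qdU p
        rw [MulEquiv.apply_symm_apply]
        exact u.2⟩
      left_inv := fun y => Subtype.ext (f.symm_apply_apply _)
      right_inv := fun u => Subtype.ext (f.apply_symm_apply _)
      map_mul' := fun y z => Subtype.ext (map_mul f _ _) }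
  have hTp : IsPGroup p T := isPGroup_qdU.comap_of_injective f.toMonoidHom f.injective
  set φ := eT.trans ((qdFlip (p := p)).trans eT.symm) with hφ
  have hfix : (W ↥T).map φ.toMonoidHom = W ↥T := hW.2 _ _ hTp φ
  have hnt : Nontrivial T := by
    rw [_root_.nontrivial_iff]
    refine ⟨eT.symm ⟨el 1 0, H79.el_mem_qdU _ _⟩, eT.symm 1, fun h => ?_⟩
    have h1 := congrArg (fun u : H79.qdU p => (lin (u : Cfsg.qdOver (ZMod p)) :
      Matrix (Fin 2) (Fin 2) (ZMod p)) 0 1) (eT.symm.injective h)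
    simp [SL2.coe_uT] at h1
  set M := Cfsg.inducedFunctor W T with hM
  have hMT : ∀ y ∈ M, ∃ x t, f y = el x t := by
    rintro _ ⟨w, -, rfl⟩
    exact H79.exists_el w.2
  have hflip : ∀ y ∈ M, ∀ x t, f y = el x t → ∃ y' ∈ M, f y' = el (t 1) ![x * t 1 - t 0, x] := by
    rintro _ ⟨w, hw, rfl⟩ x t e
    refine ⟨(φ w : Y), ⟨φ w, hfix.le ⟨w, hw, rfl⟩, rfl⟩, ?_⟩
    have e1 : eT w = ⟨el x t, H79.el_mem_qdU x t⟩ := Subtype.ext e
    show f (f.symm (qdFlipFun (eT w) : Cfsg.qdOver (ZMod p))) = _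
    rw [e1, qdFlipFun_el, MulEquiv.apply_symm_apply]
  have hconj : ∀ y ∈ M, n * y * n⁻¹ ∈ M := fun y hy => (Subgroup.mem_normalizer_iff.mp hn y).mp hy
  by_cases hall : ∀ y ∈ M, ∀ x t, f y = el x t → x = 0
  · have hline : ∀ y ∈ M, vec (f y) 1 = 0 := by
      intro y hy
      obtain ⟨x, t, e⟩ := hMT y hy
      obtain ⟨y', hy', e'⟩ := hflip y hy x t e
      rw [e, vec_mk]
      exact hall y' hy' _ _ e'
    have hMne : M ≠ ⊥ := fun h => hW.1 T hTp hnt
      ((Subgroup.map_eq_bot_iff_of_injective _ T.subtype_injective).mp h)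
    obtain ⟨y, hy, hy1⟩ := (Subgroup.bot_or_exists_ne_one M).resolve_left hMne
    obtain ⟨x, t, e⟩ := hMT y hy
    have hx := hall y hy x t e
    subst hx
    have ht1 : t 1 = 0 := by have := hline y hy; rwa [e, vec_mk] at this
    have ht0 : t 0 ≠ 0 := by
      intro h0
      refine hy1 (f.injective ?_)
      rw [e, map_one]
      refine ext_lin_vec ?_ ?_
      · rw [lin_mk, map_one]
        exact Subtype.ext (by ext i j; fin_cases i <;> fin_cases j <;> simp [SL2.coe_uT])
      · rw [vec_mk, vec_one]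
        funext i
        fin_cases i <;> simp [ht1, h0]
    have h2 := hline _ (hconj y hy)
    have e0 : el (0 : ZMod p) t = mk 1 t := congrArg (fun A => mk A t)
      (Subtype.ext (by ext i j; fin_cases i <;> fin_cases j <;> simp [SL2.coe_uT]))
    rw [map_mul, map_mul, map_inv, e, e0, conj_translation, vec_mk] at h2
    simp [Matrix.mulVec, dotProduct, Fin.sum_univ_two, ht1] at h2
    exact h2.resolve_right ht0
  · push Not at hall
    obtain ⟨y, hy, x, t, e, hx⟩ := hall
    obtain ⟨x', t', e'⟩ := hMT _ (hconj y hy)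
    have h1 : lin (f n) * SL2.uT x = SL2.uT x' * lin (f n) := by
      have h2 := congrArg lin e'
      rw [map_mul, map_mul, map_inv, map_mul, map_mul, map_inv, e, lin_mk, lin_mk] at h2
      exact mul_inv_eq_iff_eq_mul.mp h2
    have h3 := congrArg (fun A : Matrix.SpecialLinearGroup (Fin 2) (ZMod p) =>
      (A : Matrix (Fin 2) (Fin 2) (ZMod p)) 1 1) h1
    simp [SL2.coe_uT, Matrix.mul_apply, Fin.sum_univ_two] at h3
    exact h3.resolve_right hx

/-- In `Qd(p)` some fusion inside the core is invisible in all normalizers of characteristic subgroups of a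
Sylow subgroup. -/
theorem exists_uncontrolled (f : Y ≃* ↥(Cfsg.qd p)) (T : Sylow p Y) :
    ∃ (z g : Y) (L : Set Y), z ∈ Cfsg.pCore p Y ∧ z ∈ L ∧ g * z * g⁻¹ ∉ L ∧
      ∀ W : ∀ (Q : Type u) [Group Q], Subgroup Q, Cfsg.IsCharPFunctor.{u} p W →
        ∀ n ∈ Subgroup.normalizer ((Cfsg.inducedFunctor W (T : Subgroup Y) : Subgroup Y) : Set Y),
          ∀ y ∈ L, n * y * n⁻¹ ∈ L := by
  revert f
  change ∀ f : Y ≃* ↥(Cfsg.qdOver (ZMod p)), _
  intro f
  obtain ⟨c, hc⟩ := MulAction.exists_smul_eq (Cfsg.qdOver (ZMod p))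
    (T.mapSurjective (f := f.toMonoidHom) f.surjective) (isPGroup_qdU.toSylow not_dvd_index_qdU)
  set f' := f.trans (MulAut.conj c) with hf'
  have hTf : (T : Subgroup Y) = (H79.qdU p).comap f'.toMonoidHom := by
    have h1 := congrArg (fun S : Sylow p (Cfsg.qdOver (ZMod p)) =>
      (S : Subgroup (Cfsg.qdOver (ZMod p)))) hc
    simp only [Sylow.coe_subgroup_smul, Sylow.coe_mapSurjective] at h1
    rw [show (H79.qdU p) = (T : Subgroup Y).map f'.toMonoidHom by
      refine h1.symm.trans ?_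
      rw [hf']
      exact Subgroup.map_map _ _ _, Subgroup.comap_map_eq_self_of_injective f'.injective]
  set z := f'.symm (mk 1 ![1, 0]) with hz
  set g := f'.symm (mk ⟨!![0, -1; 1, 0], by simp [Matrix.det_fin_two]⟩ 0) with hg
  refine ⟨z, g, {y | lin (f' y) = 1 ∧ vec (f' y) 1 = 0}, ?_, ?_, ?_, ?_⟩
  · haveI : ((lin (F := ZMod p)).comp f'.toMonoidHom).ker.Normal := inferInstance
    refine H1.le_pCore (N := ((lin (F := ZMod p)).comp f'.toMonoidHom).ker) ?_ ?_
    · rw [← MonoidHom.comap_ker]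
      exact isPGroup_ker_lin.comap_of_injective f'.toMonoidHom f'.injective
    · show lin (f' z) = 1
      rw [hz, MulEquiv.apply_symm_apply, lin_mk]
  · simp [hz]
  · rintro ⟨-, h⟩
    rw [map_mul, map_mul, map_inv, hz, hg, MulEquiv.apply_symm_apply, MulEquiv.apply_symm_apply,
      conj_translation, vec_mk] at h
    erw [lin_mk] at h
    simp [Matrix.mulVec, dotProduct, Fin.sum_univ_two] at h
  · intro W hW n hn y hy
    rw [hTf] at hn
    have h10 := lin_entry_of_normalizer f' hW hn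
    have e : f' y = mk 1 (vec (f' y)) := by conv_lhs => rw [← mk_lin_vec (f' y), hy.1]
    have e' : f' (n * y * n⁻¹) =
        mk 1 ((lin (f' n) : Matrix (Fin 2) (Fin 2) (ZMod p)).mulVec (vec (f' y))) := by
      rw [map_mul, map_mul, map_inv, e, conj_translation, vec_mk]
    refine ⟨?_, ?_⟩
    · rw [e', lin_mk]
    · rw [e', vec_mk]
      simp [Matrix.mulVec, dotProduct, Fin.sum_univ_two, h10, hy.2]

/-- Neither one functor nor a set of them controls strong fusion in `Qd(p)`. -/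
theorem not_controlsStrongFusion_qd (f : Y ≃* ↥(Cfsg.qd p)) (T : Sylow p Y)
    {W : ∀ (Q : Type u) [Group Q], Subgroup Q} (hW : Cfsg.IsCharPFunctor.{u} p W) :
    ¬ Cfsg.ControlsStrongFusion p (Cfsg.inducedFunctor W (T : Subgroup Y)) := by
  rintro ⟨T', -, h⟩
  obtain ⟨z, g, L, hzQ, hzL, hgL, hn⟩ := exists_uncontrolled f T
  haveI := H1.pCore_normal' p Y
  have hQT := H1.pCore_le_sylow T'
  have h1 := (h {z} (Set.singleton_subset_iff.mpr (hQT hzQ))).2 g (by
    rw [Set.image_singleton, Set.singleton_subset_iff]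
    exact hQT (Subgroup.Normal.conj_mem inferInstance z hzQ g))
  obtain ⟨x, hx, he⟩ := h1
  exact hgL (he z rfl ▸ hn W hW x hx z hzL)

theorem not_familyControlsStrongFusion_qd (f : Y ≃* ↥(Cfsg.qd p))
    {𝓦 : Set (∀ (Q : Type u) [Group Q], Subgroup Q)} (h𝓦 : ∀ W ∈ 𝓦, Cfsg.IsCharPFunctor.{u} p W) :
    ¬ Cfsg.FamilyControlsStrongFusionIn p
      ((fun W => Cfsg.inducedFunctor (G := Y) W) '' 𝓦) ⊤ := by
  rintro ⟨T, -, hTp, hTi, h⟩
  rw [Subgroup.relIndex_top_right] at hTi
  obtain ⟨z, g, L, hzQ, hzL, hgL, hn⟩ := exists_uncontrolled f (hTp.toSylow hTi)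
  haveI := H1.pCore_normal' p Y
  have hQT : Cfsg.pCore p Y ≤ T := H1.pCore_le_sylow (hTp.toSylow hTi)
  obtain ⟨m, c, hc0, hstep, -, hlast⟩ := h {z} g (Subgroup.mem_top g)
    (Set.singleton_subset_iff.mpr (hQT hzQ)) (by
      rw [Set.image_singleton, Set.singleton_subset_iff]
      exact hQT (Subgroup.Normal.conj_mem inferInstance z hzQ g))
  have hall : ∀ i, c i * z * (c i)⁻¹ ∈ L := by
    intro i
    induction i using Fin.induction with
    | zero => rw [hc0]; simpa using hzL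
    | succ i ih =>
      obtain ⟨_, ⟨W, hW, rfl⟩, hm⟩ := hstep i
      have h2 := hn W (h𝓦 W hW) _ hm.2 _ ih
      simpa [mul_assoc] using h2
  exact hgL (hlast z rfl ▸ hall _)

end H73
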