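import Cfsg.Agent.H73.PComplement
import Cfsg.Agent.H73.KFunctor

/-!
Normal p-complements from elements with `(g-1)^(p-1) = 0` on a chief factor, and for the K-infinity subgroup (helper73).
-/

set_option autoImplicit false

namespace H73

open Subgroup
open scoped commutatorElement

universe u

variable {p : ℕ} [Fact p.Prime] {Y : Type u} [Group Y] [Finite Y]

/-- In a constrained group with maximal Sylow subgroup and a normal `p`-complement above the core no
element outside the core acts nontrivially with `(g-1)^(p-1) = 0` on a chief factor below the core. -/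
theorem engel_contradiction
    (hq : haveI := H1.pCore_normal' p Y; Cfsg.HasNormalPComplement p (Y ⧸ Cfsg.pCore p Y))
    (T : Sylow p Y) (hmax : IsCoatom (T : Subgroup Y)) {g : Y} (hgT : g ∈ (T : Subgroup Y))
    (hgQ : g ∉ Cfsg.pCore p Y) {U V : Subgroup Y} (hUV : Cfsg.IsChiefFactor U V)
    (hU : U ≤ Cfsg.pCore p Y)
    (hiter : Cfsg.iterCommutator U (Subgroup.zpowers g) (p - 1) ≤ V)
    (hne : ¬ ⁅U, Subgroup.zpowers g⁆ ≤ V) : False := by
  have hp : p.Prime := Fact.out
  set Q := Cfsg.pCore p Y with hQdef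
  haveI hQn : Q.Normal := H1.pCore_normal' p Y
  have hQp : IsPGroup p Q := H1.isPGroup_pCore p Y
  have hQT : Q ≤ (T : Subgroup Y) := H1.pCore_le_sylow T
  set π := QuotientGroup.mk' Q with hπ
  have hπs : Function.Surjective π := QuotientGroup.mk'_surjective Q
  have hπ1 : ∀ {x : Y}, π x = 1 ↔ x ∈ Q := QuotientGroup.eq_one_iff _
  set P' := T.mapSurjective hπs with hP'
  have hP'coe : (P' : Subgroup (Y ⧸ Q)) = (T : Subgroup Y).map π := Sylow.coe_mapSurjective _ _
  set K' := Cfsg.pResidual p (Y ⧸ Q) with hK'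
  have hK'c : (Nat.card K').Coprime p := by
    rw [Nat.coprime_comm, hp.coprime_iff_not_dvd]
    exact H5.hasNormalPComplement_iff_not_dvd.mp hq
  have hmin : ∀ L : Subgroup (Y ⧸ Q), L ≤ K' →
      (P' : Subgroup (Y ⧸ Q)) ≤ Subgroup.normalizer (L : Set (Y ⧸ Q)) → L ≠ K' → L = ⊥ := by
    intro L hL hLN hLne
    set M := (L ⊔ (P' : Subgroup (Y ⧸ Q))).comap π with hM
    have hPM : (T : Subgroup Y) ≤ M := by
      rw [hM, ← Subgroup.map_le_iff_le_comap, ← hP'coe]
      exact le_sup_right
    rcases hPM.eq_or_lt with e | hlt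
    · have hLp : IsPGroup p L := (T.2.map π).to_le (by
        rw [e, hM, Subgroup.map_comap_eq_self_of_surjective hπs]
        exact le_sup_left)
      exact eq_bot_iff.mpr fun x hx =>
        Subgroup.mem_bot.mpr (H79.inf_eq_one_of_coprime hK'c hLp (hL hx) hx)
    · exfalso
      refine hLne (le_antisymm hL fun k hk => ?_)
      obtain ⟨x, rfl⟩ := hπs k
      have hx : π x ∈ L ⊔ (P' : Subgroup (Y ⧸ Q)) := by
        have : x ∈ M := by rw [hmax.2 M hlt]; exact Subgroup.mem_top x
        exact this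
      obtain ⟨l, hl, s, hs, e⟩ := H1.exists_mul_of_mem_sup hLN hx
      rw [e] at hk ⊢
      have hs1 : s = 1 := H79.inf_eq_one_of_coprime hK'c P'.isPGroup'
        ((mul_mem_cancel_left (hL hl)).mp hk) hs
      rwa [hs1, mul_one]
  have hK'ab : ⁅K', K'⁆ = ⊥ := by
    by_cases hK'1 : K' = ⊥
    · rw [hK'1]; exact eq_bot_iff.mpr (Subgroup.commutator_le_self ⊥)
    set q := (Nat.card K').minFac with hqdef
    have hcard : Nat.card K' ≠ 1 := fun e => hK'1 (Subgroup.eq_bot_of_card_eq _ e)
    haveI : Fact q.Prime := ⟨Nat.minFac_prime hcard⟩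
    obtain ⟨a, ha⟩ := IsPGroup.iff_card.mp P'.isPGroup'
    obtain ⟨R, hR⟩ := H1.exists_invariant_sylow (A := (P' : Subgroup (Y ⧸ Q))) (K := K')
      (H79.le_normalizer_of_conj_mem fun g _ x hx => Subgroup.Normal.conj_mem inferInstance x hx g)
      (ha ▸ hK'c.symm.pow_left a) (Or.inl (H79.isSolvable_pGroup P'.isPGroup')) q
    have hR' : (R : Subgroup K').map K'.subtype = K' := by
      by_contra hne'
      have h1 := hmin _ (Subgroup.map_subtype_le _) hR hne'
      rw [Subgroup.map_eq_bot_iff_of_injective _ K'.subtype_injective] at h1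
      refine R.not_dvd_index ?_
      rw [h1, Subgroup.index_bot]
      exact Nat.minFac_dvd _
    have hKq : IsPGroup q K' := hR' ▸ R.isPGroup'.map _
    have hnil : Group.IsNilpotent K' := hKq.isNilpotent
    haveI : Nontrivial K' := (Subgroup.nontrivial_iff_ne_bot K').mpr hK'1
    have hlt : commutator K' < ⊤ := Group.IsSolvable.commutator_lt_top_of_nontrivial (G := K')
    refine hmin _ (Subgroup.commutator_le_self K') ?_ ?_
    · rw [Subgroup.normalizer_eq_top]; exact le_top
    · intro e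
      rw [← Subgroup.map_subtype_commutator K'] at e
      refine hlt.ne (eq_top_iff.mpr fun x _ => ?_)
      obtain ⟨y, hy, hyx⟩ := e.ge x.2
      exact Subtype.ext hyx ▸ hy
  -- the chief factor
  haveI := hUV.2.1
  haveI := hUV.2.2.1
  have hUp : IsPGroup p U := hQp.to_le hU
  set ρ := QuotientGroup.mk' V with hρ
  have hρ1 : ∀ {u}, ρ u = 1 ↔ u ∈ V := QuotientGroup.eq_one_iff _
  set M := U.map ρ with hM
  haveI : M.Normal := Subgroup.Normal.map inferInstance ρ (QuotientGroup.mk'_surjective _)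
  have hab : ⁅U, U⁆ ≤ V := chief_commutator_le hUV hUp
  haveI hMc : IsMulCommutative M := ⟨⟨fun a b => by
    obtain ⟨u, hu, hu'⟩ := a.2
    obtain ⟨v, hv, hv'⟩ := b.2
    apply Subtype.ext
    show (a : Y ⧸ V) * b = b * a
    rw [← hu', ← hv', ← commutatorElement_eq_one_iff_mul_comm, ← map_commutatorElement, hρ1]
    exact hab (Subgroup.commutator_mem_commutator hu hv)⟩⟩
  letI : CommGroup M := { (inferInstance : Group M) with mul_comm := mul_comm' }
  have hpow : ∀ a : M, a ^ p = 1 := by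
    let K : Subgroup Y :=
      { carrier := {u | u ∈ U ∧ ρ u ^ p = 1}
        one_mem' := ⟨U.one_mem, by simp⟩
        mul_mem' := fun {u v} hu hv => ⟨U.mul_mem hu.1 hv.1, by
          have hcomm : Commute (ρ u) (ρ v) := commutatorElement_eq_one_iff_commute.mp (by
            rw [← map_commutatorElement, hρ1]
            exact hab (Subgroup.commutator_mem_commutator hu.1 hv.1))
          rw [map_mul, hcomm.mul_pow, hu.2, hv.2, one_mul]⟩
        inv_mem' := fun {u} hu => ⟨U.inv_mem hu.1, by rw [map_inv, inv_pow, hu.2, inv_one]⟩ }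
    haveI : K.Normal := ⟨fun u hu g => ⟨hUV.2.1.conj_mem u hu.1 g, by
      rw [map_mul, map_mul, map_inv, conj_pow, hu.2, mul_one, mul_inv_cancel]⟩⟩
    have hKU : U ≤ K := by
      rcases hUV.2.2.2 K inferInstance (fun y hy => ⟨hUV.1.le hy, by rw [hρ1.mpr hy, one_pow]⟩)
        (fun u hu => hu.1) with e | e
      · exfalso
        haveI : Nontrivial M := by
          rw [Subgroup.nontrivial_iff_ne_bot, ne_eq, hM, Subgroup.map_eq_bot_iff, hρ, QuotientGroup.ker_mk']
          exact hUV.1.not_ge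
        obtain ⟨j, hj, hj'⟩ := (IsPGroup.nontrivial_iff_card (hUp.map ρ)).mp inferInstance
        obtain ⟨a, ha⟩ := exists_prime_orderOf_dvd_card' p (show p ∣ Nat.card M by
          rw [hj']; exact dvd_pow_self p (by omega))
        obtain ⟨u, hu, hua⟩ := a.2
        have hap : (a : Y ⧸ V) ^ p = 1 := by
          rw [← ha]
          exact_mod_cast congrArg Subtype.val (pow_orderOf_eq_one a)
        have huV : u ∈ V := e.le ⟨hu, by rw [hua, hap]⟩
        have h1 : a = 1 := Subtype.ext (by rw [← hua, hρ1.mpr huV]; rfl)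
        rw [h1, orderOf_one] at ha
        exact hp.ne_one ha.symm
      · exact e.ge
    intro a
    obtain ⟨u, hu, hua⟩ := a.2
    refine Subtype.ext ?_
    show (a : Y ⧸ V) ^ p = 1
    rw [← hua]
    exact (hKU hu).2
  set φ : Y →* MulAut M := (MulAut.conjNormal).comp ρ with hφ
  have hφa : ∀ (y : Y) (a : M), ((φ y a : M) : Y ⧸ V) = ρ y * a * (ρ y)⁻¹ :=
    fun y a => MulAut.conjNormal_apply (ρ y) a
  have hφ1 : ∀ y : Y, φ y = 1 ↔ y ∈ factorCentralizer U V := by
    intro y
    constructor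
    · intro h u hu
      have h1 := congrArg (fun e : MulAut M => ((e ⟨ρ u, u, hu, rfl⟩ : M) : Y ⧸ V)) h
      simp only [hφa, MulAut.one_apply] at h1
      rw [← hρ1, map_commutatorElement, commutatorElement_eq_one_iff_mul_comm]
      exact (mul_inv_eq_iff_eq_mul.mp h1).symm
    · intro h
      ext a
      obtain ⟨u, hu, hua⟩ := a.2
      rw [MulAut.one_apply]
      rw [hφa, ← hua, mul_inv_eq_iff_eq_mul]
      have h1 := h u hu
      rw [← hρ1, map_commutatorElement, commutatorElement_eq_one_iff_mul_comm] at h1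
      exact h1.symm
  have hQker : ∀ x ∈ Q, φ x = 1 := fun x hx => (hφ1 x).mpr
    (commutator_le_iff_le_factorCentralizer.mp (commutator_le_of_chief hQp hUV hU) hx)
  set Kh := K'.comap π with hKh
  haveI hKhn : Kh.Normal := Subgroup.Normal.comap inferInstance π
  set A := Kh.map φ with hA
  have hAc : ∀ a ∈ A, ∀ b ∈ A, a * b = b * a := by
    rintro _ ⟨a, ha, rfl⟩ _ ⟨b, hb, rfl⟩
    rw [← commutatorElement_eq_one_iff_mul_comm, ← map_commutatorElement]
    refine hQker _ (hπ1.mp ?_)
    rw [map_commutatorElement]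
    exact Subgroup.mem_bot.mp (hK'ab.le (Subgroup.commutator_mem_commutator ha hb))
  have hAcop : (Nat.card A).Coprime p := by
    rw [Nat.coprime_comm, hp.coprime_iff_not_dvd]
    intro hd
    obtain ⟨a, ha⟩ := exists_prime_orderOf_dvd_card' p hd
    obtain ⟨x, hx, hxa⟩ := a.2
    have h1 : x ^ Nat.card K' ∈ Q := by
      rw [← hπ1, map_pow]
      exact congrArg Subtype.val (pow_card_eq_one' (G := K') (x := ⟨π x, hx⟩))
    have h2 : a ^ Nat.card K' = 1 := by
      refine Subtype.ext ?_
      rw [Subgroup.coe_pow, ← hxa, ← map_pow, hQker _ h1]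
      rfl
    exact (hp.coprime_iff_not_dvd.mp hK'c.symm) (ha ▸ orderOf_dvd_of_pow_eq_one h2)
  have hγA : ∀ a ∈ A, φ g * a * (φ g)⁻¹ ∈ A := by
    rintro _ ⟨x, hx, rfl⟩
    exact ⟨g * x * g⁻¹, hKhn.conj_mem x hx g, by simp⟩
  have hnil : ∀ b : M, (deltaHom (φ g).toMonoidHom)^[p - 1] b = 1 := by
    intro b
    have key : ∀ n, (((deltaHom (φ g).toMonoidHom)^[n] b : M) : Y ⧸ V) ∈
        (Cfsg.iterCommutator U (Subgroup.zpowers g) n).map ρ := by
      intro n
      induction n with
      | zero => exact b.2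
      | succ n ihn =>
        obtain ⟨u, hu, hu'⟩ := ihn
        rw [Function.iterate_succ_apply']
        refine ⟨⁅g, u⁆, ?_, ?_⟩
        · rw [← commutatorElement_inv]
          exact Subgroup.inv_mem _ (Subgroup.commutator_mem_commutator hu (Subgroup.mem_zpowers g))
        · generalize ((deltaHom (φ g).toMonoidHom)^[n] b) = c at hu' ⊢
          show ρ ⁅g, u⁆ = ((φ g c : M) : Y ⧸ V) / (c : Y ⧸ V)
          rw [hφa, ← hu', map_commutatorElement, commutatorElement_def, div_eq_mul_inv]
    obtain ⟨u, hu, hu'⟩ := key (p - 1)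
    refine Subtype.ext ?_
    rw [← hu']
    exact hρ1.mpr (hiter hu)
  have hnorm : ∀ v : M, ∏ r ∈ Finset.range p, ((φ g) ^ r) v = 1 := by
    intro v
    have h1 := prod_range_prime_eq_one hp (φ g).toMonoidHom v hpow (hnil v)
    have e : ∀ r, ((φ g).toMonoidHom)^[r] v = ((φ g) ^ r) v := by
      intro r
      induction r with
      | zero => simp
      | succ r ihr =>
        rw [Function.iterate_succ_apply', ihr, pow_succ', MulAut.mul_apply]
        rfl
    rwa [Finset.prod_congr rfl fun r _ => e r] at h1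
  have hcomm := commute_of_norm_eq_one hpow A hAc hAcop hγA hnorm
  haveI := factorCentralizer_normal (U := U) (V := V)
  set Z := Kh ⊓ factorCentralizer U V with hZ
  haveI hZn : Z.Normal := Subgroup.normal_inf_normal _ _
  rcases (le_sup_left : (T : Subgroup Y) ≤ (T : Subgroup Y) ⊔ Z).eq_or_lt with e | hlt
  · have hZQ : Z ≤ Q := H1.le_pCore (T.2.to_le (le_sup_right.trans e.ge))
    -- `g` centralizes the complement modulo the core
    have hgK : π g ∈ Subgroup.centralizer (K' : Set (Y ⧸ Q)) := by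
      rw [Subgroup.mem_centralizer_iff]
      intro k hk
      obtain ⟨x, rfl⟩ := hπs k
      rw [← commutatorElement_eq_one_iff_mul_comm, ← map_commutatorElement, hπ1]
      refine hZQ ⟨?_, (hφ1 _).mp ?_⟩
      · show π ⁅x, g⁆ ∈ K'
        rw [map_commutatorElement]
        exact Subgroup.commutator_le_left K' ⊤ (Subgroup.commutator_mem_commutator hk (Subgroup.mem_top _))
      · rw [map_commutatorElement, commutatorElement_eq_one_iff_mul_comm]
        exact (hcomm _ ⟨x, hk, rfl⟩).symm
    set Z' := (P' : Subgroup (Y ⧸ Q)) ⊓ Subgroup.centralizer (K' : Set (Y ⧸ Q)) with hZ'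
    have hPZ : (P' : Subgroup (Y ⧸ Q)) ≤ Subgroup.normalizer (Z' : Set (Y ⧸ Q)) := by
      intro t ht
      rw [mem_normalizer_iff_cj, hZ', cj_inf, cj_of_mem ht, cj_centralizer,
        mem_normalizer_iff_cj.mp (show t ∈ Subgroup.normalizer (K' : Set (Y ⧸ Q)) by
          rw [Subgroup.normalizer_eq_top]; trivial)]
    have hKZ : K' ≤ Subgroup.normalizer (Z' : Set (Y ⧸ Q)) := by
      refine le_trans ?_ (Subgroup.centralizer_le_normalizer _)
      intro k hk
      rw [Subgroup.mem_centralizer_iff]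
      intro z hz
      exact (Subgroup.mem_centralizer_iff.mp hz.2 k hk).symm
    have htop : (P' : Subgroup (Y ⧸ Q)) ⊔ K' = ⊤ :=
      eq_top_of_sylow_le_of_pPrime_mem P' le_sup_left fun x hx =>
        le_sup_right (a := (P' : Subgroup (Y ⧸ Q))) ((H5.mem_pResidual_iff hq).mpr hx)
    haveI : Z'.Normal := Subgroup.normalizer_eq_top_iff.mp (top_le_iff.mp
      (htop.ge.trans (sup_le hPZ hKZ)))
    have h1 : Z' ≤ ⊥ := by
      rw [← H1.pCore_quotient_pCore p Y]
      exact H1.le_pCore (P'.2.to_le inf_le_left)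
    exact hgQ (hπ1.mp (Subgroup.mem_bot.mp (h1 ⟨hP'coe ▸ ⟨g, hgT, rfl⟩, hgK⟩)))
  · have htop := hmax.2 _ hlt
    apply hne
    have hall : (⊤ : Subgroup Y) ≤ factorCentralizer U V := by
      refine le_factorCentralizer_of_pPrime hUV hUp fun x _ hx => ?_
      have hxT : x ∈ (T : Subgroup Y) ⊔ Z := by rw [htop]; trivial
      obtain ⟨t, ht, z, hz, rfl⟩ := Subgroup.mem_sup_of_normal_right.mp hxT
      rw [← hφ1]
      have hzz : φ z = 1 := (hφ1 z).mpr hz.2
      have hTimg : φ (t * z) = φ t := by rw [map_mul, hzz, mul_one]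
      refine H75.eq_one_of_mem_of_coprime (P := (T : Subgroup Y).map φ) (T.2.map φ)
        ⟨t, ht, hTimg.symm⟩ (hx.coprime_dvd_left (orderOf_map_dvd φ (t * z)))
    exact commutator_zpowers_le_iff.mpr fun u hu => hall (Subgroup.mem_top g) u hu

/-- A quadratic, nontrivial action on a chief factor below the core. -/
theorem exists_quadratic_chief (S : Sylow p Y)
    (hK : ¬ (Cfsg.inducedFunctor Cfsg.kInfLower (S : Subgroup Y)).Normal)
    (hC : Subgroup.centralizer ((Cfsg.pCore p Y : Subgroup Y) : Set Y) ≤ Cfsg.pCore p Y) :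
    ∃ g : Y, g ∈ (S : Subgroup Y) ∧ g ∉ Cfsg.pCore p Y ∧ ∃ U V : Subgroup Y, Cfsg.IsChiefFactor U V ∧
      U ≤ Cfsg.pCore p Y ∧ ⁅⁅U, Subgroup.zpowers g⁆, Subgroup.zpowers g⁆ ≤ V ∧
      ¬ ⁅U, Subgroup.zpowers g⁆ ≤ V := by
  set Q := Cfsg.pCore p Y with hQ
  haveI := H1.pCore_normal' p Y
  have hQp : IsPGroup p Q := H1.isPGroup_pCore p Y
  obtain ⟨H, hHchar, -, hH3, hH4⟩ := Cfsg.Agent.S0093.result (p := p) hQp
  haveI := hHchar
  set A := H.map Q.subtype with hA
  haveI : A.Normal := H1.map_subtype_normal_of_characteristic Q H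
  have hAQ : A ≤ Q := Subgroup.map_subtype_le _
  have hQA : ⁅Q, A⁆ ≤ zc A := by
    have htop : (⊤ : Subgroup Q).map Q.subtype = Q := by
      rw [← MonoidHom.range_eq_map, Subgroup.range_subtype]
    rw [← map_zc Q.subtype Q.subtype_injective H, hA, Subgroup.commutator_comm]
    refine (Subgroup.commutator_mono le_rfl htop.ge).trans ?_
    rw [← Subgroup.map_commutator]
    exact Subgroup.map_mono hH3
  have hA2 : ⁅A, A⁆ ≤ zc A := (Subgroup.commutator_mono hAQ le_rfl).trans hQA
  have hA5 : ∀ φ : MulAut ↥Q, (orderOf φ).Coprime p → (∀ a : ↥Q, (a : Y) ∈ A → φ a = a) → φ = 1 :=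
    fun φ hφ hfix => H6.eq_one_of_fixes_self_centralizing hQp hH4 φ hφ
      fun x hx => hfix x ⟨x, hx, rfl⟩
  obtain ⟨g, hgS, hgQ, -, h2, hor⟩ := exists_cubic S.2 (H1.pCore_le_sylow S) hAQ hA2 hQA
    (fun h => hK h.1)
  refine ⟨g, hgS, hgQ, ?_⟩
  rcases hor with hall | ⟨U, V, hUV, hU, hne⟩
  · obtain ⟨U, V, hUV, hU, hne⟩ := exists_chief_not_le hAQ hA5 hC hgQ
    exact ⟨U, V, hUV, hU.trans hAQ, hall U V hUV hU, hne⟩
  · exact ⟨U, V, hUV, hU.trans ((zc_le A).trans hAQ),
      (Subgroup.commutator_mono (Subgroup.commutator_mono hU le_rfl) le_rfl).trans (h2.le.trans bot_le), hne⟩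

/-- The criterion with the K-infinity subgroup. -/
theorem pnil_of_kInfLower {G : Type u} [Group G] [Finite G] (hp : p ≠ 2) (S : Sylow p G)
    (hN : Cfsg.HasNormalPComplement p ↥(Subgroup.normalizer
      ((Cfsg.inducedFunctor Cfsg.kInfLower (S : Subgroup G) : Subgroup G) : Set G))) :
    Cfsg.HasNormalPComplement p G := by
  refine pnil_of_functor kInfLower_isCharPFunctor (fun X _ _ _ hc hq T hmax => ?_) S hN
  by_contra hn
  obtain ⟨g, hg, hgQ, U, V, hUV, hU, h2, hne⟩ := exists_quadratic_chief T hn hc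
  haveI := hUV.2.1
  refine engel_contradiction hq T hmax hg hgQ hUV hU ?_ hne
  refine (iterCommutator_antitone (by rw [Subgroup.normalizer_eq_top]; exact le_top)
    (show 2 ≤ p - 1 by
      have := (Fact.out : p.Prime).two_le
      omega)).trans h2

/-- If the elements of `N(K)` of order prime to `p` centralize `K`, then `N(K)` has a normal p-complement. -/
theorem pnil_normalizer_kInfLower {G : Type u} [Group G] [Finite G] (S : Sylow p G)
    (h : ∀ g ∈ Subgroup.normalizer
        ((Cfsg.inducedFunctor Cfsg.kInfLower (S : Subgroup G) : Subgroup G) : Set G),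
      (orderOf g).Coprime p →
      g ∈ Subgroup.centralizer
        ((Cfsg.inducedFunctor Cfsg.kInfLower (S : Subgroup G) : Subgroup G) : Set G)) :
    Cfsg.HasNormalPComplement p ↥(Subgroup.normalizer
      ((Cfsg.inducedFunctor Cfsg.kInfLower (S : Subgroup G) : Subgroup G) : Set G)) := by
  set K := Cfsg.inducedFunctor Cfsg.kInfLower (S : Subgroup G) with hKdef
  set N := Subgroup.normalizer (K : Set G) with hN
  have hW : Cfsg.IsCharPFunctor.{u} p (fun (Q : Type u) [Group Q] => Cfsg.kInfLower Q) :=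
    kInfLower_isCharPFunctor
  have hSN : (S : Subgroup G) ≤ N :=
    le_normalizer_functor (isConjugacyFunctor_inducedFunctor hW G) S.2
  set C := (Subgroup.centralizer (K : Set G)).subgroupOf N with hC
  haveI : C.Normal := ⟨fun a ha k =>
    (Subgroup.mem_normalizer_iff.mp (H75.normalizer_le_normalizer_centralizer K k.2) _).mp ha⟩
  refine hasNormalPComplement_of_central (S.subtype hSN) C (fun x hx c hc => ?_) (fun x hx => ?_)
  · have hxK : (x : G) ∈ K := by
      refine ⟨⟨x, hx.1⟩, centralizer_kInfLower_le S.2 ?_, rfl⟩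
      rw [Subgroup.mem_centralizer_iff]
      intro k hk
      exact Subtype.ext (Subgroup.mem_centralizer_iff.mp hx.2 _ ⟨k, hk, rfl⟩)
    exact Subtype.ext (Subgroup.mem_centralizer_iff.mp hc _ hxK)
  · exact h x x.2 (by rwa [Subgroup.orderOf_coe])

end H73
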