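import Mathlib
import Cfsg.Agent.H31.SectRank
import Cfsg.Agent.H6.NormalAbelian

/-!
MacWilliams' four generator theorem, preparations.

`A` is maximal among the normal abelian subgroups of exponent dividing 4 of the 2-group `P`,
`V` its subgroup of involutions, `C = C(A)`, `D = C(V)`.
The key: an element `x` of `D` inverting no element of `A \ V`, central modulo `C`, with
`x ^ 2` a square from `C`, gives a normal elementary abelian subgroup properly containing `V`.
-/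

set_option autoImplicit false
set_option linter.unusedSectionVars false
set_option linter.style.haveILetI false

namespace H73.MW

open scoped commutatorElement

universe u

variable {P : Type u} [Group P] [Finite P]

theorem centralizer_normal_of_normal {H : Subgroup P} (h : H.Normal) :
    (Subgroup.centralizer (H : Set P)).Normal := by
  refine ⟨fun c hc g => ?_⟩
  rw [Subgroup.mem_centralizer_iff] at hc ⊢
  intro a ha
  have h1 := hc _ (h.conj_mem a ha g⁻¹)
  calc a * (g * c * g⁻¹) = g * ((g⁻¹ * a * g⁻¹⁻¹) * c) * g⁻¹ := by group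
    _ = g * (c * (g⁻¹ * a * g⁻¹⁻¹)) * g⁻¹ := by rw [h1]
    _ = g * c * g⁻¹ * a := by group

theorem card_le_two_mul {G : Type*} [Group G] [Finite G] (S K : Subgroup G)
    (h : ∀ x ∈ K, ∀ y ∈ K, x ∉ S → y ∉ S → x * y ∈ S) :
    Nat.card K ≤ 2 * Nat.card ↥(K ⊓ S) := by
  classical
  by_cases hKS : K ≤ S
  · rw [inf_eq_left.mpr hKS]; omega
  obtain ⟨x0, hx0, hx0S⟩ := SetLike.not_le_iff_exists.mp hKS
  let φ : K → Bool × ↥(K ⊓ S) := fun k =>
    if hk : (k : G) ∈ S then (false, ⟨k, k.2, hk⟩)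
    else (true, ⟨x0 * k, K.mul_mem hx0 k.2, h x0 hx0 k k.2 hx0S hk⟩)
  have hφ : Function.Injective φ := by
    intro a b hab
    by_cases ha : (a : G) ∈ S <;> by_cases hb : (b : G) ∈ S <;> simp [φ, ha, hb] at hab
    · exact Subtype.ext (congrArg Subtype.val hab :)
    · exact Subtype.ext (mul_left_cancel (congrArg Subtype.val hab :))
  have := Nat.card_le_card_of_injective φ hφ
  simpa [Nat.card_prod] using this

/-- In a 2-group whose elements of order dividing 4 are central in `C`,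
elements of `C` with equal squares differ by an involution. -/
theorem sq_fibre (h2 : IsPGroup 2 P) {C : Subgroup P}
    (hz : ∀ d ∈ C, d ^ 4 = 1 → ∀ y ∈ C, y * d = d * y)
    {x y : P} (hx : x ∈ C) (hy : y ∈ C) (hxy : x * x = y * y) :
    (x⁻¹ * y) * (x⁻¹ * y) = 1 := by
  set c := x⁻¹ * y with hc
  have hcC : c ∈ C := C.mul_mem (C.inv_mem hx) hy
  have hinv : x⁻¹ * c * x = c⁻¹ := by
    rw [eq_inv_iff_mul_eq_one, hc,
      show x⁻¹ * (x⁻¹ * y) * x * (x⁻¹ * y) = (x * x)⁻¹ * (y * y) by group, ← hxy, inv_mul_cancel]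
  obtain ⟨k, hk⟩ := h2 c
  induction k with
  | zero => simp at hk; simp [hk]
  | succ k ih =>
    rcases k with _ | k
    · rw [← pow_two]; simpa using hk
    · refine ih ?_
      set d := c ^ 2 ^ k with hd
      have hd4 : d ^ 4 = 1 := by rw [hd, ← pow_mul, ← hk]; congr 1; ring
      have hdx := hz d (C.pow_mem hcC _) hd4 x hx
      have hdi : x⁻¹ * d * x = d⁻¹ := by
        rw [hd, ← inv_pow, ← hinv]
        have h := (conj_pow (i := 2 ^ k) (a := x⁻¹) (b := c)).symm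
        rwa [inv_inv] at h
      have h1 : d = d⁻¹ := by
        rw [← hdi, mul_assoc, ← hdx]; group
      rw [pow_succ, pow_mul, ← hd, pow_two]
      exact mul_eq_one_iff_eq_inv.mpr h1

/-- Section bound inside `C`. -/
theorem card_le_four_mul (h2 : IsPGroup 2 P) {C : Subgroup P}
    (hz : ∀ d ∈ C, d ^ 4 = 1 → ∀ y ∈ C, y * d = d * y)
    (hinv : Nat.card {x : P // x ∈ C ∧ x * x = 1} ≤ 4)
    {H N : Subgroup P} (hH : H ≤ C) (hsq : ∀ x ∈ H, x * x ∈ N) :
    Nat.card H ≤ 4 * Nat.card N ∧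
      (4 * Nat.card N ≤ Nat.card H → ∀ n ∈ N, ∃ s ∈ H, n = s * s) := by
  classical
  haveI := Fintype.ofFinite P
  let f : H → N := fun x => ⟨x * x, hsq x x.2⟩
  have hfib : ∀ b : N, (Finset.univ.filter fun x : H => f x = b).card ≤ 4 := by
    intro b
    by_cases hb : ∃ x0, f x0 = b
    · obtain ⟨x0, hx0⟩ := hb
      let ψ : {x : H // f x = b} → {x : P // x ∈ C ∧ x * x = 1} := fun x =>
        ⟨(x0 : P)⁻¹ * x.1, C.mul_mem (C.inv_mem (hH x0.2)) (hH x.1.2),
          sq_fibre h2 hz (hH x0.2) (hH x.1.2) (congrArg Subtype.val (hx0.trans x.2.symm))⟩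
      have hψ : Function.Injective ψ := by
        intro a b hab
        have := congrArg Subtype.val hab
        exact Subtype.ext (Subtype.ext (mul_left_cancel this))
      have := Nat.card_le_card_of_injective ψ hψ
      rw [Nat.card_eq_fintype_card (α := {x : H // f x = b}), Fintype.card_subtype] at this
      omega
    · push_neg at hb
      simp [hb]
  have hall : Nat.card H ≤ 4 * (Finset.univ.image f).card := by
    rw [Nat.card_eq_fintype_card, ← Finset.card_univ]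
    exact Finset.card_le_mul_card_image _ 4 fun b _ => hfib b
  have himg : (Finset.univ.image f).card ≤ Nat.card N := by
    rw [Nat.card_eq_fintype_card]; exact Finset.card_le_univ _
  refine ⟨by omega, fun hge n hn => ?_⟩
  have heq : (Finset.univ.image f).card = Fintype.card N := by
    rw [Nat.card_eq_fintype_card] at himg hge; omega
  have := Finset.eq_univ_of_card _ heq
  have hmem : (⟨n, hn⟩ : N) ∈ Finset.univ.image f := this ▸ Finset.mem_univ _
  obtain ⟨s, -, hs⟩ := Finset.mem_image.mp hmem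
  exact ⟨s, s.2, (congrArg Subtype.val hs).symm⟩

/-- The standing hypotheses. -/
structure Ctx (P : Type u) [Group P] where
  h2 : IsPGroup 2 P
  hV : ∀ A : Subgroup P, A.Normal → IsMulCommutative A → (∀ a ∈ A, a ^ 2 = 1) → Nat.card A ≤ 4
  A : Subgroup P
  normal : A.Normal
  comm : ∀ a ∈ A, ∀ b ∈ A, a * b = b * a
  four : ∀ a ∈ A, a ^ 4 = 1
  omega : ∀ x ∈ Subgroup.centralizer (A : Set P), x ^ 4 = 1 → x ∈ A

theorem exists_ctx (h2 : IsPGroup 2 P)
    (h : ∀ A : Subgroup P, A.Normal → IsMulCommutative A → (∀ a ∈ A, a ^ 2 = 1) → Nat.card A ≤ 4) :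
    Nonempty (Ctx P) := by
  obtain ⟨A, -, hA⟩ := (Set.toFinite {B : Subgroup P | B.Normal ∧ IsMulCommutative B ∧
    ∀ b ∈ B, b ^ 4 = 1}).exists_le_maximal
    (a := (⊥ : Subgroup P)) ⟨inferInstance,
      ⟨⟨fun a b => Subtype.ext (by simp [Subgroup.mem_bot.mp a.2, Subgroup.mem_bot.mp b.2])⟩⟩,
      fun b hb => by simp [Subgroup.mem_bot.mp hb]⟩
  obtain ⟨hn, hc, h4⟩ := hA.prop
  haveI := hn
  exact ⟨⟨h2, h, A, hn, fun a ha b hb => congrArg Subtype.val (hc.is_comm.comm ⟨a, ha⟩ ⟨b, hb⟩),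
    h4, fun x hx hx4 => H6.mem_of_maximal_normal_abelian_exponent h2 2 (by norm_num) A hc h4
      (fun B hBn hBc hB4 hle => le_antisymm (hA.le_of_ge ⟨hBn, hBc, hB4⟩ hle) hle) x hx hx4⟩⟩

namespace Ctx

variable (K : Ctx P)

/-- The involutions of `A` (with `1`). -/
def V : Subgroup P where
  carrier := {a | a ∈ K.A ∧ a * a = 1}
  one_mem' := ⟨K.A.one_mem, one_mul 1⟩
  mul_mem' := fun {a b} ha hb => ⟨K.A.mul_mem ha.1 hb.1, by
    rw [show a * b * (a * b) = a * (b * a) * b by group, K.comm b hb.1 a ha.1,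
      show a * (a * b) * b = (a * a) * (b * b) by group, ha.2, hb.2, one_mul]⟩
  inv_mem' := fun {a} ha => ⟨K.A.inv_mem ha.1, by rw [← mul_inv_rev, ha.2, inv_one]⟩

/-- The centralizer of `A`. -/
def C : Subgroup P := Subgroup.centralizer (K.A : Set P)

/-- The centralizer of `V`. -/
def D : Subgroup P := Subgroup.centralizer (K.V : Set P)

theorem mem_C {x : P} : x ∈ K.C ↔ ∀ a ∈ K.A, a * x = x * a := Subgroup.mem_centralizer_iff

theorem mem_D {x : P} : x ∈ K.D ↔ ∀ v ∈ K.V, v * x = x * v := Subgroup.mem_centralizer_iff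

theorem A_le_C : K.A ≤ K.C := fun x hx => K.mem_C.mpr fun a ha => K.comm a ha x hx

theorem C_le_D : K.C ≤ K.D := fun _ hx => K.mem_D.mpr fun v hv => K.mem_C.mp hx v hv.1

theorem A_le_D : K.A ≤ K.D := K.A_le_C.trans K.C_le_D

theorem V_normal : K.V.Normal := ⟨fun v hv g =>
  ⟨K.normal.conj_mem v hv.1 g, by
    rw [show g * v * g⁻¹ * (g * v * g⁻¹) = g * (v * v) * g⁻¹ by group, hv.2, mul_one, mul_inv_cancel]⟩⟩

theorem C_normal : K.C.Normal := centralizer_normal_of_normal K.normal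

theorem D_normal : K.D.Normal := centralizer_normal_of_normal K.V_normal

theorem V_card : Nat.card K.V ≤ 4 :=
  K.hV K.V K.V_normal ⟨⟨fun a b => Subtype.ext (K.comm a a.2.1 b b.2.1)⟩⟩ fun a ha => by
    rw [pow_two]; exact ha.2

theorem sq_mem_V {a : P} (ha : a ∈ K.A) : a * a ∈ K.V :=
  ⟨K.A.mul_mem ha ha, by rw [show a * a * (a * a) = a ^ 4 by simp [pow_succ, mul_assoc]]; exact K.four a ha⟩

theorem mem_V_of_C {d : P} (hd : d ∈ K.C) (h1 : d * d = 1) : d ∈ K.V :=
  ⟨K.omega d hd (by rw [show d ^ 4 = (d * d) * (d * d) by simp [pow_succ, mul_assoc], h1, one_mul]), h1⟩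

theorem C_central (d : P) (hd : d ∈ K.C) (h4 : d ^ 4 = 1) (y : P) (hy : y ∈ K.C) :
    y * d = d * y := (K.mem_C.mp hy d (K.omega d hd h4)).symm

theorem C_inv_card : Nat.card {x : P // x ∈ K.C ∧ x * x = 1} ≤ 4 :=
  le_trans (Nat.card_le_card_of_injective (fun x => (⟨x.1, K.mem_V_of_C x.2.1 x.2.2⟩ : K.V))
    (fun _ _ h => Subtype.ext (congrArg Subtype.val h : _))) K.V_card

theorem delta_mul_right {a b : P} (ha : a ∈ K.A) (hb : b ∈ K.A) (x : P) :
    ⁅x, a * b⁆ = ⁅x, a⁆ * ⁅x, b⁆ := by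
  have hbx : x * b * x⁻¹ * b⁻¹ ∈ K.A := K.A.mul_mem (K.normal.conj_mem b hb x) (K.A.inv_mem hb)
  simp only [commutatorElement_def]
  calc x * (a * b) * x⁻¹ * (a * b)⁻¹ = x * a * x⁻¹ * ((x * b * x⁻¹ * b⁻¹) * a⁻¹) := by group
    _ = x * a * x⁻¹ * (a⁻¹ * (x * b * x⁻¹ * b⁻¹)) := by rw [K.comm _ hbx _ (K.A.inv_mem ha)]
    _ = _ := by group

theorem delta_mem {x a : P} (hx : x ∈ K.D) (ha : a ∈ K.A) : ⁅x, a⁆ ∈ K.V := by
  have h1 : ⁅x, a * a⁆ = 1 :=
    commutatorElement_eq_one_iff_mul_comm.mpr (K.mem_D.mp hx _ (K.sq_mem_V ha)).symm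
  rw [K.delta_mul_right ha ha] at h1
  refine ⟨?_, h1⟩
  rw [commutatorElement_def]
  exact K.A.mul_mem (K.normal.conj_mem a ha x) (K.A.inv_mem ha)

theorem delta_mul_left {x y a : P} (hx : x ∈ K.D) (hy : y ∈ K.D) (ha : a ∈ K.A) :
    ⁅x * y, a⁆ = ⁅x, a⁆ * ⁅y, a⁆ := by
  have hv := K.delta_mem hy ha
  have hu := K.delta_mem hx ha
  have hc := K.mem_D.mp hx _ hv
  calc ⁅x * y, a⁆ = x * ⁅y, a⁆ * x⁻¹ * ⁅x, a⁆ := by simp only [commutatorElement_def]; group
    _ = ⁅y, a⁆ * ⁅x, a⁆ := by rw [← hc, mul_inv_cancel_right]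
    _ = _ := K.comm _ hv.1 _ hu.1

theorem delta_C {c a : P} (hc : c ∈ K.C) (ha : a ∈ K.A) : ⁅c, a⁆ = 1 :=
  commutatorElement_eq_one_iff_mul_comm.mpr (K.mem_C.mp hc a ha).symm

theorem delta_V {x v : P} (hx : x ∈ K.D) (hv : v ∈ K.V) : ⁅x, v⁆ = 1 :=
  commutatorElement_eq_one_iff_mul_comm.mpr (K.mem_D.mp hx v hv).symm

theorem D_quot {x y : P} (hx : x ∈ K.D) (hy : y ∈ K.D) : ⁅x, y⁆ ∈ K.C ∧ x * x ∈ K.C := by
  have hh : ∀ z : P, (∀ a ∈ K.A, ⁅z, a⁆ = 1) → z ∈ K.C := fun z hz =>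
    K.mem_C.mpr fun a ha => (commutatorElement_eq_one_iff_mul_comm.mp (hz a ha)).symm
  constructor
  · refine hh _ fun a ha => ?_
    have hi : ∀ z ∈ K.D, ⁅z⁻¹, a⁆ = ⁅z, a⁆ := fun z hz => by
      have h1 := K.delta_mul_left hz (K.D.inv_mem hz) ha
      rw [mul_inv_cancel, commutatorElement_one_left] at h1
      have h2 := (K.delta_mem hz ha).2
      exact mul_left_cancel (h1.symm.trans h2.symm)
    have hxy : x * y ∈ K.D := K.D.mul_mem hx hy
    rw [commutatorElement_def x y, K.delta_mul_left (K.D.mul_mem hxy (K.D.inv_mem hx)) (K.D.inv_mem hy) ha,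
      K.delta_mul_left hxy (K.D.inv_mem hx) ha, K.delta_mul_left hx hy ha, hi x hx, hi y hy]
    have hu := K.delta_mem hx ha
    have hv := K.delta_mem hy ha
    rw [mul_assoc ⁅x, a⁆, K.comm _ hv.1 _ hu.1, ← mul_assoc, hu.2, one_mul, hv.2]
  · refine hh _ fun a ha => ?_
    rw [K.delta_mul_left hx hx ha]; exact (K.delta_mem hx ha).2

/-- `x` inverts no element of `A \ V`. -/
def InvFree (x : P) : Prop := ∀ a ∈ K.A, ⁅x, a⁆ = a * a → a * a = 1

theorem exists_four {d : P} (hd : d ∈ K.C) (h1 : d * d ≠ 1) :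
    ∃ n : ℕ, d ^ n ∈ K.A ∧ d ^ n * d ^ n ≠ 1 := by
  obtain ⟨k, hk⟩ := K.h2 d
  induction k with
  | zero => simp at hk; simp [hk] at h1
  | succ k ih =>
    by_cases h0 : d ^ 2 ^ k = 1
    · exact ih h0
    rcases k with _ | k
    · exact absurd (by rw [← pow_two]; simpa using hk) h1
    refine ⟨2 ^ k, K.omega _ (K.C.pow_mem hd _) ?_, ?_⟩
    · rw [← pow_mul, ← hk]; congr 1; ring
    · rw [← pow_add]; convert h0 using 2; ring

theorem inverted_mem {x d : P} (hI : K.InvFree x) (hd : d ∈ K.C) (hinv : x * d * x⁻¹ = d⁻¹) :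
    d ∈ K.V := by
  refine K.mem_V_of_C hd (by_contra fun h1 => ?_)
  obtain ⟨n, hn, hn2⟩ := K.exists_four hd h1
  refine hn2 (hI _ hn ?_)
  have h4 := K.four _ hn
  rw [commutatorElement_def, ← conj_pow, hinv, inv_pow, eq_comm, eq_mul_inv_iff_mul_eq,
    eq_inv_iff_mul_eq_one, ← h4]
  group

theorem fixed_mem {x d : P} (hI : ∀ a ∈ K.A, ⁅x, a⁆ = 1 → a * a = 1) (hd : d ∈ K.C)
    (hfix : x * d = d * x) : d ∈ K.V := by
  refine K.mem_V_of_C hd (by_contra fun h1 => ?_)
  obtain ⟨n, hn, hn2⟩ := K.exists_four hd h1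
  exact hn2 (hI _ hn (commutatorElement_eq_one_iff_commute.mpr (Commute.pow_right hfix n)))

theorem invFree_congr {x c : P} (hx : x ∈ K.D) (hc : c ∈ K.C) (hI : K.InvFree x) :
    K.InvFree (c * x) := fun a ha h => hI a ha (by
  rw [K.delta_mul_left (K.C_le_D hc) hx ha, K.delta_C hc ha, one_mul] at h; exact h)

/-- Commutator with an inverting-free involution lands in `V`. -/
theorem comm_invol_mem {t g : P} (hI : K.InvFree t) (ht : t * t = 1) (hd : ⁅g, t⁆ ∈ K.C) :
    ⁅g, t⁆ ∈ K.V := by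
  refine K.inverted_mem hI hd ?_
  rw [commutatorElement_def, inv_eq_of_mul_eq_one_right ht]
  calc t * (g * t * g⁻¹ * t) * t = t * (g * t * g⁻¹) * (t * t) := by group
    _ = (g * t * g⁻¹ * t)⁻¹ := by
      rw [ht, mul_one, eq_inv_iff_mul_eq_one]
      calc t * (g * t * g⁻¹) * (g * t * g⁻¹ * t) = t * g * (t * t) * g⁻¹ * t := by group
        _ = 1 := by rw [ht, mul_one, mul_inv_cancel_right, ht]

/-- An involution in the coset of an `InvFree` element with square in `V`. -/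
theorem exists_invol (hsur : ∀ v ∈ K.V, ∃ a ∈ K.A, a * a = v) {y : P} (hy : y ∈ K.D)
    (hI : K.InvFree y) (hy2 : y * y ∈ K.V) : ∃ a ∈ K.A, (a * y) * (a * y) = 1 := by
  classical
  choose r hr hr2 using hsur
  let g : K.V → K.V := fun v => ⟨(v : P) * ⁅y, r v v.2⁆, K.V.mul_mem v.2 (K.delta_mem hy (hr v v.2))⟩
  have hg : Function.Injective g := by
    intro v w hvw
    have hvw' : (v : P) * ⁅y, r v v.2⁆ = (w : P) * ⁅y, r w w.2⁆ := congrArg Subtype.val hvw
    set a := r v v.2 * r w w.2 with ha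
    have haA : a ∈ K.A := K.A.mul_mem (hr _ _) (hr _ _)
    have haa : a * a = (v : P) * w := by
      rw [ha, show r v v.2 * r w w.2 * (r v v.2 * r w w.2) = r v v.2 * (r w w.2 * r v v.2) * r w w.2 by group,
        K.comm _ (hr w w.2) _ (hr v v.2)]
      calc r v v.2 * (r v v.2 * r w w.2) * r w w.2 = (r v v.2 * r v v.2) * (r w w.2 * r w w.2) := by group
        _ = _ := by rw [hr2, hr2]
    have key : ⁅y, a⁆ = a * a := by
      rw [haa, ha, K.delta_mul_right (hr _ _) (hr _ _)]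
      have hp := K.delta_mem hy (hr v v.2)
      have hq := K.delta_mem hy (hr w w.2)
      have e1 : ⁅y, r w w.2⁆ = (w : P) * ((v : P) * ⁅y, r v v.2⁆) := by
        rw [hvw', ← mul_assoc, w.2.2, one_mul]
      rw [e1, K.comm _ hp.1 _ (K.A.mul_mem w.2.1 (K.A.mul_mem v.2.1 hp.1)),
        show (w : P) * ((v : P) * ⁅y, r v v.2⁆) * ⁅y, r v v.2⁆
          = (w : P) * v * (⁅y, r v v.2⁆ * ⁅y, r v v.2⁆) by group, hp.2, mul_one, K.comm _ w.2.1 _ v.2.1]
    have h1 := hI a haA key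
    rw [haa] at h1
    exact Subtype.ext (mul_right_cancel (h1.trans w.2.2.symm))
  obtain ⟨v, hv⟩ := (Finite.injective_iff_surjective.mp hg) ⟨y * y, hy2⟩
  have hv' : (v : P) * ⁅y, r v v.2⁆ = y * y := congrArg Subtype.val hv
  refine ⟨r v v.2, hr _ _, ?_⟩
  have hp := K.delta_mem hy (hr v v.2)
  calc r v v.2 * y * (r v v.2 * y) = r v v.2 * ⁅y, r v v.2⁆ * r v v.2 * (y * y) := by
        simp only [commutatorElement_def]; group
    _ = (r v v.2 * r v v.2) * ⁅y, r v v.2⁆ * (y * y) := by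
        rw [mul_assoc (r v v.2) ⁅y, r v v.2⁆, K.comm _ hp.1 _ (hr _ _), ← mul_assoc (r v v.2) (r v v.2)]
    _ = (y * y) * (y * y) := by rw [hr2, hv']
    _ = 1 := hy2.2

/-- The key lemma. -/
theorem key (hsur : ∀ v ∈ K.V, ∃ a ∈ K.A, a * a = v) (hV4 : Nat.card K.V = 4) {x : P}
    (hxD : x ∈ K.D) (hxC : x ∉ K.C) (hI : K.InvFree x) (hcent : ∀ g : P, ⁅g, x⁆ ∈ K.C)
    (hsq : ∃ s ∈ K.C, x * x = s * s) : False := by
  haveI := K.C_normal
  obtain ⟨s, hs, hxs⟩ := hsq
  set d := ⁅s, x⁆ with hd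
  have hdC : d ∈ K.C := hcent s
  have hsx : s * x = d * x * s := by rw [hd, commutatorElement_def]; group
  have hdi : x * d * x⁻¹ = d⁻¹ := by
    have h1 : s * (x * x) * s⁻¹ = x * x := by rw [hxs]; group
    have h2 : d * x * (d * x) = x * x := by
      calc d * x * (d * x) = s * (x * x) * s⁻¹ := by rw [hd, commutatorElement_def]; group
        _ = _ := h1
    rw [eq_inv_iff_mul_eq_one]
    calc x * d * x⁻¹ * d = d⁻¹ * (d * x * (d * x)) * (x * x)⁻¹ * d := by group
      _ = 1 := by rw [h2]; group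
  have hdV := K.inverted_mem hI hdC hdi
  set y := s⁻¹ * x with hy
  have hyD : y ∈ K.D := K.D.mul_mem (K.D.inv_mem (K.C_le_D hs)) hxD
  have hyy : y * y = d := by
    have h1 : x * s⁻¹ = s⁻¹ * d * x := by
      calc x * s⁻¹ = s⁻¹ * (s * x) * s⁻¹ := by group
        _ = s⁻¹ * d * x := by rw [hsx]; group
    have hdc : s⁻¹ * d = d * s⁻¹ := ((K.mem_C.mp (K.C.inv_mem hs)) d hdV.1).symm
    calc y * y = s⁻¹ * (x * s⁻¹) * x := by rw [hy]; group
      _ = s⁻¹ * (d * s⁻¹) * (x * x) := by rw [h1, hdc]; group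
      _ = s⁻¹ * (s⁻¹ * d) * (s * s) := by rw [hxs, hdc]
      _ = (s * s)⁻¹ * (d * (s * s)) := by group
      _ = d := by
        rw [(K.mem_C.mp (K.C.mul_mem hs hs) d hdV.1), inv_mul_cancel_left]
  have hyI : K.InvFree y := K.invFree_congr hxD (K.C.inv_mem hs) hI
  obtain ⟨a, ha, hat⟩ := K.exists_invol hsur hyD hyI (hyy ▸ hdV)
  set t := a * y with ht
  have htD : t ∈ K.D := K.D.mul_mem (K.A_le_D ha) hyD
  have htI : K.InvFree t := K.invFree_congr hyD (K.A_le_C ha) hyI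
  have hasC : a * s⁻¹ ∈ K.C := K.C.mul_mem (K.A_le_C ha) (K.C.inv_mem hs)
  have htC : t ∉ K.C := fun h => hxC (by
    have := K.C.mul_mem (K.C.inv_mem hasC) h
    rwa [ht, hy, show (a * s⁻¹)⁻¹ * (a * (s⁻¹ * x)) = x by group] at this)
  have hgt : ∀ g : P, ⁅g, t⁆ ∈ K.V := fun g => by
    refine K.comm_invol_mem htI hat ?_
    have h1 : ⁅g, t⁆ = ⁅g, a * s⁻¹⁆ * ((a * s⁻¹) * ⁅g, x⁆ * (a * s⁻¹)⁻¹) := by
      rw [ht, hy]; simp only [commutatorElement_def]; group
    rw [h1]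
    refine K.C.mul_mem ?_ (K.C_normal.conj_mem _ (hcent g) _)
    rw [commutatorElement_def]
    exact K.C.mul_mem (K.C_normal.conj_mem _ hasC g) (K.C.inv_mem hasC)
  have hvt : ∀ v ∈ K.V, v * t = t * v := K.mem_D.mp htD
  let E : Subgroup P :=
    { carrier := {z | z ∈ K.V ∨ z * t ∈ K.V}
      one_mem' := Or.inl K.V.one_mem
      mul_mem' := by
        rintro p q (hp | hp) (hq | hq)
        · exact Or.inl (K.V.mul_mem hp hq)
        · exact Or.inr (by rw [mul_assoc]; exact K.V.mul_mem hp hq)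
        · refine Or.inr ?_
          rw [show p * q * t = p * (q * t) by group, hvt q hq, ← mul_assoc]
          exact K.V.mul_mem hp hq
        · refine Or.inl ?_
          have h0 : q = t * (q * t) := by
            rw [← hvt _ hq, mul_assoc q t t, hat, mul_one]
          have h1 : p * q = (p * t) * (q * t) := by
            conv_lhs => rw [h0, ← mul_assoc]
          rw [h1]; exact K.V.mul_mem hp hq
      inv_mem' := by
        rintro p (hp | hp)
        · exact Or.inl (K.V.inv_mem hp)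
        · refine Or.inr ?_
          have h1 : p⁻¹ * t = t * (p * t)⁻¹ * t⁻¹ * (t * t) := by group
          have h2 : (p * t)⁻¹ * t = t * (p * t)⁻¹ := hvt _ (K.V.inv_mem hp)
          rw [h1, ← h2, hat, mul_one, mul_inv_cancel_right]
          exact K.V.inv_mem hp }
  have hVE : K.V ≤ E := fun v hv => Or.inl hv
  have htE : t ∈ E := Or.inr (by rw [hat]; exact K.V.one_mem)
  have hEel : ∀ z ∈ E, ∃ v ∈ K.V, z = v ∨ z = v * t := by
    rintro z (hz | hz)
    · exact ⟨z, hz, Or.inl rfl⟩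
    · exact ⟨z * t, hz, Or.inr (by rw [mul_assoc, hat, mul_one])⟩
  have hEn : E.Normal := ⟨fun z hz g => by
    obtain ⟨v, hv, rfl | rfl⟩ := hEel z hz
    · exact Or.inl (K.V_normal.conj_mem _ hv g)
    · have h1 : g * (v * t) * g⁻¹ = g * v * g⁻¹ * ⁅g, t⁆ * t := by
        simp only [commutatorElement_def]; group
      rw [h1]
      exact E.mul_mem (hVE (K.V.mul_mem (K.V_normal.conj_mem _ hv g) (hgt g))) htE⟩
  have hEc : ∀ p ∈ E, ∀ q ∈ E, p * q = q * p := by
    intro p hp q hq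
    obtain ⟨v, hv, hpv⟩ := hEel p hp
    obtain ⟨w, hw, hqw⟩ := hEel q hq
    have hvw : Commute v w := K.comm v hv.1 w hw.1
    have hv' : Commute v t := hvt v hv
    have hw' : Commute w t := hvt w hw
    rcases hpv with rfl | rfl <;> rcases hqw with rfl | rfl
    · exact hvw
    · exact hvw.mul_right hv'
    · exact (hvw.symm.mul_right hw').symm
    · exact ((hvw.mul_right hv').mul_left ((hw'.symm).mul_right (Commute.refl t)))
  have hEe : ∀ z ∈ E, z ^ 2 = 1 := by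
    intro z hz
    obtain ⟨v, hv, rfl | rfl⟩ := hEel z hz
    · rw [pow_two]; exact hv.2
    · rw [(show Commute v t from hvt v hv).mul_pow, pow_two, pow_two, hv.2, hat, one_mul]
  have hle := K.hV E hEn ⟨⟨fun p q => Subtype.ext (hEc p p.2 q q.2)⟩⟩ hEe
  have hlt : Nat.card K.V < Nat.card E := by
    refine lt_of_le_of_ne (Nat.le_of_dvd Nat.card_pos (Subgroup.card_dvd_of_le hVE)) fun he => ?_
    have := Subgroup.eq_of_le_of_card_ge hVE he.ge
    exact htC (K.A_le_C ((this ▸ htE : t ∈ K.V).1))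
  omega

end Ctx

end H73.MW
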