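import Mathlib
import Cfsg.Agent.H73.MacWilliamsBasic
import Cfsg.Agent.H6.Basic

/-! MacWilliams: a 2-group without normal `E₈` has sectional rank at most 4. -/

set_option autoImplicit false
set_option linter.unusedSectionVars false
set_option linter.style.haveILetI false

namespace H73.MW.Ctx

open scoped commutatorElement

universe u

variable {P : Type u} [Group P] [Finite P] (K : H73.MW.Ctx P)

theorem delta_inv {x a : P} (hx : x ∈ K.D) (ha : a ∈ K.A) : ⁅x⁻¹, a⁆ = ⁅x, a⁆ := by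
  have h1 := K.delta_mul_left hx (K.D.inv_mem hx) ha
  rw [mul_inv_cancel, commutatorElement_one_left] at h1
  exact mul_left_cancel (h1.symm.trans (K.delta_mem hx ha).2.symm)

theorem delta_coset {x a b : P} (hx : x ∈ K.D) (ha : a ∈ K.A) (hb : b ∈ K.A) (h : a * a = b * b) :
    ⁅x, a⁆ = ⁅x, b⁆ := by
  have hbi := K.A.inv_mem hb
  have hv : b⁻¹ * a ∈ K.V := ⟨K.A.mul_mem hbi ha, by
    rw [show b⁻¹ * a * (b⁻¹ * a) = b⁻¹ * (a * b⁻¹) * a by group, K.comm a ha _ hbi,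
      show b⁻¹ * (b⁻¹ * a) * a = (b * b)⁻¹ * (a * a) by group, h, inv_mul_cancel]⟩
  calc ⁅x, a⁆ = ⁅x, b * (b⁻¹ * a)⁆ := by rw [mul_inv_cancel_left]
    _ = ⁅x, b⁆ := by rw [K.delta_mul_right hb hv.1, K.delta_V hx hv, mul_one]

theorem V_four {u w : P} (hu : u ∈ K.V) (hw : w ∈ K.V) (u1 : u ≠ 1) (w1 : w ≠ 1) (huw : u ≠ w) :
    Nat.card K.V = 4 ∧ ∀ v ∈ K.V, v = 1 ∨ v = u ∨ v = w ∨ v = u * w := by
  classical
  haveI := Fintype.ofFinite P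
  have h4 : ({1, u, w, u * w} : Finset P).card = 4 := by
    have e1 : u * w ≠ 1 := fun e => huw (mul_right_cancel (e.trans hw.2.symm))
    have e2 : u * w ≠ u := fun e => w1 (by simpa using e)
    have e3 : u * w ≠ w := fun e => u1 (by simpa using e)
    rw [Finset.card_insert_of_notMem, Finset.card_insert_of_notMem, Finset.card_insert_of_notMem,
      Finset.card_singleton]
    · simp [e3.symm]
    · simp [huw, e2.symm]
    · simp [u1.symm, w1.symm, e1.symm]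
  have hsub : ({1, u, w, u * w} : Finset P) ⊆ (K.V : Set P).toFinset := by
    intro z hz
    simp only [Finset.mem_insert, Finset.mem_singleton] at hz
    rw [Set.mem_toFinset]
    rcases hz with rfl | rfl | rfl | rfl
    exacts [K.V.one_mem, hu, hw, K.V.mul_mem hu hw]
  have hcard : (K.V : Set P).toFinset.card = Nat.card K.V := by
    rw [Set.toFinset_card, Nat.card_eq_fintype_card]; rfl
  have hle := Finset.card_le_card hsub
  have := K.V_card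
  refine ⟨by omega, fun v hv => ?_⟩
  have heq := Finset.eq_of_subset_of_card_le hsub (by omega)
  have : v ∈ (K.V : Set P).toFinset := Set.mem_toFinset.mpr hv
  rw [← heq] at this
  simpa using this

theorem exists_fixed (h : K.V ≠ ⊥) : ∃ v1 ∈ K.V, v1 ≠ 1 ∧ ∀ g : P, g * v1 * g⁻¹ = v1 := by
  haveI : Fact (Nat.Prime 2) := ⟨Nat.prime_two⟩
  haveI := K.V_normal
  obtain ⟨v, hv, hv1⟩ := (Subgroup.bot_or_exists_ne_one _).resolve_left (H6.inf_center_ne_bot K.h2 h)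
  exact ⟨v, hv.1, hv1, fun g => by rw [Subgroup.mem_center_iff.mp hv.2 g, mul_inv_cancel_right]⟩

theorem conj_moved {v1 w : P} (hv1 : v1 ∈ K.V) (h1 : v1 ≠ 1) (hfix : ∀ g : P, g * v1 * g⁻¹ = v1)
    (hw : w ∈ K.V) (g : P) : g * w * g⁻¹ = w ∨ g * w * g⁻¹ = v1 * w := by
  rcases eq_or_ne w 1 with rfl | w1
  · simp
  rcases eq_or_ne v1 w with rfl | hne
  · exact Or.inl (hfix g)
  rcases (K.V_four hv1 hw h1 w1 hne).2 _ (K.V_normal.conj_mem w hw g) with e | e | e | e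
  · exact absurd (conj_eq_one_iff.mp e) w1
  · exact absurd (mul_left_cancel (mul_right_cancel (e.trans (hfix g).symm))) hne.symm
  · exact Or.inl e
  · exact Or.inr e

theorem D_index {g h : P} (hg : g ∉ K.D) (hh : h ∉ K.D) : g * h ∈ K.D := by
  have hb : K.V ≠ ⊥ := fun e => hg (K.mem_D.mpr fun v hv => by
    rw [e, Subgroup.mem_bot] at hv; simp [hv])
  obtain ⟨v1, hv1, h1, hfix⟩ := K.exists_fixed hb
  have moved : ∀ k, k ∉ K.D → ∀ w ∈ K.V, w ≠ 1 → w ≠ v1 → k * w * k⁻¹ = v1 * w := by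
    intro k hk w hw w1 wv
    refine (K.conj_moved hv1 h1 hfix hw k).resolve_left fun e => hk (K.mem_D.mpr fun v hv => ?_)
    have ev : ∀ z, k * z * k⁻¹ = z → z * k = k * z := fun z ez => (mul_inv_eq_iff_eq_mul.mp ez).symm
    rcases (K.V_four hv1 hw h1 w1 (Ne.symm wv)).2 v hv with rfl | rfl | rfl | rfl
    · simp
    · exact ev _ (hfix k)
    · exact ev _ e
    · exact ev _ (by
        rw [show k * (v1 * w) * k⁻¹ = k * v1 * k⁻¹ * (k * w * k⁻¹) by group, hfix, e])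
  refine K.mem_D.mpr fun w hw => ?_
  have key : g * h * w * (g * h)⁻¹ = w := by
    rw [show g * h * w * (g * h)⁻¹ = g * (h * w * h⁻¹) * g⁻¹ by group]
    rcases eq_or_ne w 1 with rfl | w1
    · simp
    rcases eq_or_ne w v1 with rfl | wv
    · rw [hfix, hfix]
    rw [moved h hh w hw w1 wv,
      show g * (v1 * w) * g⁻¹ = g * v1 * g⁻¹ * (g * w * g⁻¹) by group, hfix,
      moved g hg w hw w1 wv, ← mul_assoc, hv1.2, one_mul]
  exact (mul_inv_eq_iff_eq_mul.mp key).symm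

/-- A basis of `A ≅ Z₄ × Z₄` adapted to the central involution `v1`. -/
structure Basis (K : H73.MW.Ctx P) where
  v1 : P
  v2 : P
  a1 : P
  a2 : P
  hv1 : v1 ∈ K.V
  hv2 : v2 ∈ K.V
  ne1 : v1 ≠ 1
  ne2 : v2 ≠ 1
  ne12 : v1 ≠ v2
  fix1 : ∀ g : P, g * v1 * g⁻¹ = v1
  ha1 : a1 ∈ K.A
  ha2 : a2 ∈ K.A
  sq1 : a1 * a1 = v1
  sq2 : a2 * a2 = v2

variable {K} (B : Basis K)

theorem Basis.V_cases {v : P} (hv : v ∈ K.V) : v = 1 ∨ v = B.v1 ∨ v = B.v2 ∨ v = B.v1 * B.v2 :=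
  (K.V_four B.hv1 B.hv2 B.ne1 B.ne2 B.ne12).2 v hv

include B in
theorem Basis.V_card : Nat.card K.V = 4 := (K.V_four B.hv1 B.hv2 B.ne1 B.ne2 B.ne12).1

theorem Basis.ne_mul1 : B.v1 * B.v2 ≠ 1 :=
  fun e => B.ne12 (mul_right_cancel (e.trans B.hv2.2.symm))

theorem Basis.ne_mul2 : B.v1 * B.v2 ≠ B.v1 := fun e => B.ne2 (by simpa using e)

theorem Basis.ne_mul3 : B.v1 * B.v2 ≠ B.v2 := fun e => B.ne1 (by simpa using e)

theorem Basis.comm12 : B.v2 * B.v1 = B.v1 * B.v2 := K.comm _ B.hv2.1 _ B.hv1.1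

theorem Basis.sq3 : B.a1 * B.a2 * (B.a1 * B.a2) = B.v1 * B.v2 := by
  rw [show B.a1 * B.a2 * (B.a1 * B.a2) = B.a1 * (B.a2 * B.a1) * B.a2 by group,
    K.comm _ B.ha2 _ B.ha1, show B.a1 * (B.a1 * B.a2) * B.a2 = (B.a1 * B.a1) * (B.a2 * B.a2) by group,
    B.sq1, B.sq2]

include B in
theorem Basis.hsur {v : P} (hv : v ∈ K.V) : ∃ a ∈ K.A, a * a = v := by
  rcases B.V_cases hv with rfl | rfl | rfl | rfl
  · exact ⟨1, K.A.one_mem, one_mul 1⟩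
  · exact ⟨_, B.ha1, B.sq1⟩
  · exact ⟨_, B.ha2, B.sq2⟩
  · exact ⟨_, K.A.mul_mem B.ha1 B.ha2, B.sq3⟩

theorem Basis.delta_val {x a : P} (hx : x ∈ K.D) (ha : a ∈ K.A) :
    (a * a = 1 ∧ ⁅x, a⁆ = 1) ∨ (a * a = B.v1 ∧ ⁅x, a⁆ = ⁅x, B.a1⁆) ∨
      (a * a = B.v2 ∧ ⁅x, a⁆ = ⁅x, B.a2⁆) ∨ (a * a = B.v1 * B.v2 ∧ ⁅x, a⁆ = ⁅x, B.a1⁆ * ⁅x, B.a2⁆) := by
  rcases B.V_cases (K.sq_mem_V ha) with e | e | e | e
  · exact Or.inl ⟨e, K.delta_V hx ⟨ha, e⟩⟩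
  · exact Or.inr (Or.inl ⟨e, K.delta_coset hx ha B.ha1 (e.trans B.sq1.symm)⟩)
  · exact Or.inr (Or.inr (Or.inl ⟨e, K.delta_coset hx ha B.ha2 (e.trans B.sq2.symm)⟩))
  · refine Or.inr (Or.inr (Or.inr ⟨e, ?_⟩))
    rw [← K.delta_mul_right B.ha1 B.ha2]
    exact K.delta_coset hx ha (K.A.mul_mem B.ha1 B.ha2) (e.trans B.sq3.symm)

theorem Basis.mem_C_of {x : P} (hx : x ∈ K.D) (h1 : ⁅x, B.a1⁆ = 1) (h2 : ⁅x, B.a2⁆ = 1) : x ∈ K.C :=
  K.mem_C.mpr fun a ha => (commutatorElement_eq_one_iff_mul_comm.mp (by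
    rcases B.delta_val hx ha with h | h | h | h <;> simp [h.2, h1, h2])).symm

theorem Basis.invFree {x : P} (hx : x ∈ K.D) (h1 : ⁅x, B.a1⁆ ≠ B.v1) (h2 : ⁅x, B.a2⁆ ≠ B.v2)
    (h3 : ⁅x, B.a1⁆ * ⁅x, B.a2⁆ ≠ B.v1 * B.v2) : K.InvFree x := by
  intro a ha e
  rcases B.delta_val hx ha with h | h | h | h
  · exact h.1
  · exact absurd (h.2.symm.trans (e.trans h.1)) h1
  · exact absurd (h.2.symm.trans (e.trans h.1)) h2
  · exact absurd (h.2.symm.trans (e.trans h.1)) h3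

theorem Basis.conj_v2 {g : P} (hg : g ∉ K.D) : g * B.v2 * g⁻¹ = B.v1 * B.v2 := by
  refine (K.conj_moved B.hv1 B.ne1 B.fix1 B.hv2 g).resolve_left fun e => hg (K.mem_D.mpr fun v hv => ?_)
  have ev : ∀ z, g * z * g⁻¹ = z → z * g = g * z := fun z ez => (mul_inv_eq_iff_eq_mul.mp ez).symm
  rcases B.V_cases hv with rfl | rfl | rfl | rfl
  · simp
  · exact ev _ (B.fix1 g)
  · exact ev _ e
  · exact ev _ (by
      rw [show g * (B.v1 * B.v2) * g⁻¹ = g * B.v1 * g⁻¹ * (g * B.v2 * g⁻¹) by group, B.fix1, e])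

theorem Basis.conj_v12 {g : P} (hg : g ∉ K.D) : g * (B.v1 * B.v2) * g⁻¹ = B.v2 := by
  rw [show g * (B.v1 * B.v2) * g⁻¹ = g * B.v1 * g⁻¹ * (g * B.v2 * g⁻¹) by group, B.fix1, B.conj_v2 hg,
    ← mul_assoc, B.hv1.2, one_mul]

/-- The pair of a conjugate of an element of `D`. -/
theorem Basis.conj_pair {g x : P} (hg : g ∉ K.D) (hx : x ∈ K.D) :
    ⁅g * x * g⁻¹, B.a1⁆ = g * ⁅x, B.a1⁆ * g⁻¹ ∧
      ⁅g * x * g⁻¹, B.a1⁆ * ⁅g * x * g⁻¹, B.a2⁆ = g * ⁅x, B.a2⁆ * g⁻¹ := by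
  have hy : g * x * g⁻¹ ∈ K.D := K.D_normal.conj_mem x hx g
  have hc : ∀ a : P, ⁅g * x * g⁻¹, g * a * g⁻¹⁆ = g * ⁅x, a⁆ * g⁻¹ := fun a => by
    simp only [commutatorElement_def]; group
  have hs : ∀ a : P, g * a * g⁻¹ * (g * a * g⁻¹) = g * (a * a) * g⁻¹ := fun a => by group
  constructor
  · rw [← hc B.a1]
    refine K.delta_coset hy B.ha1 (K.normal.conj_mem _ B.ha1 g) ?_
    rw [hs, B.sq1, B.fix1]
  · rw [← hc B.a2, ← K.delta_mul_right B.ha1 B.ha2]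
    refine K.delta_coset hy (K.A.mul_mem B.ha1 B.ha2) (K.normal.conj_mem _ B.ha2 g) ?_
    rw [hs, B.sq2, B.sq3, B.conj_v2 hg]

/-- `x` induces `(1, v1)`: it is central modulo `C`. -/
theorem Basis.central_N {x : P} (hx : x ∈ K.D) (h1 : ⁅x, B.a1⁆ = 1) (h2 : ⁅x, B.a2⁆ = B.v1) (g : P) :
    ⁅g, x⁆ ∈ K.C := by
  by_cases hg : g ∈ K.D
  · exact (K.D_quot hg hx).1
  obtain ⟨e1, e2⟩ := B.conj_pair hg hx
  rw [h1] at e1
  rw [h2, B.fix1, e1] at e2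
  simp only [mul_one, mul_inv_cancel, one_mul] at e1 e2
  have hy : g * x * g⁻¹ ∈ K.D := K.D_normal.conj_mem x hx g
  rw [show ⁅g, x⁆ = g * x * g⁻¹ * x⁻¹ from rfl]
  refine B.mem_C_of (K.D.mul_mem hy (K.D.inv_mem hx)) ?_ ?_
  · rw [K.delta_mul_left hy (K.D.inv_mem hx) B.ha1, K.delta_inv hx B.ha1, e1, h1, one_mul]
  · rw [K.delta_mul_left hy (K.D.inv_mem hx) B.ha2, K.delta_inv hx B.ha2, e2, h2, B.hv1.2]

/-- Pairs commuting with the outer element. -/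
theorem Basis.fixed_pair {g x : P} (hg : g ∉ K.D) (hx : x ∈ K.D) (h : ⁅g, x⁆ ∈ K.C) :
    (⁅x, B.a1⁆ = 1 ∧ ⁅x, B.a2⁆ = 1) ∨ (⁅x, B.a1⁆ = 1 ∧ ⁅x, B.a2⁆ = B.v1) ∨
      (⁅x, B.a1⁆ = B.v1 ∧ ⁅x, B.a2⁆ = B.v2) ∨ (⁅x, B.a1⁆ = B.v1 ∧ ⁅x, B.a2⁆ = B.v1 * B.v2) := by
  obtain ⟨e1, e2⟩ := B.conj_pair hg hx
  have hy : ∀ a ∈ K.A, ⁅g * x * g⁻¹, a⁆ = ⁅x, a⁆ := fun a ha => by
    rw [show g * x * g⁻¹ = ⁅g, x⁆ * x by simp [commutatorElement_def],
      K.delta_mul_left (K.C_le_D h) hx ha, K.delta_C h ha, one_mul]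
  rw [hy _ B.ha1] at e1 e2
  rw [hy _ B.ha2] at e2
  have n1 := B.ne1
  have n2 := B.ne2
  have m1 := B.ne_mul1
  have m2 := B.ne_mul2
  rcases B.V_cases (K.delta_mem hx B.ha1) with p | p | p | p
  · rw [p] at e1 e2 ⊢
    rcases B.V_cases (K.delta_mem hx B.ha2) with q | q | q | q <;> rw [q] at e2 ⊢
    · simp
    · simp
    · rw [B.conj_v2 hg, one_mul] at e2; exact absurd (by simpa using e2) n1
    · rw [B.conj_v12 hg, one_mul] at e2; exact absurd (by simpa using e2) n1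
  · rw [p] at e1 e2 ⊢
    rcases B.V_cases (K.delta_mem hx B.ha2) with q | q | q | q <;> rw [q] at e2 ⊢
    · simp at e2; exact absurd e2 n1
    · rw [B.fix1, B.hv1.2] at e2; exact absurd e2.symm n1
    · simp
    · simp
  · rw [p, B.conj_v2 hg] at e1; exact absurd e1.symm B.ne_mul3
  · rw [p, B.conj_v12 hg] at e1; exact absurd e1 B.ne_mul3

/-- An element of `D` acting without fixed points on `A / V` and one acting as `(1, v1)`. -/
theorem Basis.omega_absurd {x : P} (hx : x ∈ K.D) (hI : K.InvFree x)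
    (hinj : ∀ a ∈ K.A, ⁅x, a⁆ = 1 → a * a = 1)
    (h : (∀ g : P, g ∈ K.D) ∨ ∃ z ∈ K.D, ⁅z, B.a1⁆ = 1 ∧ ⁅z, B.a2⁆ = B.v1) : False := by
  have hxC : x ∉ K.C := fun hc => B.ne1 (by rw [← B.sq1]; exact hinj _ B.ha1 (K.delta_C hc B.ha1))
  have hx2 : x * x ∈ K.V := K.fixed_mem hinj (K.D_quot hx hx).2 (by group)
  have hsquare : ∀ {z : P}, z * z ∈ K.V → ∃ s ∈ K.C, z * z = s * s := fun hz => by
    obtain ⟨a, ha, e⟩ := B.hsur hz
    exact ⟨a, K.A_le_C ha, e.symm⟩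
  rcases h with hall | ⟨z, hz, hz1, hz2⟩
  · exact K.key (fun v hv => B.hsur hv) B.V_card hx hxC hI (fun g => (K.D_quot (hall g) hx).1) (hsquare hx2)
  · obtain ⟨a, ha, ht⟩ := K.exists_invol (fun v hv => B.hsur hv) hx hI hx2
    have hda : ∀ b ∈ K.A, ⁅a * x, b⁆ = ⁅x, b⁆ := fun b hb => by
      rw [K.delta_mul_left (K.A_le_D ha) hx hb, K.delta_C (K.A_le_C ha) hb, one_mul]
    have htD : a * x ∈ K.D := K.D.mul_mem (K.A_le_D ha) hx
    have hd : ⁅z, a * x⁆ ∈ K.V :=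
      K.comm_invol_mem (K.invFree_congr hx (K.A_le_C ha) hI) ht (K.D_quot hz htD).1
    set t := a * x
    set d := ⁅z, t⁆ with hdd
    have h1 : z * t * z⁻¹ = d * t := by rw [hdd, commutatorElement_def, inv_mul_cancel_right]
    have hzd : z * d * z⁻¹ = d := by rw [← K.mem_D.mp hz d hd, mul_inv_cancel_right]
    have h2 : z * z * t * (z * z)⁻¹ = t := by
      rw [show z * z * t * (z * z)⁻¹ = z * (z * t * z⁻¹) * z⁻¹ by group, h1,
        show z * (d * t) * z⁻¹ = (z * d * z⁻¹) * (z * t * z⁻¹) by group, hzd, h1, ← mul_assoc, hd.2,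
        one_mul]
    have hz2V : z * z ∈ K.V := K.fixed_mem (x := t) (fun b hb e => hinj b hb (by rwa [hda b hb] at e))
      (K.D_quot hz hz).2 (mul_inv_eq_iff_eq_mul.mp h2).symm
    refine K.key (fun v hv => B.hsur hv) B.V_card hz (fun hc => B.ne1 ?_) ?_
      (B.central_N hz hz1 hz2) (hsquare hz2V)
    · rw [← hz2]; exact K.delta_C hc B.ha2
    · refine B.invFree hz ?_ ?_ ?_
      · rw [hz1]; exact B.ne1.symm
      · rw [hz2]; exact B.ne12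
      · rw [hz1, hz2, one_mul]; exact B.ne_mul2.symm

/-- The pairs `(⁅x, a1⁆, ⁅x, a2⁆)`. -/
def Basis.pi : K.D →* K.V × K.V where
  toFun x := (⟨⁅(x : P), B.a1⁆, K.delta_mem x.2 B.ha1⟩, ⟨⁅(x : P), B.a2⁆, K.delta_mem x.2 B.ha2⟩)
  map_one' := by
    refine Prod.ext (Subtype.ext ?_) (Subtype.ext ?_) <;> simp
  map_mul' x y := by
    refine Prod.ext (Subtype.ext ?_) (Subtype.ext ?_)
    · exact K.delta_mul_left x.2 y.2 B.ha1
    · exact K.delta_mul_left x.2 y.2 B.ha2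

theorem Basis.pi_ker : B.pi.ker = K.C.subgroupOf K.D := by
  ext ⟨x, hx⟩
  rw [MonoidHom.mem_ker, Subgroup.mem_subgroupOf]
  constructor
  · intro h
    exact B.mem_C_of hx (congrArg (fun z => ((z.1 : K.V) : P)) h) (congrArg (fun z => ((z.2 : K.V) : P)) h)
  · intro h
    refine Prod.ext (Subtype.ext ?_) (Subtype.ext ?_)
    · exact K.delta_C h B.ha1
    · exact K.delta_C h B.ha2

/-- The image of `L` in the group of pairs. -/
def Basis.pr (L : Subgroup P) : Subgroup (K.V × K.V) := (L.subgroupOf K.D).map B.pi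

theorem Basis.mem_pr {L : Subgroup P} {p q : P} {hp : p ∈ K.V} {hq : q ∈ K.V} :
    ((⟨p, hp⟩, ⟨q, hq⟩) : K.V × K.V) ∈ B.pr L ↔ ∃ x ∈ L, x ∈ K.D ∧ ⁅x, B.a1⁆ = p ∧ ⁅x, B.a2⁆ = q := by
  constructor
  · rintro ⟨⟨x, hx⟩, hxL, e⟩
    exact ⟨x, hxL, hx, congrArg (fun z => ((z.1 : K.V) : P)) e, congrArg (fun z => ((z.2 : K.V) : P)) e⟩
  · rintro ⟨x, hxL, hx, e1, e2⟩
    exact ⟨⟨x, hx⟩, hxL, Prod.ext (Subtype.ext e1) (Subtype.ext e2)⟩

theorem Basis.card_pr {L : Subgroup P} (hL : L ≤ K.D) :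
    haveI := K.C_normal
    Nat.card (B.pr L) = Nat.card (L.map (QuotientGroup.mk' K.C)) := by
  haveI := K.C_normal
  rw [Basis.pr, ← Subgroup.relIndex_ker, ← Subgroup.relIndex_ker, B.pi_ker, QuotientGroup.ker_mk',
    Subgroup.relIndex_subgroupOf hL]

theorem mem_mul_of_large {G : Type*} [Group G] [Finite G] {W : Subgroup G}
    (h : Nat.card G ≤ 2 * Nat.card W) {p q : G} (hp : p ∉ W) (hq : q ∉ W) : p * q ∈ W := by
  have h1 := W.card_mul_index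
  have h2 : W.index ≤ 2 := Nat.le_of_mul_le_mul_left (by omega : Nat.card W * W.index ≤ Nat.card W * 2) Nat.card_pos
  have h3 : 0 < W.index := Nat.pos_of_ne_zero Subgroup.index_ne_zero_of_finite
  rcases (by omega : W.index = 1 ∨ W.index = 2) with h4 | h4
  · rw [Subgroup.index_eq_one.mp h4]; trivial
  · rw [Subgroup.mul_mem_iff_of_index_two h4]; exact iff_of_false hp hq

include B in
theorem Basis.card_pairs : Nat.card (K.V × K.V) = 16 := by rw [Nat.card_prod, B.V_card]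

theorem Basis.N_mem {L : Subgroup P} (hL : L.Normal) (h8 : 8 ≤ Nat.card (B.pr L)) {g : P} (hg : g ∉ K.D) :
    ∃ x ∈ L, x ∈ K.D ∧ ⁅x, B.a1⁆ = 1 ∧ ⁅x, B.a2⁆ = B.v1 := by
  by_contra hcon
  have h16 : Nat.card (K.V × K.V) ≤ 2 * Nat.card (B.pr L) := by rw [B.card_pairs]; omega
  have hN : ((⟨1, K.V.one_mem⟩, ⟨B.v1, B.hv1⟩) : K.V × K.V) ∉ B.pr L := fun h => hcon (B.mem_pr.mp h)
  have hE : ((⟨B.v1, B.hv1⟩, ⟨1, K.V.one_mem⟩) : K.V × K.V) ∉ B.pr L := by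
    intro h
    obtain ⟨x, hxL, hx, p, q⟩ := B.mem_pr.mp h
    obtain ⟨e1, e2⟩ := B.conj_pair hg hx
    rw [p, B.fix1] at e1
    rw [q, e1, mul_one, mul_inv_cancel] at e2
    have e2' : ⁅g * x * g⁻¹, B.a2⁆ = B.v1 := mul_left_cancel (e2.trans B.hv1.2.symm)
    have hy : g * x * g⁻¹ ∈ K.D := K.D_normal.conj_mem x hx g
    refine hcon ⟨_, L.mul_mem hxL (hL.conj_mem x hxL g), K.D.mul_mem hx hy, ?_, ?_⟩
    · rw [K.delta_mul_left hx hy B.ha1, p, e1, B.hv1.2]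
    · rw [K.delta_mul_left hx hy B.ha2, q, e2', one_mul]
  obtain ⟨x, hxL, hx, p, q⟩ := (B.mem_pr (p := B.v1) (q := B.v1) (hp := B.hv1) (hq := B.hv1)).mp (by
    have := mem_mul_of_large h16 hE hN
    convert this using 1
    refine Prod.ext (Subtype.ext ?_) (Subtype.ext ?_) <;> simp)
  obtain ⟨e1, e2⟩ := B.conj_pair hg hx
  rw [p, B.fix1] at e1
  rw [q, e1, B.fix1] at e2
  exact hE (B.mem_pr.mpr ⟨_, hL.conj_mem x hxL g, K.D_normal.conj_mem x hx g, e1, by simpa using e2⟩)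

theorem Basis.omega_facts {x : P} (hx : x ∈ K.D)
    (h : (⁅x, B.a1⁆ = B.v2 ∧ ⁅x, B.a2⁆ = B.v1 * B.v2) ∨ (⁅x, B.a1⁆ = B.v1 * B.v2 ∧ ⁅x, B.a2⁆ = B.v1)) :
    K.InvFree x ∧ ∀ a ∈ K.A, ⁅x, a⁆ = 1 → a * a = 1 := by
  have h21 : B.v2 * (B.v1 * B.v2) = B.v1 := by
    rw [← mul_assoc, B.comm12, mul_assoc, B.hv2.2, mul_one]
  have h12 : B.v1 * B.v2 * B.v1 = B.v2 := by
    rw [mul_assoc, B.comm12, ← mul_assoc, B.hv1.2, one_mul]
  rcases h with ⟨p, q⟩ | ⟨p, q⟩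
  · refine ⟨B.invFree hx ?_ ?_ ?_, fun a ha e => ?_⟩
    · rw [p]; exact B.ne12.symm
    · rw [q]; exact B.ne_mul3
    · rw [p, q, h21]; exact B.ne_mul2.symm
    · rcases B.delta_val hx ha with h | h | h | h
      · exact h.1
      · exact absurd ((p.symm.trans h.2.symm).trans e) B.ne2
      · exact absurd ((q.symm.trans h.2.symm).trans e) B.ne_mul1
      · rw [e, p, q, h21] at h; exact absurd h.2.symm B.ne1
  · refine ⟨B.invFree hx ?_ ?_ ?_, fun a ha e => ?_⟩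
    · rw [p]; exact B.ne_mul2
    · rw [q]; exact B.ne12
    · rw [p, q, h12]; exact B.ne_mul3.symm
    · rcases B.delta_val hx ha with h | h | h | h
      · exact h.1
      · exact absurd ((p.symm.trans h.2.symm).trans e) B.ne_mul1
      · exact absurd ((q.symm.trans h.2.symm).trans e) B.ne1
      · rw [e, p, q, h12] at h; exact absurd h.2.symm B.ne2

theorem Basis.card_pr_D_le : Nat.card (B.pr K.D) ≤ 8 := by
  by_contra hlt
  have hdvd := (B.pr K.D).card_subgroup_dvd_card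
  rw [B.card_pairs] at hdvd
  have h16 : Nat.card (B.pr K.D) = 16 := by
    have hle := Nat.le_of_dvd (by norm_num) hdvd
    interval_cases h : Nat.card (B.pr K.D) <;> simp_all (config := { decide := true })
  have htop : B.pr K.D = ⊤ := Subgroup.eq_top_of_card_eq _ (by rw [h16, B.card_pairs])
  obtain ⟨x, -, hx, p, q⟩ := (B.mem_pr (p := B.v2) (q := B.v1 * B.v2) (hp := B.hv2)
    (hq := K.V.mul_mem B.hv1 B.hv2)).mp (htop ▸ Subgroup.mem_top _)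
  obtain ⟨hI, hinj⟩ := B.omega_facts hx (Or.inl ⟨p, q⟩)
  refine B.omega_absurd hx hI hinj (Or.inr ?_)
  obtain ⟨z, -, hz⟩ := (B.mem_pr (p := 1) (q := B.v1) (hp := K.V.one_mem) (hq := B.hv1)).mp
    (htop ▸ Subgroup.mem_top _)
  exact ⟨z, hz⟩

/-- In case `D = P` some element of `D` is good. -/
theorem Basis.exists_good_all (hall : ∀ g : P, g ∈ K.D) (h8 : 8 ≤ Nat.card (B.pr K.D)) :
    ∃ x ∈ K.D, x ∉ K.C ∧ K.InvFree x ∧
      (⁅x, B.a1⁆, ⁅x, B.a2⁆) ∈ ({(1, B.v1), (B.v2, 1), (B.v1 * B.v2, B.v1 * B.v2)} : Set (P × P)) := by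
  have h16 : Nat.card (K.V × K.V) ≤ 2 * Nat.card (B.pr K.D) := by rw [B.card_pairs]; omega
  set W := B.pr K.D
  let m : ∀ p q : P, p ∈ K.V → q ∈ K.V → K.V × K.V := fun p q hp hq => (⟨p, hp⟩, ⟨q, hq⟩)
  have hv12 := K.V.mul_mem B.hv1 B.hv2
  have hw : ∀ p q (hp : p ∈ K.V) (hq : q ∈ K.V),
      ((p = B.v2 ∧ q = B.v1 * B.v2) ∨ (p = B.v1 * B.v2 ∧ q = B.v1)) → m p q hp hq ∉ W := by
    intro p q hp hq hpq hmem
    obtain ⟨x, -, hx, ep, eq⟩ := B.mem_pr.mp hmem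
    obtain ⟨hI, hinj⟩ := B.omega_facts hx (by rw [ep, eq]; exact hpq)
    exact B.omega_absurd hx hI hinj (Or.inl hall)
  have hI : m B.v1 B.v2 B.hv1 B.hv2 ∈ W := by
    have := mem_mul_of_large h16 (hw _ _ B.hv2 hv12 (Or.inl ⟨rfl, rfl⟩))
      (hw _ _ hv12 B.hv1 (Or.inr ⟨rfl, rfl⟩))
    convert this using 1
    refine Prod.ext (Subtype.ext ?_) (Subtype.ext ?_)
    · show B.v1 = B.v2 * (B.v1 * B.v2)
      rw [← mul_assoc, B.comm12, mul_assoc, B.hv2.2, mul_one]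
    · show B.v2 = B.v1 * B.v2 * B.v1
      rw [mul_assoc, B.comm12, ← mul_assoc, B.hv1.2, one_mul]
  have fin : ∀ p q (hp : p ∈ K.V) (hq : q ∈ K.V), m p q hp hq ∈ W → p ≠ B.v1 → q ≠ B.v2 →
      p * q ≠ B.v1 * B.v2 → (p ≠ 1 ∨ q ≠ 1) →
      (p, q) ∈ ({(1, B.v1), (B.v2, 1), (B.v1 * B.v2, B.v1 * B.v2)} : Set (P × P)) →
      ∃ x ∈ K.D, x ∉ K.C ∧ K.InvFree x ∧
      (⁅x, B.a1⁆, ⁅x, B.a2⁆) ∈ ({(1, B.v1), (B.v2, 1), (B.v1 * B.v2, B.v1 * B.v2)} : Set (P × P)) := by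
    intro p q hp hq hmem n1 n2 n3 n4 hin
    obtain ⟨x, -, hx, ep, eq⟩ := B.mem_pr.mp hmem
    refine ⟨x, hx, fun hc => ?_, B.invFree hx (ep ▸ n1) (eq ▸ n2) (ep ▸ eq ▸ n3), by rw [ep, eq]; exact hin⟩
    rcases n4 with n | n
    · exact n (ep.symm.trans (K.delta_C hc B.ha1))
    · exact n (eq.symm.trans (K.delta_C hc B.ha2))
  by_cases hN : m 1 B.v1 K.V.one_mem B.hv1 ∈ W
  · exact fin _ _ _ _ hN B.ne1.symm B.ne12 (by rw [one_mul]; exact B.ne_mul2.symm) (Or.inr B.ne1) (by simp)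
  by_cases hN2 : m B.v2 1 B.hv2 K.V.one_mem ∈ W
  · exact fin _ _ _ _ hN2 B.ne12.symm B.ne2.symm (by rw [mul_one]; exact B.ne_mul3.symm) (Or.inl B.ne2) (by simp)
  refine fin _ _ hv12 hv12 ?_ B.ne_mul2 B.ne_mul3 (by rw [hv12.2]; exact B.ne_mul1.symm)
    (Or.inl B.ne_mul1) (by simp)
  have := W.mul_mem hI (mem_mul_of_large h16 hN hN2)
  convert this using 1
  refine Prod.ext (Subtype.ext ?_) (Subtype.ext ?_)
  · show B.v1 * B.v2 = B.v1 * (1 * B.v2)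
    rw [one_mul]
  · show B.v1 * B.v2 = B.v2 * (B.v1 * 1)
    rw [mul_one, B.comm12]

end H73.MW.Ctx
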