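import Mathlib
import Cfsg.Agent.H73.MacWilliams

/-! MacWilliams' theorem: assembly. -/

set_option autoImplicit false
set_option linter.unusedSectionVars false
set_option linter.style.haveILetI false

namespace H73.MW

open scoped commutatorElement

universe u

variable {P : Type u} [Group P] [Finite P]

theorem Ctx.card_quot_le (K : Ctx P) :
    haveI := K.C_normal
    Nat.card (P ⧸ K.C) ≤ 2 * Nat.card (K.D.map (QuotientGroup.mk' K.C)) ∧
      ∀ x : P, QuotientGroup.mk' K.C x ∈ K.D.map (QuotientGroup.mk' K.C) → x ∈ K.D := by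
  haveI := K.C_normal
  have hmem : ∀ x : P, QuotientGroup.mk' K.C x ∈ K.D.map (QuotientGroup.mk' K.C) → x ∈ K.D := by
    rintro x ⟨d, hd, e⟩
    have h1 : d⁻¹ * x ∈ K.C := QuotientGroup.eq.mp e
    have := K.D.mul_mem hd (K.C_le_D h1)
    rwa [mul_inv_cancel_left] at this
  refine ⟨?_, hmem⟩
  have h := card_le_two_mul (K.D.map (QuotientGroup.mk' K.C)) ⊤ (fun x _ y _ hx hy => by
    obtain ⟨g, rfl⟩ := QuotientGroup.mk'_surjective _ x
    obtain ⟨h, rfl⟩ := QuotientGroup.mk'_surjective _ y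
    rw [← map_mul]
    exact Subgroup.mem_map_of_mem _ (K.D_index (fun hg => hx (Subgroup.mem_map_of_mem _ hg))
      (fun hh => hy (Subgroup.mem_map_of_mem _ hh))))
  rwa [Subgroup.card_top, top_inf_eq] at h

/-- All squares of elements of `A` lie in `{1, v}`: then the quotient by `C` has no `E₈`. -/
theorem Ctx.one_square (K : Ctx P) {v a1 : P} (ha1 : a1 ∈ K.A) (hv : a1 * a1 = v)
    (hall : ∀ a ∈ K.A, a * a = 1 ∨ a * a = v) (h8 : haveI := K.C_normal; 8 ≤ Nat.card (P ⧸ K.C))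
    (hcomm : ∀ g h : P, ⁅g, h⁆ ∈ K.C) : False := by
  haveI := K.C_normal
  let π : K.D →* K.V :=
    { toFun := fun x => ⟨⁅(x : P), a1⁆, K.delta_mem x.2 ha1⟩
      map_one' := Subtype.ext (by simp)
      map_mul' := fun x y => Subtype.ext (K.delta_mul_left x.2 y.2 ha1) }
  have hker : π.ker = K.C.subgroupOf K.D := by
    ext ⟨x, hx⟩
    rw [MonoidHom.mem_ker, Subgroup.mem_subgroupOf]
    constructor
    · intro h
      refine K.mem_C.mpr fun a ha => (commutatorElement_eq_one_iff_mul_comm.mp ?_).symm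
      rcases hall a ha with e | e
      · exact K.delta_V hx ⟨ha, e⟩
      · rw [K.delta_coset hx ha ha1 (e.trans hv.symm)]; exact congrArg Subtype.val h
    · exact fun h => Subtype.ext (K.delta_C h ha1)
  have hcard : Nat.card (K.D.map (QuotientGroup.mk' K.C)) = Nat.card π.range := by
    rw [← Subgroup.relIndex_ker, QuotientGroup.ker_mk', ← Subgroup.relIndex_subgroupOf le_rfl, ← hker,
      Subgroup.subgroupOf_self, Subgroup.relIndex_top_right, Subgroup.index_ker]
  obtain ⟨hq, -⟩ := K.card_quot_le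
  have hV := K.V_card
  have hr : Nat.card π.range ≤ Nat.card K.V := Subgroup.card_le_card_group _
  have htop : π.range = ⊤ := Subgroup.eq_top_of_card_eq _ (by omega)
  have hD : K.D ≠ ⊤ := fun e => by
    have h1 : Nat.card (P ⧸ K.C) = Nat.card (K.D.map (QuotientGroup.mk' K.C)) := by
      rw [e, Subgroup.map_top_of_surjective _ (QuotientGroup.mk'_surjective _), Subgroup.card_top]
    omega
  obtain ⟨g, hg⟩ : ∃ g, g ∉ K.D := by
    by_contra hc; push_neg at hc; exact hD ((Subgroup.eq_top_iff' _).mpr hc)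
  obtain ⟨w, hw, hgw⟩ : ∃ w ∈ K.V, g * w * g⁻¹ ≠ w := by
    by_contra hc; push_neg at hc
    exact hg (K.mem_D.mpr fun w hw => (mul_inv_eq_iff_eq_mul.mp (hc w hw)).symm)
  obtain ⟨⟨x, hx⟩, hxw⟩ := (htop ▸ Subgroup.mem_top _ : (⟨w, hw⟩ : K.V) ∈ π.range)
  have hxw' : ⁅x, a1⁆ = w := congrArg Subtype.val hxw
  have hy : g * x * g⁻¹ ∈ K.D := K.D_normal.conj_mem x hx g
  have hga : g * a1 * g⁻¹ ∈ K.A := K.normal.conj_mem a1 ha1 g
  have hgv : g * a1 * g⁻¹ * (g * a1 * g⁻¹) = a1 * a1 := by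
    rcases hall _ hga with e | e
    · rw [e]
      have : g * (a1 * a1) * g⁻¹ = 1 := by rw [← e]; group
      exact (conj_eq_one_iff.mp this).symm
    · rw [e, hv]
  have h1 : ⁅g * x * g⁻¹, g * a1 * g⁻¹⁆ = g * w * g⁻¹ := by
    rw [← hxw']; simp only [commutatorElement_def]; group
  rw [K.delta_coset hy hga ha1 hgv, show g * x * g⁻¹ = ⁅g, x⁆ * x by simp [commutatorElement_def],
    K.delta_mul_left (K.C_le_D (hcomm g x)) hx ha1, K.delta_C (hcomm g x) ha1, one_mul, hxw'] at h1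
  exact hgw h1.symm

open H31.SR in
/-- A bad section is impossible. -/
theorem Ctx.bd_four (K : Ctx P) : Bd 4 (⊤ : Subgroup P) := by
  haveI := K.C_normal
  haveI : Fact (Nat.Prime 2) := ⟨Nat.prime_two⟩
  intro H N _ hs
  set f := QuotientGroup.mk' K.C with hf
  have hker : f.ker = K.C := QuotientGroup.ker_mk' _
  have hsplit := relIndex_split f hs.le
  rw [hker] at hsplit
  obtain ⟨hC4, hCsq⟩ := card_le_four_mul K.h2 (C := K.C) (fun d hd h4 y hy => K.C_central d hd h4 y hy)
    K.C_inv_card (H := H ⊓ K.C) (N := N ⊓ K.C) inf_le_right (hs.inf K.C).sq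
  have hmulC := relIndex_mul_card (inf_le_inf_right K.C hs.le : N ⊓ K.C ≤ H ⊓ K.C)
  have hcp : (N ⊓ K.C).relIndex (H ⊓ K.C) ≤ 4 :=
    Nat.le_of_mul_le_mul_right (hmulC.trans_le hC4) Nat.card_pos
  by_contra hbig
  have hbig' : 16 < N.relIndex H := by norm_num at hbig ⊢; omega
  rw [hsplit] at hbig'
  set im := (N.map f).relIndex (H.map f) with him
  obtain ⟨k, hk⟩ := Sec.two_pow (H := H.map f) (N := N.map f) (K.h2.to_quotient K.C)
  have him8 : 8 ≤ im := by
    by_contra hlt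
    rw [← him] at hk
    have hk3 : k ≤ 2 := by
      by_contra hk3
      have : 2 ^ 3 ≤ 2 ^ k := Nat.pow_le_pow_right (by norm_num) (by omega)
      omega
    have : im ≤ 4 := hk ▸ (Nat.pow_le_pow_right (by norm_num) hk3)
    have := Nat.mul_le_mul this hcp
    omega
  have hmulI := relIndex_mul_card (hs.map f).le
  rw [← him] at hmulI
  have himle : im ≤ Nat.card (H.map f) := by
    rw [← hmulI]; exact Nat.le_mul_of_pos_right _ Nat.card_pos
  have hHle : Nat.card (H.map f) ≤ Nat.card (P ⧸ K.C) := Subgroup.card_le_card_group _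
  have hfull : Nat.card (H.map f) ≤ im → ∀ g ∈ H, ∀ h ∈ H, ⁅g, h⁆ ∈ K.C := by
    intro hle g hg h hh
    have hN1 : Nat.card (N.map f) = 1 := by
      have : im * Nat.card (N.map f) ≤ im * 1 := by omega
      have := Nat.le_of_mul_le_mul_left this (by omega)
      have : 0 < Nat.card (N.map f) := Nat.card_pos
      omega
    have h1 := (hs.map f).comm _ (Subgroup.mem_map_of_mem f hg) _ (Subgroup.mem_map_of_mem f hh)
    rw [Subgroup.card_eq_one.mp hN1, Subgroup.mem_bot, ← map_commutatorElement] at h1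
    exact (QuotientGroup.eq_one_iff _).mp h1
  obtain ⟨hq, hmemD⟩ := K.card_quot_le
  rw [← hf] at hq hmemD
  by_cases hB : ∃ a ∈ K.A, ∃ b ∈ K.A, a * a ≠ 1 ∧ b * b ≠ 1 ∧ a * a ≠ b * b
  · -- `A ≅ Z₄ × Z₄`
    obtain ⟨a, ha, b, hb, na, nb, nab⟩ := hB
    obtain ⟨hV4, hVc⟩ := K.V_four (K.sq_mem_V ha) (K.sq_mem_V hb) na nb nab
    obtain ⟨v1, hv1, h1, hfix⟩ := K.exists_fixed fun e => na (by
      have := K.sq_mem_V ha; rwa [e, Subgroup.mem_bot] at this)
    have hsur : ∀ v ∈ K.V, ∃ c ∈ K.A, c * c = v := by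
      intro v hv
      rcases hVc v hv with rfl | rfl | rfl | rfl
      · exact ⟨1, K.A.one_mem, one_mul 1⟩
      · exact ⟨a, ha, rfl⟩
      · exact ⟨b, hb, rfl⟩
      · refine ⟨a * b, K.A.mul_mem ha hb, ?_⟩
        rw [show a * b * (a * b) = a * (b * a) * b by group, K.comm b hb a ha]; group
    obtain ⟨v2, hv2, h2, h12⟩ : ∃ v2 ∈ K.V, v2 ≠ 1 ∧ v1 ≠ v2 := by
      rcases eq_or_ne v1 (a * a) with e | e
      · exact ⟨b * b, K.sq_mem_V hb, nb, e ▸ nab⟩
      · exact ⟨a * a, K.sq_mem_V ha, na, e⟩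
    obtain ⟨a1, ha1, s1⟩ := hsur v1 hv1
    obtain ⟨a2, ha2, s2⟩ := hsur v2 hv2
    let B : Ctx.Basis K := ⟨v1, v2, a1, a2, hv1, hv2, h1, h2, h12, hfix, ha1, ha2, s1, s2⟩
    have hD8 : Nat.card (K.D.map f) ≤ 8 := by rw [← B.card_pr le_rfl]; exact B.card_pr_D_le
    -- `im = 8`
    have himle8 : im ≤ 8 := by
      by_contra hgt
      rw [← him] at hk
      have hk4 : 4 ≤ k := by
        by_contra hk4
        have : im ≤ 2 ^ 3 := hk ▸ Nat.pow_le_pow_right (by norm_num) (by omega)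
        omega
      have h16 : 16 ≤ im := by
        have := Nat.pow_le_pow_right (show 0 < 2 by norm_num) hk4
        omega
      have hHtop : H.map f = ⊤ := Subgroup.eq_top_of_card_eq _ (by omega)
      obtain ⟨g, hg⟩ : ∃ g, g ∉ K.D := by
        by_contra hc; push_neg at hc
        have : Nat.card (P ⧸ K.C) = Nat.card (K.D.map f) := by
          rw [(Subgroup.eq_top_iff' _).mpr hc,
            Subgroup.map_top_of_surjective _ (QuotientGroup.mk'_surjective _), Subgroup.card_top]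
        omega
      have hcomm : ∀ x : P, ⁅g, x⁆ ∈ K.C := by
        intro x
        obtain ⟨g', hg', eg⟩ := (hHtop ▸ Subgroup.mem_top (f g) : f g ∈ H.map f)
        obtain ⟨x', hx', ex⟩ := (hHtop ▸ Subgroup.mem_top (f x) : f x ∈ H.map f)
        refine (QuotientGroup.eq_one_iff _).mp ?_
        show f ⁅g, x⁆ = 1
        rw [map_commutatorElement, ← eg, ← ex, ← map_commutatorElement]
        exact (QuotientGroup.eq_one_iff _).mpr (hfull (by omega) g' hg' x' hx')
      have h8 : Nat.card (B.pr K.D) = 8 := by rw [B.card_pr le_rfl, ← hf]; omega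
      have hv12 := K.V.mul_mem hv1 hv2
      have hnot : ∀ p q (hp : p ∈ K.V) (hq : q ∈ K.V), (p = v1 ∧ q = 1 ∨ p = v2 ∧ q = 1 ∨ p = v1 * v2 ∧ q = 1) →
          ((⟨p, hp⟩, ⟨q, hq⟩) : K.V × K.V) ∉ B.pr K.D := by
        intro p q hp hq hpq hmem
        obtain ⟨x, -, hx, ep, eq⟩ := B.mem_pr.mp hmem
        have hfx := B.fixed_pair hg hx (hcomm x)
        rw [ep, eq] at hfx
        have m1 : v1 * v2 ≠ 1 := B.ne_mul1
        rcases hfx with ⟨c, d⟩ | ⟨c, d⟩ | ⟨c, d⟩ | ⟨c, d⟩ <;>
          rcases hpq with ⟨rfl, rfl⟩ | ⟨rfl, rfl⟩ | ⟨rfl, rfl⟩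
        all_goals first
          | exact h1 c | exact h2 c | exact m1 c | exact h1 d.symm | exact h2 d.symm | exact m1 d.symm
      have hmem := Ctx.mem_mul_of_large (W := B.pr K.D) (by rw [B.card_pairs]; omega)
        (hnot v1 1 hv1 K.V.one_mem (Or.inl ⟨rfl, rfl⟩)) (hnot v2 1 hv2 K.V.one_mem (Or.inr (Or.inl ⟨rfl, rfl⟩)))
      refine hnot (v1 * v2) 1 hv12 K.V.one_mem (Or.inr (Or.inr ⟨rfl, rfl⟩)) ?_
      convert hmem using 1
      refine Prod.ext (Subtype.ext rfl) (Subtype.ext ?_)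
      exact (one_mul 1).symm
    -- `H ⊓ C` has all of `N ⊓ C` as squares
    have hcp4 : 4 ≤ (N ⊓ K.C).relIndex (H ⊓ K.C) := by
      by_contra hlt
      obtain ⟨j, hj⟩ := Sec.two_pow (H := H ⊓ K.C) (N := N ⊓ K.C) K.h2
      have : j ≤ 1 := by
        by_contra hj1
        have : 2 ^ 2 ≤ 2 ^ j := Nat.pow_le_pow_right (by norm_num) (by omega)
        omega
      have h2' : (N ⊓ K.C).relIndex (H ⊓ K.C) ≤ 2 := hj ▸ (le_trans (Nat.pow_le_pow_right (by norm_num) this) (by norm_num))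
      have := Nat.mul_le_mul himle8 h2'
      omega
    have hsq := hCsq ((Nat.mul_le_mul_right _ hcp4).trans hmulC.le)
    -- a good element in the image of `H`
    have hfin : ∀ x ∈ K.D, f x ∈ H.map f → x ∉ K.C → K.InvFree x → (∀ g : P, ⁅g, x⁆ ∈ K.C) → False := by
      intro x hx hxH hxC hI hcent
      obtain ⟨h, hh, eh⟩ := hxH
      have hc : h * x⁻¹ ∈ K.C := by
        refine (QuotientGroup.eq_one_iff _).mp ?_
        show f (h * x⁻¹) = 1
        rw [map_mul, map_inv, eh, mul_inv_cancel]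
      have hxh : h = h * x⁻¹ * x := by group
      have hhD : h ∈ K.D := hxh ▸ K.D.mul_mem (K.C_le_D hc) hx
      obtain ⟨s, hs', e⟩ := hsq (h * h) ⟨hs.sq h hh, (K.D_quot hhD hhD).2⟩
      refine K.key (fun v hv => hsur v hv) hV4 hhD (fun hhC => hxC ?_) (hxh ▸ K.invFree_congr hx hc hI)
        (fun g => ?_) ⟨s, hs'.2, e⟩
      · have := K.C.mul_mem (K.C.inv_mem hc) hhC
        rwa [show (h * x⁻¹)⁻¹ * h = x by group] at this
      · refine (QuotientGroup.eq_one_iff _).mp ?_
        show f ⁅g, h⁆ = 1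
        rw [map_commutatorElement, eh, ← map_commutatorElement]
        exact (QuotientGroup.eq_one_iff _).mpr (hcent g)
    by_cases hall : ∀ g : P, g ∈ K.D
    · have hDt : K.D.map f = ⊤ := by
        rw [(Subgroup.eq_top_iff' _).mpr hall, Subgroup.map_top_of_surjective _ (QuotientGroup.mk'_surjective _)]
      have hPq : Nat.card (P ⧸ K.C) = Nat.card (K.D.map f) := by rw [hDt, Subgroup.card_top]
      have hHtop : H.map f = ⊤ := Subgroup.eq_top_of_card_eq _ (by omega)
      obtain ⟨x, hx, hxC, hI, -⟩ := B.exists_good_all hall (by rw [B.card_pr le_rfl, ← hf]; omega)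
      exact hfin x hx (hHtop ▸ Subgroup.mem_top _) hxC hI fun g => (K.D_quot (hall g) hx).1
    · push_neg at hall
      obtain ⟨g, hg⟩ := hall
      have good : (∃ x ∈ K.D, f x ∈ H.map f ∧ ⁅x, a1⁆ = 1 ∧ ⁅x, a2⁆ = v1) → False := by
        rintro ⟨x, hx, hxH, p, q⟩
        refine hfin x hx hxH (fun hc => h1 (q.symm.trans (K.delta_C hc ha2))) ?_ (B.central_N hx p q)
        refine B.invFree hx ?_ ?_ ?_
        · show ⁅x, a1⁆ ≠ v1; rw [p]; exact h1.symm
        · show ⁅x, a2⁆ ≠ v2; rw [q]; exact h12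
        · show ⁅x, a1⁆ * ⁅x, a2⁆ ≠ v1 * v2; rw [p, q, one_mul]; exact B.ne_mul2.symm
      have viaD : 8 ≤ Nat.card (K.D.map f) → K.D.map f ≤ H.map f → False := by
        intro h8 hle
        obtain ⟨x, -, hx, p, q⟩ := B.N_mem K.D_normal (by rw [B.card_pr le_rfl]; exact h8) hg
        exact good ⟨x, hx, hle (Subgroup.mem_map_of_mem f hx), p, q⟩
      by_cases hHD : H.map f ≤ K.D.map f
      · refine viaD (by have := Subgroup.card_le_of_le hHD; omega) (le_of_eq ?_)
        exact (Subgroup.eq_of_le_of_card_ge hHD (by omega)).symm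
      obtain ⟨y, hy, hyD⟩ := SetLike.not_le_iff_exists.mp hHD
      obtain ⟨h0, hh0, rfl⟩ := hy
      have hh0D : h0 ∉ K.D := fun h => hyD (Subgroup.mem_map_of_mem f h)
      by_cases hbigH : 16 ≤ Nat.card (H.map f)
      · have hHtop : H.map f = ⊤ := Subgroup.eq_top_of_card_eq _ (by omega)
        exact viaD (by omega) (by rw [hHtop]; exact le_top)
      have hdiv : im ∣ Nat.card (H.map f) := ⟨_, hmulI.symm⟩
      have hH8 : Nat.card (H.map f) ≤ im := by
        obtain ⟨c, hc⟩ := hdiv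
        have : c < 2 := by
          by_contra hc2
          have : 8 * 2 ≤ im * c := Nat.mul_le_mul him8 (by omega)
          omega
        have hle := Nat.mul_le_mul_left im (Nat.lt_succ_iff.mp this)
        omega
      have hcomm := hfull hH8
      have hD' := card_le_two_mul (K.D.map f) (H.map f) (by
        intro x hx y hy hxD hyD
        obtain ⟨g', hg', rfl⟩ := hx
        obtain ⟨g'', hg'', rfl⟩ := hy
        rw [← map_mul]
        exact Subgroup.mem_map_of_mem f (K.D_index (fun h => hxD (Subgroup.mem_map_of_mem f h))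
          (fun h => hyD (Subgroup.mem_map_of_mem f h))))
      set L := (H.map f ⊓ K.D.map f).comap f with hL
      have hLD : L ≤ K.D := fun x hx => hmemD x hx.2
      have hLmap : L.map f = H.map f ⊓ K.D.map f :=
        Subgroup.map_comap_eq_self_of_surjective (QuotientGroup.mk'_surjective _) _
      have hpr : 4 ≤ Nat.card (B.pr L) := by rw [B.card_pr hLD, hLmap]; omega
      by_contra -
      refine absurd hpr (not_le.mpr ?_)
      -- all pairs of `L` are fixed and avoid `(1, v1)`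
      have hsub : ∀ x ∈ L, x ∈ K.D → (⁅x, a1⁆ = 1 ∧ ⁅x, a2⁆ = 1) ∨ (⁅x, a1⁆ = v1 ∧ ⁅x, a2⁆ = v2) ∨
          (⁅x, a1⁆ = v1 ∧ ⁅x, a2⁆ = v1 * v2) := by
        intro x hx hxD
        obtain ⟨h, hh, eh⟩ := hx.1
        have hc : ⁅h0, x⁆ ∈ K.C := by
          refine (QuotientGroup.eq_one_iff _).mp ?_
          show f ⁅h0, x⁆ = 1
          rw [map_commutatorElement, ← eh, ← map_commutatorElement]
          exact (QuotientGroup.eq_one_iff _).mpr (hcomm h0 hh0 h hh)
        rcases B.fixed_pair hh0D hxD hc with e | e | e | e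
        · exact Or.inl e
        · exact (good ⟨x, hxD, hx.1, e⟩).elim
        · exact Or.inr (Or.inl e)
        · exact Or.inr (Or.inr e)
      classical
      haveI := Fintype.ofFinite P
      let S : Finset (K.V × K.V) := {((⟨1, K.V.one_mem⟩, ⟨1, K.V.one_mem⟩) : K.V × K.V),
        (⟨v1, hv1⟩, ⟨v2, hv2⟩), (⟨v1, hv1⟩, ⟨v1 * v2, K.V.mul_mem hv1 hv2⟩)}
      have hS : ((B.pr L : Subgroup (K.V × K.V)) : Set (K.V × K.V)).toFinset ⊆ S := by
        rintro ⟨⟨p, hp⟩, ⟨q, hq⟩⟩ hz
        rw [Set.mem_toFinset] at hz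
        obtain ⟨x, hxL, hx, ep, eq⟩ := B.mem_pr.mp hz
        have hh := hsub x hxL hx
        rw [show ⁅x, a1⁆ = p from ep, show ⁅x, a2⁆ = q from eq] at hh
        simp only [S, Finset.mem_insert, Finset.mem_singleton, Prod.mk.injEq, Subtype.mk.injEq]
        exact hh
      have := (Finset.card_le_card hS).trans Finset.card_le_three
      rw [Set.toFinset_card] at this
      rw [Nat.card_eq_fintype_card]
      exact Nat.lt_succ_of_le this
  · push_neg at hB
    obtain ⟨v, a1, ha1, hv, hall⟩ : ∃ v a1, a1 ∈ K.A ∧ a1 * a1 = v ∧ ∀ a ∈ K.A, a * a = 1 ∨ a * a = v := by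
      by_cases h : ∃ a ∈ K.A, a * a ≠ 1
      · obtain ⟨a, ha, hne⟩ := h
        refine ⟨a * a, a, ha, rfl, fun b hb => ?_⟩
        by_cases hb1 : b * b = 1
        · exact Or.inl hb1
        · exact Or.inr (hB b hb a ha hb1 hne)
      · push_neg at h
        exact ⟨1, 1, K.A.one_mem, one_mul 1, fun a ha => Or.inl (h a ha)⟩
    have h8 : 8 ≤ Nat.card (P ⧸ K.C) := by omega
    let π : K.D →* K.V :=
      { toFun := fun x => ⟨⁅(x : P), a1⁆, K.delta_mem x.2 ha1⟩
        map_one' := Subtype.ext (by simp)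
        map_mul' := fun x y => Subtype.ext (K.delta_mul_left x.2 y.2 ha1) }
    have hker' : π.ker ≤ K.C.subgroupOf K.D := by
      rintro ⟨x, hx⟩ h
      refine K.mem_C.mpr fun a ha => (commutatorElement_eq_one_iff_mul_comm.mp ?_).symm
      rcases hall a ha with e | e
      · exact K.delta_V hx ⟨ha, e⟩
      · show ⁅x, a⁆ = 1
        rw [K.delta_coset hx ha ha1 (e.trans hv.symm)]; exact congrArg Subtype.val h
    have hD4 : Nat.card (K.D.map f) ≤ 4 := by
      rw [← Subgroup.relIndex_ker, hker, ← Subgroup.relIndex_subgroupOf le_rfl, Subgroup.subgroupOf_self,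
        Subgroup.relIndex_top_right]
      have h1 := Subgroup.index_antitone hker'
      rw [Subgroup.index_ker] at h1
      exact h1.trans ((Subgroup.card_le_card_group _).trans K.V_card)
    have hHtop : H.map f = ⊤ := Subgroup.eq_top_of_card_eq _ (by omega)
    refine K.one_square ha1 hv hall h8 fun g h => (QuotientGroup.eq_one_iff _).mp ?_
    obtain ⟨g', hg', eg⟩ := (hHtop ▸ Subgroup.mem_top (f g) : f g ∈ H.map f)
    obtain ⟨h', hh', eh⟩ := (hHtop ▸ Subgroup.mem_top (f h) : f h ∈ H.map f)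
    show f ⁅g, h⁆ = 1
    rw [map_commutatorElement, ← eg, ← eh, ← map_commutatorElement]
    exact (QuotientGroup.eq_one_iff _).mpr (hfull (by omega) g' hg' h' hh')

/-- **MacWilliams**: no normal `E₈` implies sectional 2-rank at most 4. -/
theorem sectional_le_four (h2 : IsPGroup 2 P)
    (h : ∀ A : Subgroup P, A.Normal → IsMulCommutative A → (∀ a ∈ A, a ^ 2 = 1) → Nat.card A ≤ 4) :
    Cfsg.SectionalPRankLE 2 4 P := by
  obtain ⟨K⟩ := exists_ctx h2 h
  exact H31.SR.sr_of_bd K.bd_four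

end H73.MW
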