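import Cfsg.Agent.H73.PComplement
import Cfsg.Agent.H79.AbelianStable
import Cfsg.Agent.H73.StrongFusionCriteria

/-!
Groups that are, over a normal `p`-subgroup, abelian-by-`p` are `p`-stable in every section (helper73).
-/

set_option autoImplicit false

namespace H73

open Subgroup
open scoped commutatorElement

universe u

variable {p : ℕ} [Fact p.Prime]

/-- Modulo a normal `p`-subgroup, an abelian normal `p'`-subgroup with `p`-group quotient. -/
def AbComp (p : ℕ) (Y : Type*) [Group Y] : Prop :=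
  ∃ (Q K : Subgroup Y) (_ : Q.Normal) (_ : K.Normal) (m : ℕ), IsPGroup p Q ∧ ⁅K, K⁆ ≤ Q ∧ m.Coprime p ∧
    (∀ k ∈ K, k ^ m ∈ Q) ∧ ∀ g : Y, ∃ j : ℕ, g ^ p ^ j ∈ K

variable {Y : Type*} [Group Y]

theorem AbComp.of_surjective (h : AbComp p Y) {Z : Type*} [Group Z] (f : Y →* Z)
    (hf : Function.Surjective f) : AbComp p Z := by
  obtain ⟨Q, K, hQn, hKn, m, hQ, hKK, hm, hKm, hGK⟩ := h
  refine ⟨Q.map f, K.map f, hQn.map f hf, hKn.map f hf, m, hQ.map f, ?_, hm, ?_, ?_⟩
  · rw [← Subgroup.map_commutator]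
    exact Subgroup.map_mono hKK
  · rintro _ ⟨k, hk, rfl⟩
    exact ⟨_, hKm k hk, map_pow f k m⟩
  · intro z
    obtain ⟨g, rfl⟩ := hf z
    obtain ⟨j, hj⟩ := hGK g
    exact ⟨j, _, hj, map_pow f g _⟩

theorem AbComp.subgroup (h : AbComp p Y) (H : Subgroup Y) : AbComp p H := by
  obtain ⟨Q, K, hQn, hKn, m, hQ, hKK, hm, hKm, hGK⟩ := h
  refine ⟨Q.comap H.subtype, K.comap H.subtype, inferInstance, inferInstance, m,
    hQ.comap_of_injective _ H.subtype_injective, ?_, hm, fun k hk => ?_, fun g => ?_⟩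
  · rw [← Subgroup.map_le_iff_le_comap, Subgroup.map_commutator]
    exact (Subgroup.commutator_mono (Subgroup.map_comap_le _ _) (Subgroup.map_comap_le _ _)).trans hKK
  · show H.subtype (k ^ m) ∈ Q
    rw [map_pow]
    exact hKm _ hk
  · obtain ⟨j, hj⟩ := hGK g
    exact ⟨j, show H.subtype (g ^ p ^ j) ∈ K by rw [map_pow]; exact hj⟩

/-- Such groups are `p`-stable in the normalizer form, `p` odd. -/
theorem AbComp.isNormalizerPStable {Y : Type u} [Group Y] [Finite Y] (h : AbComp p Y) (hp : p ≠ 2) :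
    Cfsg.IsNormalizerPStable p Y := by
  intro P hP g hg hq
  set N := Subgroup.normalizer (P : Set Y) with hN
  obtain ⟨Q, K, hQn, hKn, m, hQ, hKK, hm, hKm, hGK⟩ := h.subgroup N
  haveI := hQn
  haveI := hKn
  have hPN : P ≤ N := Subgroup.le_normalizer
  set V := P.subgroupOf N with hV
  have hVp : IsPGroup p V := hP.comap_of_injective N.subtype N.subtype_injective
  have hq' : ⁅⁅V, Subgroup.zpowers (⟨g, hg⟩ : N)⁆, Subgroup.zpowers (⟨g, hg⟩ : N)⁆ = ⊥ := by
    refine (Subgroup.map_eq_bot_iff_of_injective _ N.subtype_injective).mp ?_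
    rw [Subgroup.map_commutator, Subgroup.map_commutator, MonoidHom.map_zpowers, hV,
      Subgroup.map_subgroupOf_eq_of_le hPN]
    exact hq
  have hst := H79.isPStableOn_of_abelian_complement hp (Nat.card N) N le_rfl Q K hQ hKK m hm hKm hGK V hVp
    ⟨g, hg⟩ hq'
  have hcent : Subgroup.centralizer (V : Set N) = (Subgroup.centralizer (P : Set Y)).subgroupOf N := by
    ext x
    rw [Subgroup.mem_subgroupOf, Subgroup.mem_centralizer_iff, Subgroup.mem_centralizer_iff]
    exact ⟨fun hx a ha => congrArg Subtype.val (hx ⟨a, hPN ha⟩ ha),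
      fun hx a ha => Subtype.ext (hx a ha)⟩
  let e := QuotientGroup.quotientMulEquivOfEq hcent
  exact (H1.map_pCore_equiv p e).le (Subgroup.mem_map_of_mem e.toMonoidHom hst)

/-- The complement is abelian in a constrained configuration with maximal Sylow subgroup. -/
theorem abComp_of_coatom {Y : Type u} [Group Y] [Finite Y]
    (hq : haveI := H1.pCore_normal' p Y; Cfsg.HasNormalPComplement p (Y ⧸ Cfsg.pCore p Y))
    (T : Sylow p Y) (hmax : IsCoatom (T : Subgroup Y)) : AbComp p Y := by
  have hp : p.Prime := Fact.out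
  set Q := Cfsg.pCore p Y with hQdef
  haveI hQn : Q.Normal := H1.pCore_normal' p Y
  set π := QuotientGroup.mk' Q with hπ
  have hπs : Function.Surjective π := QuotientGroup.mk'_surjective Q
  have hπ1 : ∀ {x : Y}, π x = 1 ↔ x ∈ Q := QuotientGroup.eq_one_iff _
  set P' := T.mapSurjective hπs with hP'
  have hP'coe : (P' : Subgroup (Y ⧸ Q)) = (T : Subgroup Y).map π := Sylow.coe_mapSurjective _ _
  set K' := Cfsg.pResidual p (Y ⧸ Q) with hK'
  have hK'c : (Nat.card K').Coprime p := by
    rw [Nat.coprime_comm, hp.coprime_iff_not_dvd]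
    exact H5.hasNormalPComplement_iff_not_dvd.mp hq
  have hmin : ∀ L : Subgroup (Y ⧸ Q), L ≤ K' →
      (P' : Subgroup (Y ⧸ Q)) ≤ Subgroup.normalizer (L : Set (Y ⧸ Q)) → L ≠ K' → L = ⊥ := by
    intro L hL hLN hLne
    set M := (L ⊔ (P' : Subgroup (Y ⧸ Q))).comap π with hM
    have hPM : (T : Subgroup Y) ≤ M := by
      rw [hM, ← Subgroup.map_le_iff_le_comap, ← hP'coe]
      exact le_sup_right
    rcases hPM.eq_or_lt with e | hlt
    · have hLp : IsPGroup p L := (T.2.map π).to_le (by
        rw [e, hM, Subgroup.map_comap_eq_self_of_surjective hπs]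
        exact le_sup_left)
      exact eq_bot_iff.mpr fun x hx =>
        Subgroup.mem_bot.mpr (H79.inf_eq_one_of_coprime hK'c hLp (hL hx) hx)
    · exfalso
      refine hLne (le_antisymm hL fun k hk => ?_)
      obtain ⟨x, rfl⟩ := hπs k
      have hx : π x ∈ L ⊔ (P' : Subgroup (Y ⧸ Q)) := by
        have : x ∈ M := by rw [hmax.2 M hlt]; exact Subgroup.mem_top x
        exact this
      obtain ⟨l, hl, s, hs, e⟩ := H1.exists_mul_of_mem_sup hLN hx
      rw [e] at hk ⊢
      have hs1 : s = 1 := H79.inf_eq_one_of_coprime hK'c P'.isPGroup'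
        ((mul_mem_cancel_left (hL hl)).mp hk) hs
      rwa [hs1, mul_one]
  have hK'ab : ⁅K', K'⁆ = ⊥ := by
    by_cases hK'1 : K' = ⊥
    · rw [hK'1]; exact eq_bot_iff.mpr (Subgroup.commutator_le_self ⊥)
    set q := (Nat.card K').minFac with hqdef
    have hcard : Nat.card K' ≠ 1 := fun e => hK'1 (Subgroup.eq_bot_of_card_eq _ e)
    haveI : Fact q.Prime := ⟨Nat.minFac_prime hcard⟩
    obtain ⟨a, ha⟩ := IsPGroup.iff_card.mp P'.isPGroup'
    obtain ⟨R, hR⟩ := H1.exists_invariant_sylow (A := (P' : Subgroup (Y ⧸ Q))) (K := K')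
      (H79.le_normalizer_of_conj_mem fun g _ x hx => Subgroup.Normal.conj_mem inferInstance x hx g)
      (ha ▸ hK'c.symm.pow_left a) (Or.inl (H79.isSolvable_pGroup P'.isPGroup')) q
    have hR' : (R : Subgroup K').map K'.subtype = K' := by
      by_contra hne'
      have h1 := hmin _ (Subgroup.map_subtype_le _) hR hne'
      rw [Subgroup.map_eq_bot_iff_of_injective _ K'.subtype_injective] at h1
      refine R.not_dvd_index ?_
      rw [h1, Subgroup.index_bot]
      exact Nat.minFac_dvd _
    have hKq : IsPGroup q K' := hR' ▸ R.isPGroup'.map _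
    have hnil : Group.IsNilpotent K' := hKq.isNilpotent
    haveI : Nontrivial K' := (Subgroup.nontrivial_iff_ne_bot K').mpr hK'1
    have hlt : commutator K' < ⊤ := Group.IsSolvable.commutator_lt_top_of_nontrivial (G := K')
    refine hmin _ (Subgroup.commutator_le_self K') ?_ ?_
    · rw [Subgroup.normalizer_eq_top]; exact le_top
    · intro e
      rw [← Subgroup.map_subtype_commutator K'] at e
      refine hlt.ne (eq_top_iff.mpr fun x _ => ?_)
      obtain ⟨y, hy, hyx⟩ := e.ge x.2
      exact Subtype.ext hyx ▸ hy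
  refine ⟨Q, K'.comap π, inferInstance, Subgroup.Normal.comap inferInstance π, Nat.card K',
    H1.isPGroup_pCore p Y, ?_, hK'c, fun k hk => ?_, fun g => ?_⟩
  · intro x hx
    have h1 := Subgroup.mem_map_of_mem π hx
    rw [Subgroup.map_commutator, Subgroup.map_comap_eq_self_of_surjective hπs, hK'ab,
      Subgroup.mem_bot] at h1
    exact hπ1.mp h1
  · rw [← hπ1, map_pow]
    exact congrArg Subtype.val (pow_card_eq_one' (G := K') (x := ⟨π k, hk⟩))
  · obtain ⟨j, hj⟩ := H5.isPGroup_quotient_pResidual (p := p) (G := Y ⧸ Q) (QuotientGroup.mk (π g))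
    refine ⟨j, ?_⟩
    show π (g ^ p ^ j) ∈ K'
    rw [map_pow, ← QuotientGroup.eq_one_iff (N := K'), QuotientGroup.mk_pow]
    exact hj

/-- In a constrained group with maximal Sylow subgroup, a functor controlling fusion is normal. -/
theorem normal_of_controls_coatom {Y : Type u} [Group Y] [Finite Y]
    {W : ∀ (Q : Type u) [Group Q], Subgroup Q} (hW : Cfsg.IsCharPFunctor.{u} p W) (T : Sylow p Y)
    (hmax : IsCoatom (T : Subgroup Y))
    (hc : Subgroup.centralizer ((Cfsg.pCore p Y : Subgroup Y) : Set Y) ≤ Cfsg.pCore p Y)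
    (h : Cfsg.ControlsStrongFusion p (Cfsg.inducedFunctor W (T : Subgroup Y))) :
    (Cfsg.inducedFunctor W (T : Subgroup Y)).Normal := by
  obtain ⟨T', hle, hfus⟩ := h
  set U := Cfsg.inducedFunctor W (T : Subgroup Y) with hU
  set N := Subgroup.normalizer (U : Set Y) with hN
  have hTN : (T : Subgroup Y) ≤ N :=
    le_normalizer_functor (isConjugacyFunctor_inducedFunctor hW Y) T.2
  rcases hTN.eq_or_lt with e | hlt
  · exfalso
    have hT' : (T' : Subgroup Y) ≤ T := by
      intro g hg
      obtain ⟨x, hx, he⟩ := (hfus _ subset_rfl).2 g (by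
        rintro _ ⟨a, ha, rfl⟩
        exact Subgroup.mul_mem _ (Subgroup.mul_mem _ hg ha) (Subgroup.inv_mem _ hg))
      have h1 : x⁻¹ * g ∈ N := by
        refine Subgroup.centralizer_le_normalizer (U : Set Y) (Subgroup.mem_centralizer_iff.mpr fun a ha => ?_)
        calc a * (x⁻¹ * g) = x⁻¹ * (x * a * x⁻¹) * g := by group
          _ = x⁻¹ * (g * a * g⁻¹) * g := by rw [he a (hle ha)]
          _ = x⁻¹ * g * a := by group
      rw [e]
      have := N.mul_mem hx h1
      rwa [mul_inv_cancel_left] at this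
    have hTT : T' = T := Sylow.ext (T'.3 T.2 hT').symm
    subst hTT
    have hnpc : Cfsg.HasNormalPComplement p Y := by
      refine H5.hasNormalPComplement_of_fusion T' fun a ha g hg => ?_
      obtain ⟨x, hx, he⟩ := (hfus {a} (Set.singleton_subset_iff.mpr ha)).2 g (by
        rw [Set.image_singleton]
        exact Set.singleton_subset_iff.mpr hg)
      exact ⟨x, e.ge hx, (he a rfl).symm⟩
    have hres : Cfsg.pResidual p Y ≤ Cfsg.pCore p Y := by
      refine le_trans (fun x hx => ?_) hc
      rw [Subgroup.mem_centralizer_iff]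
      intro a ha
      haveI := H1.pCore_normal' p Y
      rw [← commutatorElement_eq_one_iff_mul_comm]
      refine H79.inf_eq_one_of_coprime ?_ (H1.isPGroup_pCore p Y)
        (Subgroup.commutator_le_right (⊤ : Subgroup Y) (Cfsg.pResidual p Y)
          (Subgroup.commutator_mem_commutator (Subgroup.mem_top a) hx))
        (Subgroup.commutator_le_left (Cfsg.pCore p Y) ⊤
          (Subgroup.commutator_mem_commutator ha (Subgroup.mem_top x)))
      rw [Nat.coprime_comm, (Fact.out : p.Prime).coprime_iff_not_dvd]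
      exact H5.hasNormalPComplement_iff_not_dvd.mp hnpc
    refine hmax.1 ?_
    rw [← H5.pResidual_sup_sylow T']
    exact (sup_eq_right.mpr (hres.trans (H1.pCore_le_sylow T'))).symm
  · exact Subgroup.normalizer_eq_top_iff.mp (hmax.2 N hlt)

/-- Transport of the maximality of a Sylow subgroup. -/
theorem isCoatom_map_equiv {X Y : Type*} [Group X] [Group Y] (e : X ≃* Y) {M : Subgroup X}
    (h : IsCoatom M) : IsCoatom (M.map e.toMonoidHom) :=
  (OrderIso.isCoatom_iff e.mapSubgroup M).mpr h

/-- Control in the `p`-stable sections gives the criterion for normal `p`-complements. -/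
theorem pnil_of_stable_control {G : Type u} [Group G] [Finite G] (hp : p ≠ 2)
    {W : ∀ (Q : Type u) [Group Q], Subgroup Q} (hW : Cfsg.IsCharPFunctor.{u} p W) (S : Sylow p G)
    (hN : Cfsg.HasNormalPComplement p
      ↥(Subgroup.normalizer ((Cfsg.inducedFunctor W (S : Subgroup G) : Subgroup G) : Set G)))
    (hctl : ∀ (K R : Subgroup G) [hR : (R.subgroupOf K).Normal],
      (∀ (K' R' : Subgroup (↥K ⧸ R.subgroupOf K)) [hR' : (R'.subgroupOf K').Normal],
        Cfsg.IsNormalizerPStable p (↥K' ⧸ R'.subgroupOf K')) →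
      ∀ T : Sylow p (↥K ⧸ R.subgroupOf K), Cfsg.ControlsStrongFusion p
        (Cfsg.inducedFunctor (G := (↥K ⧸ R.subgroupOf K)) W (T : Subgroup (↥K ⧸ R.subgroupOf K)))) :
    Cfsg.HasNormalPComplement p G := by
  refine pnil_of_functor hW (fun X _ _ hX hc hq T hmax => ?_) S hN
  have hab := abComp_of_coatom hq T hmax
  obtain ⟨K, R, hR, ⟨e⟩⟩ := hX.exists_equiv
  haveI := hR
  have hab' : AbComp p (↥K ⧸ R.subgroupOf K) := hab.of_surjective e.symm.toMonoidHom e.symm.surjective
  set T' := T.mapSurjective (f := e.symm.toMonoidHom) e.symm.surjective with hT'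
  have hT'coe : (T' : Subgroup (↥K ⧸ R.subgroupOf K)) = (T : Subgroup X).map e.symm.toMonoidHom := rfl
  have h := normal_of_controls_coatom hW T' (hT'coe ▸ isCoatom_map_equiv e.symm hmax)
    (constrained_of_equiv e.symm hc) (hctl K R (fun K' R' _ =>
      ((hab'.subgroup K').of_surjective (QuotientGroup.mk' _)
        (QuotientGroup.mk'_surjective _)).isNormalizerPStable hp) T')
  rw [hT'coe, ← map_inducedFunctor hW e.symm.toMonoidHom e.symm.injective T.2] at h
  have h' := h.comap e.symm.toMonoidHom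
  rwa [Subgroup.comap_map_eq_self_of_injective e.symm.injective] at h'

end H73
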