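import Cfsg.Agent.H28.GradedLie

/-!
Lie rings with an automorphism of prime order whose fixed points have bounded exponent: some
bounded multiple of a bounded term of the lower central series vanishes.
-/

set_option autoImplicit false
set_option linter.style.haveILetI false
set_option linter.unusedSectionVars false

open scoped TensorProduct

namespace H73.Alp

open H28.GLie

/-- The class bound of Higman, Kreknin and Kostrikin. -/
def xi (p : ℕ) : ℕ := ∑ i ∈ Finset.range (2 ^ (p - 1) - 1), (p - 1) ^ i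

section Graded

variable {p : ℕ} [Fact p.Prime] {M : Type*} [LieRing M]

/-- A family `W` indexed by `ZMod p`, not necessarily independent, with `W 0` killed by `N`. -/
theorem smul_C_eq_zero_of_family (W : ZMod p → AddSubgroup M)
    (hlie : ∀ a b, ∀ x ∈ W a, ∀ y ∈ W b, ⁅x, y⁆ ∈ W (a + b)) (N : ℕ)
    (h0 : ∀ x ∈ W 0, N • x = 0)
    (hspan : ∀ v : M, p • v ∈ AddSubgroup.closure {y | ∃ a, y ∈ W a}) :
    ∀ x ∈ (C (xi p) : AddSubgroup M), (p * N) ^ (xi p + 1) • x = 0 := by
  classical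
  -- the external graded ring inside `ℤ[C_p] ⊗ M`
  let t : ZMod p → AddMonoidAlgebra ℤ (ZMod p) := fun a => AddMonoidAlgebra.single a 1
  let co : ZMod p → (AddMonoidAlgebra ℤ (ZMod p) →ₗ[ℤ] ℤ) := fun a =>
    (Finsupp.lapply a).comp (AddMonoidAlgebra.coeffLinearEquiv ℤ).toLinearMap
  let P : ZMod p → (AddMonoidAlgebra ℤ (ZMod p) ⊗[ℤ] M →+ AddMonoidAlgebra ℤ (ZMod p) ⊗[ℤ] M) :=
    fun a => ((TensorProduct.mk ℤ _ M (t a)).comp
      ((TensorProduct.lid ℤ M).toLinearMap.comp ((co a).rTensor M))).toAddMonoidHom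
  have hco : ∀ a b, co a (t b) = if b = a then 1 else 0 := fun a b => by
    show ((AddMonoidAlgebra.single b (1 : ℤ)).coeff) a = _
    rw [AddMonoidAlgebra.coeff_single, Finsupp.single_apply]
  have hP : ∀ a b m, P a (t b ⊗ₜ m) = if b = a then t a ⊗ₜ m else 0 := fun a b m => by
    show t a ⊗ₜ[ℤ] (co a (t b) • m) = _
    rw [hco]
    split_ifs <;> simp
  let W' : ZMod p → AddSubgroup M := fun a => (W a).map (nsmulAddMonoidHom N)
  have hW' : ∀ a b, ∀ x ∈ W' a, ∀ y ∈ W' b, ⁅x, y⁆ ∈ W' (a + b) := by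
    rintro a b _ ⟨x, hx, rfl⟩ _ ⟨y, hy, rfl⟩
    refine ⟨N • ⁅x, y⁆, (W (a + b)).nsmul_mem (hlie a b x hx y hy) N, ?_⟩
    show N • N • ⁅x, y⁆ = ⁅N • x, N • y⁆
    rw [nsmul_lie, lie_nsmul]
  have hW'0 : W' 0 = ⊥ := by
    rw [eq_bot_iff]
    rintro _ ⟨x, hx, rfl⟩
    exact AddSubgroup.mem_bot.2 (h0 x hx)
  let gen : Set (AddMonoidAlgebra ℤ (ZMod p) ⊗[ℤ] M) := {z | ∃ a, ∃ m ∈ W' a, t a ⊗ₜ m = z}
  let S : AddSubgroup (AddMonoidAlgebra ℤ (ZMod p) ⊗[ℤ] M) := AddSubgroup.closure gen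
  have hgen : ∀ a b, ∀ x ∈ W' a, ∀ y ∈ W' b,
      ⁅t a ⊗ₜ[ℤ] x, t b ⊗ₜ[ℤ] y⁆ = t (a + b) ⊗ₜ[ℤ] ⁅x, y⁆ := fun a b x _ y _ => by
    rw [LieAlgebra.ExtendScalars.bracket_tmul]
    simp [t, AddMonoidAlgebra.single_mul_single]
  have lz : ∀ x : AddMonoidAlgebra ℤ (ZMod p) ⊗[ℤ] M, ⁅x, (0 : AddMonoidAlgebra ℤ (ZMod p) ⊗[ℤ] M)⁆ = 0 := fun x => lie_zero x
  have zl : ∀ x : AddMonoidAlgebra ℤ (ZMod p) ⊗[ℤ] M, ⁅(0 : AddMonoidAlgebra ℤ (ZMod p) ⊗[ℤ] M), x⁆ = 0 := fun x => zero_lie x
  have la : ∀ x y z : AddMonoidAlgebra ℤ (ZMod p) ⊗[ℤ] M, ⁅x, y + z⁆ = ⁅x, y⁆ + ⁅x, z⁆ := fun x y z => lie_add x y z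
  have al : ∀ x y z : AddMonoidAlgebra ℤ (ZMod p) ⊗[ℤ] M, ⁅x + y, z⁆ = ⁅x, z⁆ + ⁅y, z⁆ := fun x y z => add_lie x y z
  have hS : ∀ x ∈ S, ∀ y ∈ S, ⁅x, y⁆ ∈ S := by
    intro x hx
    induction hx using AddSubgroup.closure_induction with
    | mem x hx =>
      intro y hy
      induction hy using AddSubgroup.closure_induction with
      | mem y hy =>
        obtain ⟨a, m, hm, rfl⟩ := hx
        obtain ⟨b, m', hm', rfl⟩ := hy
        rw [hgen a b m hm m' hm']
        exact AddSubgroup.subset_closure ⟨_, _, hW' a b m hm m' hm', rfl⟩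
      | zero => rw [lz]; exact S.zero_mem
      | add u v _ _ hu hv => rw [la]; exact S.add_mem hu hv
      | neg u _ hu => exact (lie_neg x u).symm ▸ S.neg_mem hu
    | zero => intro y _; rw [zl]; exact S.zero_mem
    | add u v _ _ hu hv => intro y hy; rw [al]; exact S.add_mem (hu y hy) (hv y hy)
    | neg u _ hu => intro y hy; exact (neg_lie u y).symm ▸ S.neg_mem (hu y hy)
  let H : LieSubalgebra ℤ (AddMonoidAlgebra ℤ (ZMod p) ⊗[ℤ] M) :=
    { AddSubgroup.toIntSubmodule S with lie_mem' := fun {x y} hx hy => hS x hx y hy }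
  have hPS : ∀ a, ∀ x ∈ S, P a x ∈ S := by
    intro a x hx
    induction hx using AddSubgroup.closure_induction with
    | mem x hx =>
      obtain ⟨b, m, hm, rfl⟩ := hx
      rw [hP]
      split_ifs with h
      · subst h; exact AddSubgroup.subset_closure ⟨b, m, hm, rfl⟩
      · exact S.zero_mem
    | zero => rw [map_zero]; exact S.zero_mem
    | add u v _ _ hu hv => rw [map_add]; exact S.add_mem hu hv
    | neg u _ hu => rw [map_neg]; exact S.neg_mem hu
  let inc : H →+ AddMonoidAlgebra ℤ (ZMod p) ⊗[ℤ] M :=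
    { toFun := fun x => (x : AddMonoidAlgebra ℤ (ZMod p) ⊗[ℤ] M)
      map_zero' := rfl
      map_add' := fun _ _ => rfl }
  let U : ZMod p → AddSubgroup H := fun a =>
    ((W' a).map ((TensorProduct.mk ℤ _ M (t a)).toAddMonoidHom)).comap inc
  let Γ : Grading p H :=
    { W := U
      proj := fun a =>
        { toFun := fun x => ⟨P a (inc x), hPS a _ x.2⟩
          map_zero' := Subtype.ext (map_zero (P a))
          map_add' := fun x y => Subtype.ext ((P a).map_add (inc x) (inc y)) }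
      lie_mem := fun a b x hx y hy => by
        obtain ⟨m, hm, hmx⟩ := hx
        obtain ⟨m', hm', hmy⟩ := hy
        refine ⟨⁅m, m'⁆, hW' a b m hm m' hm', ?_⟩
        show t (a + b) ⊗ₜ[ℤ] ⁅m, m'⁆ = ⁅inc x, inc y⁆
        rw [← hmx, ← hmy]
        exact (hgen a b m hm m' hm').symm
      zero_bot := by
        rw [eq_bot_iff]
        rintro x ⟨m, hm, hmx⟩
        rw [hW'0, AddSubgroup.coe_bot, Set.mem_singleton_iff] at hm
        refine AddSubgroup.mem_bot.2 (Subtype.ext ?_)
        show inc x = 0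
        rw [← hmx, hm, map_zero]
      proj_same := fun a x ⟨m, _, hmx⟩ => Subtype.ext (by
        show P a (inc x) = inc x
        rw [← hmx]
        show P a (t a ⊗ₜ[ℤ] m) = t a ⊗ₜ[ℤ] m
        rw [hP, if_pos rfl])
      proj_ne := fun a b hab x ⟨m, _, hmx⟩ => Subtype.ext (by
        show P a (inc x) = 0
        rw [← hmx]
        show P a (t b ⊗ₜ[ℤ] m) = 0
        rw [hP, if_neg (Ne.symm hab)])
      mem_top := fun x => by
        obtain ⟨x, hx⟩ := x
        induction (show x ∈ S from hx) using AddSubgroup.closure_induction with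
        | mem x hx' =>
          obtain ⟨a, m, hm, rfl⟩ := hx'
          exact AddSubgroup.subset_closure ⟨a, m, hm, rfl⟩
        | zero => exact AddSubgroup.zero_mem _
        | add u v hu hv ihu ihv =>
          exact AddSubgroup.add_mem _ (ihu hu) (ihv hv)
        | neg u hu ihu => exact AddSubgroup.neg_mem _ (ihu hu) }
  -- the augmentation
  let aug : AddMonoidAlgebra ℤ (ZMod p) →ₐ[ℤ] ℤ := AddMonoidAlgebra.lift ℤ ℤ (ZMod p) 1
  let ε : AddMonoidAlgebra ℤ (ZMod p) ⊗[ℤ] M →+ M :=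
    ((TensorProduct.lid ℤ M).toLinearMap.comp (aug.toLinearMap.rTensor M)).toAddMonoidHom
  have hε : ∀ a m, ε (a ⊗ₜ[ℤ] m) = aug a • m := fun a m => rfl
  have haug : ∀ a, aug (t a) = 1 := fun a => by simp [aug, t]
  have hεlie : ∀ x y, ε ⁅x, y⁆ = ⁅ε x, ε y⁆ := by
    intro x y
    induction x using TensorProduct.induction_on with
    | zero => simp only [lz, zl, map_zero, lie_zero, zero_lie]
    | add x x' hx hx' => rw [al, map_add, hx, hx', map_add, add_lie]
    | tmul a m =>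
      induction y using TensorProduct.induction_on with
      | zero => simp only [lz, zl, map_zero, lie_zero, zero_lie]
      | add y y' hy hy' => rw [la, map_add, hy, hy', map_add, lie_add]
      | tmul b m' =>
        rw [LieAlgebra.ExtendScalars.bracket_tmul, hε, hε, hε, map_mul, smul_lie, lie_smul,
          smul_smul]
  have key : ∀ k, ∀ x ∈ (C k : AddSubgroup M), ∃ h : H, h ∈ (C k : AddSubgroup H) ∧
      ε (inc h) = (p * N) ^ (k + 1) • x := by
    intro k
    induction k with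
    | zero =>
      intro x _
      have h1 : (p * N) • x ∈ S.map ε := by
        rw [mul_comm p N, mul_nsmul']
        have h2 : N • p • x ∈ (AddSubgroup.closure {y | ∃ a, y ∈ W a}).map (nsmulAddMonoidHom N) :=
          ⟨_, hspan x, rfl⟩
        rw [AddMonoidHom.map_closure] at h2
        refine (AddSubgroup.closure_le _).2 ?_ h2
        rintro _ ⟨y, ⟨a, ha⟩, rfl⟩
        refine ⟨t a ⊗ₜ[ℤ] (N • y), AddSubgroup.subset_closure ⟨a, _, ⟨y, ha, rfl⟩, rfl⟩, ?_⟩
        rw [hε, haug, one_smul]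
        rfl
      obtain ⟨h, hh, he⟩ := h1
      exact ⟨⟨h, hh⟩, AddSubgroup.mem_top _, by rw [zero_add, pow_one]; exact he⟩
    | succ k ih =>
      intro x hx
      refine AddSubgroup.closure_induction (p := fun z _ => ∃ h : H, h ∈ (C (k + 1) : AddSubgroup H) ∧
        ε (inc h) = (p * N) ^ (k + 1 + 1) • z) ?_ ?_ ?_ ?_ hx
      · rintro _ ⟨u, hu, v, -, rfl⟩
        obtain ⟨a, ha, hae⟩ := ih u hu
        have h1 : ∃ b : H, ε (inc b) = (p * N) • v := by
          have h2 : (p * N) • v ∈ S.map ε := by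
            rw [mul_comm p N, mul_nsmul']
            have h2 : N • p • v ∈ (AddSubgroup.closure {y | ∃ a, y ∈ W a}).map (nsmulAddMonoidHom N) :=
              ⟨_, hspan v, rfl⟩
            rw [AddMonoidHom.map_closure] at h2
            refine (AddSubgroup.closure_le _).2 ?_ h2
            rintro _ ⟨y, ⟨a, ha⟩, rfl⟩
            refine ⟨t a ⊗ₜ[ℤ] (N • y), AddSubgroup.subset_closure ⟨a, _, ⟨y, ha, rfl⟩, rfl⟩, ?_⟩
            rw [hε, haug, one_smul]
            rfl
          obtain ⟨h, hh, he⟩ := h2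
          exact ⟨⟨h, hh⟩, he⟩
        obtain ⟨b, hb⟩ := h1
        refine ⟨⁅a, b⁆, lie_mem_br ha (AddSubgroup.mem_top b), ?_⟩
        show ε ⁅inc a, inc b⁆ = _
        rw [hεlie, hae, hb, nsmul_lie, lie_nsmul, smul_smul, ← pow_succ]
      · exact ⟨0, zero_mem _, by simp⟩
      · rintro u v - - ⟨a, ha, hae⟩ ⟨b, hb, hbe⟩
        exact ⟨a + b, add_mem ha hb, by rw [map_add, map_add, hae, hbe, smul_add]⟩
      · rintro u - ⟨a, ha, hae⟩
        exact ⟨-a, neg_mem ha, by rw [map_neg, map_neg, hae, smul_neg]⟩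
  intro x hx
  obtain ⟨h, hh, he⟩ := key _ x hx
  rw [show (C (xi p) : AddSubgroup H) = ⊥ from C_eq_bot Γ, AddSubgroup.mem_bot] at hh
  rw [← he, hh, map_zero, map_zero]

end Graded

/-- A Lie ring with an automorphism of prime order `p` whose fixed points are killed by `N`. -/
theorem smul_C_eq_zero_of_fixed {p : ℕ} [Fact p.Prime] {L : Type*} [LieRing L] (T : L →ₗ[ℤ] L)
    (hT : ∀ a b, T ⁅a, b⁆ = ⁅T a, T b⁆) (hTp : T ^ p = 1) (N : ℕ)
    (hfix : ∀ x, T x = x → N • x = 0) :
    ∀ x ∈ (C (xi p) : AddSubgroup L), (p * N) ^ (xi p + 1) • x = 0 := by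
  classical
  have hp : p.Prime := Fact.out
  have hmon : (Polynomial.cyclotomic p ℤ).Monic := Polynomial.cyclotomic.monic p ℤ
  set R := AdjoinRoot (Polynomial.cyclotomic p ℤ) with hR
  set ω : R := AdjoinRoot.root (Polynomial.cyclotomic p ℤ) with hω
  have hsum : ∑ i ∈ Finset.range p, ω ^ i = 0 := by
    have h := AdjoinRoot.eval₂_root (Polynomial.cyclotomic p ℤ)
    have h' := congrArg (fun P => P.eval₂ (AdjoinRoot.of (Polynomial.cyclotomic p ℤ)) ω)
      (Polynomial.cyclotomic_prime ℤ p)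
    simp only [hω] at h'
    rw [h'] at h
    rw [Polynomial.eval₂_finset_sum] at h
    simpa only [Polynomial.eval₂_pow, Polynomial.eval₂_X] using h
  have hωp : ω ^ p = 1 := by
    have h := mul_geom_sum ω p
    rw [hsum, mul_zero] at h
    exact (sub_eq_zero.1 h.symm)
  let z : ZMod p → R := fun d => ω ^ d.val
  have hz0 : z 0 = 1 := by simp [z]
  have hzmul : ∀ a b, z (a + b) = z a * z b := fun a b => by
    show ω ^ (a + b).val = ω ^ a.val * ω ^ b.val
    rw [← pow_add, ZMod.val_add, ← pow_eq_pow_mod _ hωp]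
  have hzpow : ∀ (a : ZMod p) (i : ℕ), z a ^ i = z ((i : ZMod p) * a) := by
    intro a i
    induction i with
    | zero => simp [hz0]
    | succ i ih => rw [pow_succ, ih, ← hzmul, Nat.cast_succ, add_one_mul]
  have hzsum : ∑ d : ZMod p, z d = 0 := by
    rw [← hsum]
    refine Finset.sum_bij (fun d _ => d.val) (fun d _ => Finset.mem_range.2 (ZMod.val_lt d))
      (fun a _ b _ h => ZMod.val_injective p h)
      (fun i hi => ⟨(i : ZMod p), Finset.mem_univ _, ZMod.val_cast_of_lt (Finset.mem_range.1 hi)⟩)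
      (fun d _ => rfl)
  have hzsum' : ∀ i, i < p → ∑ d : ZMod p, z d ^ i = if i = 0 then (p : R) else 0 := by
    intro i hi
    split_ifs with h
    · subst h; simp
    have hi0 : (i : ZMod p) ≠ 0 := by
      rw [Ne, ZMod.natCast_eq_zero_iff]
      exact fun hd => h (Nat.eq_zero_of_dvd_of_lt hd hi)
    rw [Finset.sum_congr rfl fun d _ => hzpow d i, ← hzsum]
    exact Fintype.sum_bijective _ (mulLeft_bijective₀ _ hi0) _ _ fun d => rfl
  let T' : (R ⊗[ℤ] L) →ₗ[R] R ⊗[ℤ] L := T.baseChange R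
  have lz : ∀ x : R ⊗[ℤ] L, ⁅x, (0 : R ⊗[ℤ] L)⁆ = 0 := fun x => lie_zero x
  have zl : ∀ x : R ⊗[ℤ] L, ⁅(0 : R ⊗[ℤ] L), x⁆ = 0 := fun x => zero_lie x
  have la : ∀ x y z : R ⊗[ℤ] L, ⁅x, y + z⁆ = ⁅x, y⁆ + ⁅x, z⁆ := fun x y z => lie_add x y z
  have al : ∀ x y z : R ⊗[ℤ] L, ⁅x + y, z⁆ = ⁅x, z⁆ + ⁅y, z⁆ := fun x y z => add_lie x y z
  have hT' : ∀ a b, T' ⁅a, b⁆ = ⁅T' a, T' b⁆ := by
    intro a b
    induction a using TensorProduct.induction_on with
    | zero => simp only [lz, zl, map_zero]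
    | add a a' ha ha' => rw [al, map_add, ha, ha', map_add, al]
    | tmul s a =>
      induction b using TensorProduct.induction_on with
      | zero => simp only [lz, zl, map_zero]
      | add b b' hb hb' => rw [la, map_add, hb, hb', map_add, la]
      | tmul t b =>
        simp only [T', LieAlgebra.ExtendScalars.bracket_tmul, LinearMap.baseChange_tmul, hT]
  have hpow : ∀ (i : ℕ) (s : R) (a : L), (T' ^ i) (s ⊗ₜ[ℤ] a) = s ⊗ₜ[ℤ] ((T ^ i) a) := by
    intro i s a
    induction i with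
    | zero => rfl
    | succ i ih =>
      rw [pow_succ' T', Module.End.mul_apply, ih, pow_succ' T, Module.End.mul_apply]
      rfl
  have hT'p : T' ^ p = 1 := by
    refine LinearMap.ext fun v => ?_
    induction v using TensorProduct.induction_on with
    | zero => simp
    | add a a' ha ha' => rw [map_add, ha, ha', map_add]
    | tmul s a => rw [hpow, hTp]; rfl
  let W : ZMod p → AddSubgroup (R ⊗[ℤ] L) := fun d =>
    (LinearMap.ker (T' - z d • (1 : (R ⊗[ℤ] L) →ₗ[R] R ⊗[ℤ] L))).toAddSubgroup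
  have hW : ∀ d v, v ∈ W d ↔ T' v = z d • v := fun d v => by simp [W, sub_eq_zero]
  let dim := (AdjoinRoot.powerBasis' hmon).dim
  let bas : Module.Basis (Fin dim) ℤ R := (AdjoinRoot.powerBasis' hmon).basis
  let c : Fin dim → (R ⊗[ℤ] L →ₗ[ℤ] L) := fun j =>
    (TensorProduct.lid ℤ L).toLinearMap.comp ((bas.coord j).rTensor L)
  have hc : ∀ j s a, c j (s ⊗ₜ[ℤ] a) = bas.coord j s • a := fun j s a => rfl
  have hdecomp : ∀ v, ∑ j, bas j ⊗ₜ[ℤ] c j v = v := by
    intro v
    induction v using TensorProduct.induction_on with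
    | zero => simp
    | add a a' ha ha' => simp only [map_add, TensorProduct.tmul_add, Finset.sum_add_distrib, ha, ha']
    | tmul s a =>
      simp only [hc, TensorProduct.tmul_smul, TensorProduct.smul_tmul', Module.Basis.coord_apply,
        ← TensorProduct.sum_tmul, bas.sum_repr]
  have hcT : ∀ j v, c j (T' v) = T (c j v) := by
    intro j v
    induction v using TensorProduct.induction_on with
    | zero => simp
    | add a a' ha ha' => simp only [map_add, ha, ha']
    | tmul s a =>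
      show c j (s ⊗ₜ[ℤ] T a) = _
      rw [hc, hc, map_smul]
  have h0 : ∀ v ∈ W 0, N • v = 0 := by
    intro v hv
    rw [hW, hz0, one_smul] at hv
    conv_lhs => rw [← hdecomp v]
    rw [Finset.smul_sum]
    refine Finset.sum_eq_zero fun j _ => ?_
    rw [← TensorProduct.tmul_smul, hfix _ (by rw [← hcT, hv]), TensorProduct.tmul_zero]
  have hspan : ∀ v : R ⊗[ℤ] L, p • v ∈ AddSubgroup.closure {y | ∃ a, y ∈ W a} := by
    intro v
    let proj : ZMod p → R ⊗[ℤ] L := fun d =>
      ∑ i ∈ Finset.range p, z (-d) ^ i • (T' ^ i) v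
    have hproj : ∀ d, proj d ∈ W d := by
      intro d
      rw [hW, map_sum, Finset.smul_sum]
      set f : ℕ → R ⊗[ℤ] L := fun i => z d • (z (-d) ^ i • (T' ^ i) v) with hf
      have hshift : ∑ i ∈ Finset.range p, f (i + 1) = ∑ i ∈ Finset.range p, f i := by
        have h1 := Finset.sum_range_succ' f p
        rw [Finset.sum_range_succ, show f p = f 0 by
          simp only [hf, hT'p, hzpow, ZMod.natCast_self, zero_mul, hz0, pow_zero,
            Nat.cast_zero]] at h1
        exact (add_right_cancel h1).symm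
      rw [← hshift]
      refine Finset.sum_congr rfl fun i _ => ?_
      simp only [hf]
      rw [map_smul, smul_smul, pow_succ' T', Module.End.mul_apply, pow_succ, ← mul_assoc,
        mul_right_comm, ← hzmul, add_neg_cancel, hz0, one_mul]
    have hsumv : ∑ d : ZMod p, proj d = p • v := by
      simp only [proj]
      rw [Finset.sum_comm]
      simp only [← Finset.sum_smul]
      rw [Finset.sum_congr rfl fun i hi => by
        rw [show ∑ d : ZMod p, z (-d) ^ i = ∑ d : ZMod p, z d ^ i from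
          Equiv.sum_comp (Equiv.neg (ZMod p)) (fun d => z d ^ i),
          hzsum' i (Finset.mem_range.mp hi)]]
      simp only [ite_smul, zero_smul, Finset.sum_ite_eq', Finset.mem_range, hp.pos, if_true,
        pow_zero, Module.End.one_apply, Nat.cast_smul_eq_nsmul]
    rw [← hsumv]
    exact sum_mem fun d _ => AddSubgroup.subset_closure ⟨d, hproj d⟩
  have hlie : ∀ a b, ∀ x ∈ W a, ∀ y ∈ W b, ⁅x, y⁆ ∈ W (a + b) := by
    intro a b x hx y hy
    rw [hW] at hx hy ⊢
    rw [hT', hx, hy]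
    refine (smul_lie (z a) x (z b • y)).trans ?_
    have hls : ⁅x, z b • y⁆ = z b • ⁅x, y⁆ := lie_smul (L := R ⊗[ℤ] L) (M := R ⊗[ℤ] L) (z b) x y
    rw [hls, smul_smul, hzmul]
  have hmain := smul_C_eq_zero_of_family W hlie N h0 hspan
  have hC : ∀ k, ∀ x ∈ (C k : AddSubgroup L), (1 : R) ⊗ₜ[ℤ] x ∈ (C k : AddSubgroup (R ⊗[ℤ] L)) := by
    intro k
    induction k with
    | zero => intro x _; exact AddSubgroup.mem_top _
    | succ k ih =>
      intro x hx
      refine AddSubgroup.closure_induction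
        (p := fun y _ => (1 : R) ⊗ₜ[ℤ] y ∈ (C (k + 1) : AddSubgroup (R ⊗[ℤ] L))) ?_ ?_ ?_ ?_ hx
      · rintro _ ⟨u, hu, w, -, rfl⟩
        rw [← one_mul (1 : R), ← LieAlgebra.ExtendScalars.bracket_tmul]
        exact lie_mem_br (ih u hu) (AddSubgroup.mem_top _)
      · rw [TensorProduct.tmul_zero]; exact zero_mem _
      · intro u w _ _ hu hw; rw [TensorProduct.tmul_add]; exact add_mem hu hw
      · intro u _ hu; rw [TensorProduct.tmul_neg]; exact neg_mem hu
  intro x hx
  have h1 := hmain _ (hC _ x hx)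
  rw [← TensorProduct.tmul_smul] at h1
  have hdim : 0 < dim := by
    show 0 < (Polynomial.cyclotomic p ℤ).natDegree
    rw [Polynomial.natDegree_cyclotomic]
    exact Nat.totient_pos.2 hp.pos
  have hb0 : bas ⟨0, hdim⟩ = (1 : R) := by
    show (AdjoinRoot.powerBasis' hmon).basis ⟨0, hdim⟩ = _
    rw [PowerBasis.basis_eq_pow, pow_zero]
  have h2 := congrArg (c ⟨0, hdim⟩) h1
  rw [hc, map_zero, ← hb0, Module.Basis.coord_apply, Module.Basis.repr_self,
    Finsupp.single_eq_same, one_smul] at h2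
  exact h2

end H73.Alp
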