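import Cfsg.Agent.H73.AlperinLie
import Cfsg.Agent.H28.AssocLie
import Cfsg.Agent.H6.Basic

/-!
Alperin: a finite `p`-group with an automorphism of order `p` having at most `p^n` fixed points
has derived length bounded by a function of `p` and `n`.

The filtration by iterated `p`-th powers of a suitable term of the derived series has elementary
abelian factors of bounded order; on a stretch where their orders are constant the Lie ring of
the lower central series of a deep term, with the fixed point bound, makes a bounded derived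
term fall a fixed fraction of the stretch.
-/

set_option autoImplicit false
set_option linter.style.haveILetI false
set_option linter.unusedSectionVars false

open scoped commutatorElement

namespace H73.Alp

/-! ### Identities -/

theorem comm_pow_left {H : Type*} [Group H] {x y : H} (hx : Commute ⁅x, ⁅x, y⁆⁆ x)
    (hc : Commute ⁅x, ⁅x, y⁆⁆ ⁅x, y⁆) (k : ℕ) :
    ⁅x ^ k, y⁆ = ⁅x, y⁆ ^ k * ⁅x, ⁅x, y⁆⁆ ^ k.choose 2 := by
  set c := ⁅x, y⁆ with hc'
  set d := ⁅x, c⁆ with hd
  induction k with
  | zero => simp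
  | succ k ih =>
    have h1 : ⁅x ^ (k + 1), y⁆ = x * ⁅x ^ k, y⁆ * x⁻¹ * c := by
      rw [hc', commutatorElement_def, commutatorElement_def, commutatorElement_def, pow_succ']
      group
    have h2 : x * c * x⁻¹ = d * c := by rw [hd, commutatorElement_def]; group
    have h3 : x * c ^ k * x⁻¹ = d ^ k * c ^ k := by
      rw [← conj_pow, h2, hc.mul_pow]
    have hdk : ∀ j : ℕ, x * d ^ j * x⁻¹ = d ^ j := fun j => by
      rw [← (hx.pow_left j).eq, mul_inv_cancel_right]
    have h4 : x * (c ^ k * d ^ k.choose 2) * x⁻¹ = d ^ k * c ^ k * d ^ k.choose 2 := by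
      calc x * (c ^ k * d ^ k.choose 2) * x⁻¹
          = (x * c ^ k * x⁻¹) * (x * d ^ k.choose 2 * x⁻¹) := by group
        _ = _ := by rw [h3, hdk]
    have h5 : (k + 1).choose 2 = k + k.choose 2 :=
      (Nat.choose_succ_succ k 1).trans (congrArg (· + k.choose 2) (Nat.choose_one_right k))
    rw [h1, ih, h4, h5, pow_add d]
    calc d ^ k * c ^ k * d ^ k.choose 2 * c
        = d ^ k * c ^ k * (d ^ k.choose 2 * c) := by group
      _ = d ^ k * (c ^ k * c) * d ^ k.choose 2 := by
          rw [(hc.pow_left _).eq]; group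
      _ = d ^ k * c ^ (k + 1) * d ^ k.choose 2 := by rw [← pow_succ]
      _ = c ^ (k + 1) * (d ^ k * d ^ k.choose 2) := by
          rw [((hc.pow_left k).pow_right (k + 1)).eq]; group

theorem mul_pow_comm {H : Type*} [Group H] {a b : H} (ha : Commute ⁅b, a⁆ a)
    (hb : Commute ⁅b, a⁆ b) (k : ℕ) :
    (a * b) ^ k = a ^ k * b ^ k * ⁅b, a⁆ ^ k.choose 2 := by
  set e := ⁅b, a⁆ with he
  have hba : b * a = e * a * b := by rw [he, commutatorElement_def]; group
  have hbk : ∀ j : ℕ, b ^ j * a = a * b ^ j * e ^ j := by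
    intro j
    induction j with
    | zero => simp
    | succ j ih =>
      calc b ^ (j + 1) * a = b * (b ^ j * a) := by rw [pow_succ', mul_assoc]
        _ = (b * a) * (b ^ j * e ^ j) := by rw [ih]; group
        _ = a * (e * (b * b ^ j)) * e ^ j := by rw [hba, ha.eq]; group
        _ = a * (b ^ (j + 1) * e) * e ^ j := by rw [← pow_succ', (hb.pow_right (j + 1)).eq]
        _ = a * b ^ (j + 1) * e ^ (j + 1) := by rw [pow_succ' e]; group
  induction k with
  | zero => simp
  | succ k ih =>
    have h5 : (k + 1).choose 2 = k + k.choose 2 :=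
      (Nat.choose_succ_succ k 1).trans (congrArg (· + k.choose 2) (Nat.choose_one_right k))
    rw [pow_succ, ih, h5, pow_add e]
    calc a ^ k * b ^ k * e ^ k.choose 2 * (a * b)
        = a ^ k * b ^ k * (e ^ k.choose 2 * a) * b := by group
      _ = a ^ k * (b ^ k * a) * (e ^ k.choose 2 * b) := by rw [(ha.pow_left _).eq]; group
      _ = a ^ k * a * b ^ k * (e ^ k * (b * e ^ k.choose 2)) := by
          rw [hbk, (hb.pow_left _).eq]; group
      _ = a ^ (k + 1) * (b ^ k * b) * (e ^ k * e ^ k.choose 2) := by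
          rw [← mul_assoc (e ^ k), (hb.pow_left k).eq, ← pow_succ]; group
      _ = a ^ (k + 1) * b ^ (k + 1) * (e ^ k * e ^ k.choose 2) := by rw [← pow_succ]

/-! ### Powers, iterated commutators, invariance -/

variable {P : Type*} [Group P]

/-- The subgroup generated by the `q`-th powers. -/
def pw (q : ℕ) (N : Subgroup P) : Subgroup P :=
  Subgroup.closure ((fun x : P => x ^ q) '' (N : Set P))

/-- Invariance under an automorphism. -/
def Inv' (α : MulAut P) (N : Subgroup P) : Prop := ∀ x ∈ N, α x ∈ N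

theorem pow_mem_pw {q : ℕ} {N : Subgroup P} {x : P} (hx : x ∈ N) : x ^ q ∈ pw q N :=
  Subgroup.subset_closure ⟨x, hx, rfl⟩

theorem pw_le_iff {q : ℕ} {N K : Subgroup P} : pw q N ≤ K ↔ ∀ x ∈ N, x ^ q ∈ K := by
  rw [pw, Subgroup.closure_le, Set.image_subset_iff]
  rfl

theorem pw_le (q : ℕ) (N : Subgroup P) : pw q N ≤ N := pw_le_iff.2 fun _ hx => pow_mem hx q

theorem pw_mono {q : ℕ} {N K : Subgroup P} (h : N ≤ K) : pw q N ≤ pw q K :=
  pw_le_iff.2 fun _ hx => pow_mem_pw (h hx)

theorem pw_four_le (N : Subgroup P) : pw 4 N ≤ pw 2 (pw 2 N) := pw_le_iff.2 fun x hx => by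
  rw [show 4 = 2 * 2 by norm_num, pow_mul]
  exact pow_mem_pw (pow_mem_pw hx)

theorem pw_normal {q : ℕ} {N : Subgroup P} (hN : N.Normal) : (pw q N).Normal := by
  refine ⟨fun x hx g => ?_⟩
  induction hx using Subgroup.closure_induction with
  | mem x hx =>
    obtain ⟨y, hy, rfl⟩ := hx
    show g * y ^ q * g⁻¹ ∈ _
    rw [← conj_pow]
    exact pow_mem_pw (hN.conj_mem y hy g)
  | one => rw [mul_one, mul_inv_cancel]; exact one_mem _
  | mul a b _ _ ha hb =>
    rw [show g * (a * b) * g⁻¹ = (g * a * g⁻¹) * (g * b * g⁻¹) by group]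
    exact mul_mem ha hb
  | inv a _ ha =>
    rw [show g * a⁻¹ * g⁻¹ = (g * a * g⁻¹)⁻¹ by group]
    exact inv_mem ha

theorem inv'_iff {α : MulAut P} {N : Subgroup P} : Inv' α N ↔ N ≤ N.comap α.toMonoidHom :=
  Iff.rfl

theorem inv'_closure {α : MulAut P} {S : Set P}
    (h : ∀ x ∈ S, α x ∈ Subgroup.closure S) : Inv' α (Subgroup.closure S) :=
  inv'_iff.2 ((Subgroup.closure_le _).2 h)

theorem Inv'.pw {α : MulAut P} {q : ℕ} {N : Subgroup P} (h : Inv' α N) : Inv' α (pw q N) :=
  inv'_closure (by
    rintro _ ⟨x, hx, rfl⟩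
    show α (x ^ q) ∈ _
    rw [map_pow]
    exact pow_mem_pw (h x hx))

theorem Inv'.commutator {α : MulAut P} {N K : Subgroup P} (hN : Inv' α N) (hK : Inv' α K) :
    Inv' α ⁅N, K⁆ := by
  rw [Subgroup.commutator_def]
  refine inv'_closure ?_
  rintro _ ⟨a, ha, b, hb, rfl⟩
  rw [map_commutatorElement]
  exact Subgroup.subset_closure ⟨_, hN a ha, _, hK b hb, rfl⟩

theorem Inv'.sup {α : MulAut P} {N K : Subgroup P} (hN : Inv' α N) (hK : Inv' α K) :
    Inv' α (N ⊔ K) :=
  inv'_iff.2 (sup_le ((inv'_iff.1 hN).trans (Subgroup.comap_mono le_sup_left))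
    ((inv'_iff.1 hK).trans (Subgroup.comap_mono le_sup_right)))

/-- Iterated derived subgroup. -/
def DS (R : Subgroup P) : ℕ → Subgroup P
  | 0 => R
  | k + 1 => ⁅DS R k, DS R k⁆

/-- Lower central series of a subgroup. -/
def Gam (R : Subgroup P) : ℕ → Subgroup P
  | 0 => R
  | k + 1 => ⁅Gam R k, R⁆

theorem DS_mono {R S : Subgroup P} (h : R ≤ S) : ∀ k, DS R k ≤ DS S k
  | 0 => h
  | k + 1 => Subgroup.commutator_mono (DS_mono h k) (DS_mono h k)

theorem DS_add (R : Subgroup P) (j : ℕ) : ∀ k, DS R (j + k) = DS (DS R j) k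
  | 0 => rfl
  | k + 1 => by rw [← add_assoc]; show ⁅DS R (j + k), DS R (j + k)⁆ = _; rw [DS_add R j k]; rfl

theorem commutator_le_self' (R : Subgroup P) : ⁅R, R⁆ ≤ R :=
  Subgroup.commutator_le.2 fun a ha b hb => by
    rw [commutatorElement_def]
    exact mul_mem (mul_mem (mul_mem ha hb) (inv_mem ha)) (inv_mem hb)

theorem DS_le_self (R : Subgroup P) : ∀ k, DS R k ≤ R
  | 0 => le_rfl
  | k + 1 => (Subgroup.commutator_mono (DS_le_self R k) (DS_le_self R k)).trans
      (commutator_le_self' R)

theorem DS_antitone (R : Subgroup P) {j k : ℕ} (h : j ≤ k) : DS R k ≤ DS R j := by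
  obtain ⟨i, rfl⟩ := Nat.exists_eq_add_of_le h
  rw [DS_add]
  exact DS_le_self _ _

theorem Gam_le_self (R : Subgroup P) : ∀ k, Gam R k ≤ R
  | 0 => le_rfl
  | k + 1 => (Subgroup.commutator_mono (Gam_le_self R k) le_rfl).trans (commutator_le_self' R)

theorem DS_le_Gam (R : Subgroup P) : ∀ k, DS R k ≤ Gam R k
  | 0 => le_rfl
  | k + 1 => Subgroup.commutator_mono (DS_le_Gam R k) (DS_le_self R k)

theorem DS_normal {R : Subgroup P} (h : R.Normal) : ∀ k, (DS R k).Normal
  | 0 => h
  | k + 1 => by
    haveI := DS_normal h k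
    exact Subgroup.commutator_normal _ _

theorem Gam_normal {R : Subgroup P} (h : R.Normal) : ∀ k, (Gam R k).Normal
  | 0 => h
  | k + 1 => by
    haveI := Gam_normal h k
    haveI : R.Normal := h
    exact Subgroup.commutator_normal _ _

theorem Gam_inv {α : MulAut P} {R : Subgroup P} (h : Inv' α R) : ∀ k, Inv' α (Gam R k)
  | 0 => h
  | k + 1 => (Gam_inv h k).commutator h

theorem DS_top_inv (α : MulAut P) : ∀ k, Inv' α (DS (⊤ : Subgroup P) k)
  | 0 => fun _ _ => Subgroup.mem_top _
  | k + 1 => (DS_top_inv α k).commutator (DS_top_inv α k)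

theorem derivedSeries_eq_DS : ∀ k, derivedSeries P k = DS (⊤ : Subgroup P) k
  | 0 => rfl
  | k + 1 => by rw [derivedSeries_succ, derivedSeries_eq_DS k]; rfl

theorem map_lcs (R : Subgroup P) :
    ∀ k, ((⊤ : Subgroup R).lowerCentralSeries k).map R.subtype = Gam R k
  | 0 => by rw [Subgroup.lowerCentralSeries_zero, ← MonoidHom.range_eq_map, Subgroup.range_subtype]; rfl
  | k + 1 => by
    rw [(⊤ : Subgroup R).lowerCentralSeries_succ k, Subgroup.map_commutator, map_lcs R k,
      ← MonoidHom.range_eq_map, Subgroup.range_subtype]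
    rfl

/-! ### Fixed points in sections -/

/-- At most `p^n` fixed points. -/
def FixLe (p n : ℕ) (α : MulAut P) : Prop := Nat.card {x : P // α x = x} ≤ p ^ n

variable [Finite P]

/-- The fixed cosets of `N` in `K` are no more than the fixed points. -/
theorem card_fixed_section {α : MulAut P} {N K : Subgroup P} (hNK : N ≤ K)
    (S : Subgroup P) (hS : ∀ x, x ∈ S ↔ x ∈ K ∧ x⁻¹ * α x ∈ N) (hα : Inv' α N) :
    N.relIndex S ≤ Nat.card {x : P // α x = x} := by
  classical
  haveI := Fintype.ofFinite P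
  have hNS : N ≤ S := fun x hx => (hS x).2 ⟨hNK hx, mul_mem (inv_mem hx) (hα x hx)⟩
  let f : P → P := fun x => x⁻¹ * α x
  let s : Finset P := Finset.univ.filter (fun x => x ∈ S)
  let t : Finset P := Finset.univ.filter (fun x => x ∈ N)
  have hmap : ∀ x ∈ s, f x ∈ t := fun x hx => by
    simp only [s, t, Finset.mem_filter, Finset.mem_univ, true_and] at hx ⊢
    exact ((hS x).1 hx).2
  have hfib : ∀ y ∈ t, (s.filter (fun x => f x = y)).card ≤ Nat.card {x : P // α x = x} := by
    intro y _
    rcases Finset.eq_empty_or_nonempty (s.filter (fun x => f x = y)) with h | ⟨x₀, hx₀⟩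
    · rw [h]; simp
    · rw [← Nat.card_eq_finsetCard]
      have hfx : ∀ x : {x // x ∈ s.filter (fun x => f x = y)}, α ((x : P) * x₀⁻¹) = (x : P) * x₀⁻¹ := by
        intro x
        have h1 : f x = y := (Finset.mem_filter.1 x.2).2
        have h2 : f x₀ = y := (Finset.mem_filter.1 hx₀).2
        simp only [f] at h1 h2
        have h3 : α (x : P) = x * y := by
          rw [show α (x : P) = x * ((x : P)⁻¹ * α x) by group, h1]
        have h4 : α x₀ = x₀ * y := by
          rw [show α x₀ = x₀ * (x₀⁻¹ * α x₀) by group, h2]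
        rw [map_mul, map_inv, h3, h4]
        group
      refine Nat.card_le_card_of_injective (fun x => ⟨(x : P) * x₀⁻¹, hfx x⟩) ?_
      intro x x' h
      exact Subtype.ext (mul_right_cancel (congrArg Subtype.val h))
  have h1 := Finset.card_le_mul_card_image_of_maps_to hmap _ hfib
  have hs : s.card = Nat.card S := by
    rw [Nat.card_eq_fintype_card, Fintype.card_subtype]
  have ht : t.card = Nat.card N := by
    rw [Nat.card_eq_fintype_card, Fintype.card_subtype]
  rw [hs, ht] at h1
  have h2 : Nat.card N * N.relIndex S = Nat.card S := by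
    rw [← Nat.card_congr (Subgroup.subgroupOfEquivOfLe hNS).toEquiv]
    exact Subgroup.card_mul_index _
  rw [← h2, mul_comm] at h1
  exact Nat.le_of_mul_le_mul_right h1 Nat.card_pos

variable {p : ℕ} [hp : Fact p.Prime]

theorem relIndex_pPower (hP : IsPGroup p P) (N K : Subgroup P) : ∃ k, N.relIndex K = p ^ k := by
  exact (hP.to_subgroup K).index (N.subgroupOf K)

/-- An element fixed modulo `N` has its `p^n`-th power in `N`. -/
theorem pow_mem_of_fixed (hP : IsPGroup p P) {n : ℕ} {α : MulAut P} (hn : FixLe p n α)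
    {N K : Subgroup P} (hNK : N ≤ K) (hKN : K ≤ Subgroup.normalizer (N : Set P))
    (hα : Inv' α N) {x : P} (hx : x ∈ K) (hxα : x⁻¹ * α x ∈ N) : x ^ p ^ n ∈ N := by
  let S : Subgroup P :=
    { carrier := {x | x ∈ K ∧ x⁻¹ * α x ∈ N}
      one_mem' := ⟨K.one_mem, by simp⟩
      mul_mem' := fun {a b} ha hb => ⟨K.mul_mem ha.1 hb.1, by
        rw [map_mul, show (a * b)⁻¹ * (α a * α b) =
          (b⁻¹ * (a⁻¹ * α a) * b) * (b⁻¹ * α b) by group]
        exact N.mul_mem ((Subgroup.mem_normalizer_iff''.1 (hKN hb.1) _).1 ha.2) hb.2⟩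
      inv_mem' := fun {a} ha => ⟨K.inv_mem ha.1, by
        rw [map_inv, show (a⁻¹)⁻¹ * (α a)⁻¹ = a * (a⁻¹ * α a)⁻¹ * a⁻¹ by group]
        exact (Subgroup.mem_normalizer_iff.1 (hKN ha.1) _).1 (N.inv_mem ha.2)⟩ }
  have hNS : N ≤ S := fun y hy => ⟨hNK hy, mul_mem (inv_mem hy) (hα y hy)⟩
  obtain ⟨k, hk⟩ := relIndex_pPower hP N S
  have hle : p ^ k ≤ p ^ n := hk ▸ (card_fixed_section hNK S (fun _ => Iff.rfl) hα).trans hn
  have hkn : k ≤ n := (Nat.pow_le_pow_iff_right hp.out.one_lt).1 hle
  haveI : (N.subgroupOf S).Normal := Subgroup.normal_subgroupOf_iff_le_normalizer hNS |>.2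
    (fun y hy => hKN hy.1)
  have h1 : (⟨x, hx, hxα⟩ : S) ^ (N.subgroupOf S).index ∈ N.subgroupOf S :=
    Subgroup.pow_index_mem _ _
  have h2 : x ^ p ^ k ∈ N := by rw [← hk]; exact h1
  obtain ⟨j, rfl⟩ := Nat.exists_eq_add_of_le hkn
  rw [pow_add, pow_mul]
  exact pow_mem h2 _

/-- An invariant elementary abelian section has order at most `p^(p n)`. -/
theorem card_elementary_section (hP : IsPGroup p P) {n : ℕ} {α : MulAut P} (hα : α ^ p = 1)
    (hn : FixLe p n α) {N K : Subgroup P} (hNK : N ≤ K) (hN : N.Normal) (hαN : Inv' α N)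
    (hαK : Inv' α K) (hel : pw p K ≤ N) (hab : ⁅K, K⁆ ≤ N) :
    N.relIndex K ≤ p ^ (p * n) := by
  classical
  haveI := hN
  set π := QuotientGroup.mk' N with hπ
  have hrel : N.relIndex K = Nat.card (K.map π) := by
    rw [← Subgroup.relIndex_ker, QuotientGroup.ker_mk']
  have hcomm : ∀ a b : K.map π, a * b = b * a := by
    rintro ⟨_, a, ha, rfl⟩ ⟨_, b, hb, rfl⟩
    refine Subtype.ext ?_
    show π a * π b = π b * π a
    rw [← commutatorElement_eq_one_iff_mul_comm, ← map_commutatorElement]
    exact (QuotientGroup.eq_one_iff _).2 (hab (Subgroup.commutator_mem_commutator ha hb))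
  letI : CommGroup (K.map π) := { (inferInstance : Group (K.map π)) with mul_comm := hcomm }
  have hpow1 : ∀ v : K.map π, v ^ p = 1 := by
    rintro ⟨_, a, ha, rfl⟩
    refine Subtype.ext ?_
    show π a ^ p = 1
    rw [← map_pow]
    exact (QuotientGroup.eq_one_iff _).2 (hel (pow_mem_pw ha))
  -- the induced endomorphism
  let β0 : P ⧸ N →* P ⧸ N := QuotientGroup.map N N α.toMonoidHom (inv'_iff.1 hαN)
  have hβ0 : ∀ a, β0 (π a) = π (α a) := fun a => rfl
  have hmem : ∀ v : K.map π, β0 v ∈ K.map π := by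
    rintro ⟨_, a, ha, rfl⟩
    exact ⟨α a, hαK a ha, rfl⟩
  let β : K.map π →* K.map π :=
    MonoidHom.mk' (fun v => ⟨β0 v, hmem v⟩) (fun u v => Subtype.ext (map_mul β0 _ _))
  have hβ : ∀ v : K.map π, ((β v : K.map π) : P ⧸ N) = β0 v := fun v => rfl
  letI : Module (ZMod p) (Additive (K.map π)) :=
    AddCommGroup.zmodModule (n := p) (G := Additive (K.map π)) (fun v => hpow1 v.toMul)
  let E : Module.End (ZMod p) (Additive (K.map π)) :=
    AddMonoidHom.toZModLinearMap p (MonoidHom.toAdditive β)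
  have hEpow : ∀ (k : ℕ) (a : P) (ha : a ∈ K),
      (((Additive.toMul ((E ^ k) (Additive.ofMul ⟨π a, a, ha, rfl⟩))) : K.map π) : P ⧸ N) =
        π ((α ^ k) a) := by
    intro k
    induction k with
    | zero => intro a ha; rfl
    | succ k ih =>
      intro a ha
      rw [pow_succ', Module.End.mul_apply]
      show β0 _ = _
      rw [ih a ha, hβ0, pow_succ' α, MulAut.mul_apply]
  have hEp : E ^ p = 1 := by
    refine LinearMap.ext fun v => ?_
    obtain ⟨⟨_, a, ha, rfl⟩, rfl⟩ := Additive.ofMul.surjective v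
    refine Additive.toMul.injective (Subtype.ext ?_)
    refine (hEpow p a ha).trans ?_
    rw [hα]
    rfl
  set D : Module.End (ZMod p) (Additive (K.map π)) := E - 1 with hD
  have hDp : D ^ p = 0 := by
    have hzero : (p : Module.End (ZMod p) (Additive (K.map π))) = 0 := by
      refine LinearMap.ext fun v => ?_
      rw [Module.End.natCast_apply, LinearMap.zero_apply, ← Nat.cast_smul_eq_nsmul (ZMod p),
        ZMod.natCast_self, zero_smul]
    obtain ⟨R, hR⟩ := (Commute.one_right D).exists_add_pow_prime_eq hp.out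
    rw [show D + 1 = E from sub_add_cancel E 1, hEp, one_pow, hzero, zero_mul, zero_mul, zero_mul,
      add_zero] at hR
    exact right_eq_add.mp hR
  have hker : Nat.card (LinearMap.ker D) ≤ p ^ n := by
    let S : Subgroup P :=
      { carrier := {x | x ∈ K ∧ x⁻¹ * α x ∈ N}
        one_mem' := ⟨K.one_mem, by simp⟩
        mul_mem' := fun {a b} ha hb => ⟨K.mul_mem ha.1 hb.1, by
          rw [map_mul, show (a * b)⁻¹ * (α a * α b) =
            (b⁻¹ * (a⁻¹ * α a) * (b⁻¹)⁻¹) * (b⁻¹ * α b) by group]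
          exact N.mul_mem (hN.conj_mem _ ha.2 _) hb.2⟩
        inv_mem' := fun {a} ha => ⟨K.inv_mem ha.1, by
          rw [map_inv, show (a⁻¹)⁻¹ * (α a)⁻¹ = a * (a⁻¹ * α a)⁻¹ * a⁻¹ by group]
          exact hN.conj_mem _ (N.inv_mem ha.2) _⟩ }
    refine le_trans ?_ ((card_fixed_section hNK S (fun _ => Iff.rfl) hαN).trans hn)
    have hrelS : N.relIndex S = Nat.card (S.map π) := by
      rw [← Subgroup.relIndex_ker, QuotientGroup.ker_mk']
    rw [hrelS]
    have hmem : ∀ v : LinearMap.ker D,
        (((Additive.toMul (v : Additive (K.map π))) : K.map π) : P ⧸ N) ∈ S.map π := by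
      intro v
      obtain ⟨a, ha, hav⟩ := (Additive.toMul (v : Additive (K.map π))).2
      have h1 : E v = v := sub_eq_zero.1 (LinearMap.mem_ker.1 v.2)
      have h2 : π (α a) = π a := by
        rw [← hβ0, hav]
        exact congrArg (fun w : Additive (K.map π) => ((Additive.toMul w : K.map π) : P ⧸ N)) h1
      exact ⟨a, ⟨ha, QuotientGroup.eq.1 h2.symm⟩, hav⟩
    refine Nat.card_le_card_of_injective (fun v => ⟨_, hmem v⟩) ?_
    intro u v h
    exact Subtype.ext (Additive.toMul.injective (Subtype.ext (congrArg (fun w : S.map π => (w : P ⧸ N)) h)))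
  have hkers : ∀ k : ℕ, Nat.card (LinearMap.ker (D ^ k)) ≤ p ^ (n * k) := by
    intro k
    induction k with
    | zero =>
      rw [pow_zero, Module.End.one_eq_id, LinearMap.ker_id, mul_zero, pow_zero]
      exact (Nat.card_unique (α := (⊥ : Submodule (ZMod p) (Additive (K.map π))))).le
    | succ k ih =>
      let g : LinearMap.ker (D ^ (k + 1)) →ₗ[ZMod p] LinearMap.ker (D ^ k) :=
        (D.comp (LinearMap.ker (D ^ (k + 1))).subtype).codRestrict _ (fun v => by
          rw [LinearMap.mem_ker]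
          show (D ^ k) (D v) = 0
          rw [← Module.End.mul_apply, ← pow_succ]
          exact v.2)
      have h1 : Nat.card (LinearMap.ker g) ≤ p ^ n := by
        refine le_trans (Nat.card_le_card_of_injective
          (fun v => (⟨v.1.1, LinearMap.mem_ker.2 (congrArg Subtype.val (LinearMap.mem_ker.1 v.2))⟩ :
            LinearMap.ker D)) ?_) hker
        intro u v h
        exact Subtype.ext (Subtype.ext (congrArg (fun w : LinearMap.ker D => (w : Additive (K.map π))) h))
      have h2 : Nat.card (LinearMap.range g) ≤ p ^ (n * k) :=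
        (Nat.card_le_card_of_injective _ (Submodule.injective_subtype _)).trans ih
      rw [Submodule.card_eq_card_quotient_mul_card (LinearMap.ker g),
        Nat.card_congr g.quotKerEquivRange.toEquiv]
      calc _ ≤ p ^ n * p ^ (n * k) := Nat.mul_le_mul h1 h2
        _ = p ^ (n * (k + 1)) := by ring
  rw [hrel]
  refine le_trans (le_of_eq ?_) ((hkers p).trans (by rw [mul_comm]))
  rw [hDp, LinearMap.ker_zero]
  exact ((Nat.card_congr Submodule.topEquiv.toEquiv).trans (Nat.card_congr Additive.toMul)).symm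

/-- An invariant abelian section of exponent dividing `p^e` has order at most `p^(p n e)`. -/
theorem card_abelian_section (hP : IsPGroup p P) {n : ℕ} {α : MulAut P} (hα : α ^ p = 1)
    (hn : FixLe p n α) {N K : Subgroup P} (hNK : N ≤ K) (hN : N.Normal) (hK : K.Normal)
    (hαN : Inv' α N) (hαK : Inv' α K) (hab : ⁅K, K⁆ ≤ N) :
    ∀ e, pw (p ^ e) K ≤ N → N.relIndex K ≤ (p ^ (p * n)) ^ e := by
  intro e
  induction e generalizing K with
  | zero =>
    intro h
    have hKN : K ≤ N := fun x hx => by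
      have h1 : x ^ p ^ 0 ∈ N := h (pow_mem_pw hx)
      rwa [pow_zero, pow_one] at h1
    rw [Subgroup.relIndex_eq_one.2 hKN, pow_zero]
  | succ e ih =>
    intro h
    set K1 := pw p K ⊔ N with hK1
    haveI hK1n : K1.Normal := @Subgroup.sup_normal _ _ _ _ (pw_normal hK) hN
    have hK1K : K1 ≤ K := sup_le (pw_le p K) hNK
    have h1 : K1.relIndex K ≤ p ^ (p * n) :=
      card_elementary_section hP hα hn hK1K inferInstance (hαK.pw.sup hαN) hαK le_sup_left
        (hab.trans le_sup_right)
    have hab1 : ⁅K1, K1⁆ ≤ N := (Subgroup.commutator_mono hK1K hK1K).trans hab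
    have h2 : pw (p ^ e) K1 ≤ N := by
      haveI := hN
      set π := QuotientGroup.mk' N
      have hsub : ∀ x ∈ K1, π x ^ p ^ e = 1 := by
        intro x hx
        have hgen : x ∈ Subgroup.closure ((fun x : P => x ^ p) '' (K : Set P) ∪ (N : Set P)) := by
          rw [Subgroup.closure_union, Subgroup.closure_eq]; exact hx
        clear hx
        refine (Subgroup.closure_induction (p := fun x _ => x ∈ K1 ∧ π x ^ p ^ e = 1)
          ?_ ?_ ?_ ?_ hgen).2
        · rintro x (⟨y, hy, rfl⟩ | hxN)
          · refine ⟨Subgroup.mem_sup_left (pow_mem_pw hy), ?_⟩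
            show π (y ^ p) ^ p ^ e = 1
            rw [← map_pow, ← pow_mul, ← pow_succ']
            exact (QuotientGroup.eq_one_iff _).2 (h (pow_mem_pw hy))
          · exact ⟨Subgroup.mem_sup_right hxN, by
              rw [show π x = 1 from (QuotientGroup.eq_one_iff _).2 hxN, one_pow]⟩
        · exact ⟨one_mem _, by rw [map_one, one_pow]⟩
        · rintro a b - - ⟨ha, ha'⟩ ⟨hb, hb'⟩
          refine ⟨mul_mem ha hb, ?_⟩
          have hc : Commute (π a) (π b) := by
            rw [commute_iff_eq, ← commutatorElement_eq_one_iff_mul_comm, ← map_commutatorElement]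
            exact (QuotientGroup.eq_one_iff _).2 (hab1 (Subgroup.commutator_mem_commutator ha hb))
          rw [map_mul, hc.mul_pow, ha', hb', one_mul]
        · rintro a - ⟨ha, ha'⟩
          exact ⟨inv_mem ha, by rw [map_inv, inv_pow, ha', inv_one]⟩
      exact pw_le_iff.2 fun x hx => (QuotientGroup.eq_one_iff _).1 (by
        show π (x ^ p ^ e) = 1
        rw [map_pow]; exact hsub x hx)
    have h3 := ih le_sup_right hK1n (hαK.pw.sup hαN) hab1 h2
    calc N.relIndex K = N.relIndex K1 * K1.relIndex K :=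
          (Subgroup.relIndex_mul_relIndex _ _ _ le_sup_right hK1K).symm
      _ ≤ (p ^ (p * n)) ^ e * p ^ (p * n) := Nat.mul_le_mul h3 h1
      _ = _ := by rw [pow_succ]

/-! ### Well-powered normal subgroups -/

/-- The exponent `p`, or `4` for `p = 2`. -/
def qq (p : ℕ) : ℕ := if p = 2 then 4 else p

theorem pw_qq_le (N : Subgroup P) : pw (qq p) N ≤ pw p N := by
  unfold qq
  split_ifs with h
  · subst h
    exact (pw_four_le N).trans (pw_le _ _)
  · exact le_rfl

theorem qq_eq_pow : ∃ e, e ≤ 2 ∧ qq p = p ^ e := by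
  unfold qq
  split_ifs with h
  · subst h; exact ⟨2, le_rfl, rfl⟩
  · exact ⟨1, one_le_two, (pow_one p).symm⟩

/-- `Q` acts trivially on the small sections of its invariant normal subgroups. -/
structure Good (p : ℕ) (α : MulAut P) (Q : Subgroup P) : Prop where
  normal : Q.Normal
  inv : Inv' α Q
  powered : ∀ N : Subgroup P, N ≤ Q → N.Normal → Inv' α N → ⁅N, Q⁆ ≤ pw (qq p) N

variable {α : MulAut P} {Q : Subgroup P}

theorem le_of_le_sup_pw (hP : IsPGroup p P) {L B : Subgroup P} (hB : B ≤ L)
    (h : L ≤ B ⊔ pw p L) : L ≤ B := by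
  have hpL : pw p L ≤ (frattini L).map L.subtype := pw_le_iff.2 fun x hx =>
    ⟨(⟨x, hx⟩ : L) ^ p, H6.pow_prime_mem_frattini (hP.to_subgroup L) _, rfl⟩
  have htop : B.subgroupOf L ⊔ frattini L = ⊤ := by
    apply Subgroup.map_injective L.subtype_injective
    rw [Subgroup.map_sup, Subgroup.map_subgroupOf_eq_of_le hB, ← MonoidHom.range_eq_map,
      Subgroup.range_subtype]
    exact le_antisymm (sup_le hB (Subgroup.map_subtype_le _)) (h.trans (sup_le_sup_left hpL _))
  have h1 : B.subgroupOf L = ⊤ := frattini_nongenerating htop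
  exact Subgroup.subgroupOf_eq_top.1 h1

/-- Commutators commute with `p`-th powers. -/
theorem commutator_pw (hP : IsPGroup p P) (hG : Good p α Q) {K M : Subgroup P} (hK : K ≤ Q)
    (hM : M ≤ Q) (hKn : K.Normal) (hMn : M.Normal) (hKi : Inv' α K) (hMi : Inv' α M) :
    ⁅pw p K, M⁆ = pw p ⁅K, M⁆ := by
  haveI := hKn
  haveI := hMn
  haveI := hG.normal
  set L := ⁅K, M⁆ with hL
  haveI hLn : L.Normal := Subgroup.commutator_normal K M
  have hLQ : L ≤ Q := ((Subgroup.commutator_mono hK hM).trans (commutator_le_self' Q))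
  have hLi : Inv' α L := hKi.commutator hMi
  set L' := pw p L with hL'
  haveI hL'n : L'.Normal := pw_normal hLn
  have hLL' : ⁅L, Q⁆ ≤ L' := (hG.powered L hLQ hLn hLi).trans (pw_qq_le L)
  refine le_antisymm ?_ ?_
  · rw [Subgroup.commutator_le]
    intro g hg y hy
    set π := QuotientGroup.mk' L'
    have hone : ∀ x, x ∈ L' → π x = 1 := fun x hx => (QuotientGroup.eq_one_iff x).2 hx
    refine (QuotientGroup.eq_one_iff ⁅g, y⁆).1 (show π ⁅g, y⁆ = 1 from ?_)
    rw [map_commutatorElement, commutatorElement_eq_one_iff_commute]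
    induction hg using Subgroup.closure_induction with
    | mem z hz =>
      obtain ⟨x, hx, rfl⟩ := hz
      show Commute (π (x ^ p)) (π y)
      rw [← commutatorElement_eq_one_iff_commute, map_pow]
      have hcL : ⁅x, y⁆ ∈ L := Subgroup.commutator_mem_commutator hx hy
      have hc : ∀ q ∈ Q, Commute (π ⁅x, y⁆) (π q) := fun q hq => by
        rw [← commutatorElement_eq_one_iff_commute, ← map_commutatorElement]
        exact hone _ (hLL' (Subgroup.commutator_mem_commutator hcL hq))
      have hd : ⁅π x, ⁅π x, π y⁆⁆ = 1 := by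
        rw [commutatorElement_eq_one_iff_commute, ← map_commutatorElement]
        exact (hc x (hK hx)).symm
      rw [comm_pow_left (by rw [hd]; exact Commute.one_left _) (by rw [hd]; exact Commute.one_left _),
        hd, one_pow, mul_one, ← map_commutatorElement, ← map_pow]
      exact hone _ (pow_mem_pw hcL)
    | one => rw [map_one]; exact Commute.one_left _
    | mul a b _ _ ha hb => rw [map_mul]; exact ha.mul_left hb
    | inv a _ ha => rw [map_inv]; exact ha.inv_left
  · haveI : (pw p K).Normal := pw_normal hKn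
    haveI : (pw p L').Normal := pw_normal hL'n
    haveI : (⁅pw p K, M⁆).Normal := Subgroup.commutator_normal _ _
    haveI : (⁅L', Q⁆).Normal := Subgroup.commutator_normal _ _
    set A := ⁅pw p K, M⁆ with hA
    set X := A ⊔ pw p L' ⊔ ⁅L', Q⁆ with hX
    haveI : (A ⊔ pw p L').Normal := Subgroup.sup_normal _ _
    haveI : X.Normal := Subgroup.sup_normal _ _
    set π := QuotientGroup.mk' X with hπ
    have hone : ∀ x, x ∈ X → π x = 1 := fun x hx => (QuotientGroup.eq_one_iff x).2 hx
    have hL'Q : L' ≤ Q := (pw_le p L).trans hLQ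
    -- commutators of `L` with `Q` are central and their binomial power is trivial
    have he : ∀ l ∈ L, ∀ r ∈ Q, (∀ q ∈ Q, Commute ⁅π l, π r⁆ (π q)) ∧
        ⁅π l, π r⁆ ^ p.choose 2 = 1 := by
      intro l hl r hr
      have hmem : ⁅l, r⁆ ∈ pw (qq p) L := hG.powered L hLQ hLn hLi (Subgroup.commutator_mem_commutator hl hr)
      have hmem' : ⁅l, r⁆ ∈ L' := pw_qq_le L hmem
      refine ⟨fun q hq => ?_, ?_⟩
      · rw [← commutatorElement_eq_one_iff_commute, ← map_commutatorElement, ← map_commutatorElement]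
        exact hone _ (Subgroup.mem_sup_right (Subgroup.commutator_mem_commutator hmem' hq))
      · rw [← map_commutatorElement]
        by_cases h2 : p = 2
        · rw [hone _ (Subgroup.mem_sup_left (Subgroup.mem_sup_right ?_)), one_pow]
          subst h2
          exact (pw_four_le L) hmem
        · obtain ⟨s, hs⟩ := hp.out.dvd_choose_self two_ne_zero
            (lt_of_le_of_ne hp.out.two_le (Ne.symm h2))
          rw [hs, pow_mul, ← map_pow,
            hone _ (Subgroup.mem_sup_left (Subgroup.mem_sup_right (pow_mem_pw hmem'))), one_pow]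
    have hkey : ∀ z ∈ L, π z ^ p = 1 := by
      intro z hz
      rw [hL, Subgroup.commutator_def] at hz
      refine (Subgroup.closure_induction (p := fun z _ => z ∈ L ∧ π z ^ p = 1) ?_ ?_ ?_ ?_ hz).2
      · rintro _ ⟨x, hx, y, hy, rfl⟩
        have hcL : ⁅x, y⁆ ∈ L := Subgroup.commutator_mem_commutator hx hy
        refine ⟨hcL, ?_⟩
        obtain ⟨h1, h2⟩ := he ⁅x, y⁆ hcL x (hK hx)
        have hd : ⁅π x, ⁅π x, π y⁆⁆ = ⁅π ⁅x, y⁆, π x⁆⁻¹ := by
          rw [commutatorElement_inv, map_commutatorElement]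
        have h3 := comm_pow_left (x := π x) (y := π y)
          (by rw [hd]; exact (h1 x (hK hx)).inv_left)
          (by rw [hd, ← map_commutatorElement]; exact (h1 _ (hLQ hcL)).inv_left) p
        rw [hd, inv_pow, h2, inv_one, mul_one, ← map_pow, ← map_commutatorElement,
          ← map_commutatorElement] at h3
        rw [← h3]
        exact hone _ (Subgroup.mem_sup_left (Subgroup.mem_sup_left
          (Subgroup.commutator_mem_commutator (pow_mem_pw hx) hy)))
      · exact ⟨one_mem _, by rw [map_one, one_pow]⟩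
      · rintro a b - - ⟨ha, ha'⟩ ⟨hb, hb'⟩
        obtain ⟨h1, h2⟩ := he b hb a (hLQ ha)
        refine ⟨mul_mem ha hb, ?_⟩
        rw [map_mul, mul_pow_comm (h1 a (hLQ ha)) (h1 b (hLQ hb)), ha', hb', h2, one_mul, one_mul]
      · rintro a - ⟨ha, ha'⟩
        exact ⟨inv_mem ha, by rw [map_inv, inv_pow, ha', inv_one]⟩
    have hle : L' ≤ X := pw_le_iff.2 fun z hz => (QuotientGroup.eq_one_iff _).1 (by
      show π (z ^ p) = 1
      rw [map_pow]; exact hkey z hz)
    have hAL : A ≤ L' := by
      rw [hA, Subgroup.commutator_le]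
      intro g hg y hy
      set σ := QuotientGroup.mk' L'
      refine (QuotientGroup.eq_one_iff ⁅g, y⁆).1 (show σ ⁅g, y⁆ = 1 from ?_)
      rw [map_commutatorElement, commutatorElement_eq_one_iff_commute]
      induction hg using Subgroup.closure_induction with
      | mem z hz =>
        obtain ⟨x, hx, rfl⟩ := hz
        show Commute (σ (x ^ p)) (σ y)
        rw [← commutatorElement_eq_one_iff_commute, map_pow]
        have hcL : ⁅x, y⁆ ∈ L := Subgroup.commutator_mem_commutator hx hy
        have hd : ⁅σ x, ⁅σ x, σ y⁆⁆ = 1 := by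
          rw [commutatorElement_eq_one_iff_commute, ← map_commutatorElement, Commute.symm_iff,
            ← commutatorElement_eq_one_iff_commute, ← map_commutatorElement]
          exact (QuotientGroup.eq_one_iff _).2
            (hLL' (Subgroup.commutator_mem_commutator hcL (hK hx)))
        rw [comm_pow_left (by rw [hd]; exact Commute.one_left _)
          (by rw [hd]; exact Commute.one_left _), hd, one_pow, mul_one, ← map_commutatorElement,
          ← map_pow]
        exact (QuotientGroup.eq_one_iff _).2 (pow_mem_pw hcL)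
      | one => rw [map_one]; exact Commute.one_left _
      | mul a b _ _ ha hb => rw [map_mul]; exact ha.mul_left hb
      | inv a _ ha => rw [map_inv]; exact ha.inv_left
    refine le_of_le_sup_pw hP hAL (hle.trans ?_)
    exact sup_le le_rfl (((hG.powered L' hL'Q hL'n hLi.pw).trans (pw_qq_le L')).trans le_sup_right)

/-! ### The filtration -/

/-- Iterated `p`-th powers. -/
def pwI (p : ℕ) : ℕ → Subgroup P → Subgroup P
  | 0, N => N
  | k + 1, N => pw p (pwI p k N)

theorem pwI_add (j k : ℕ) (N : Subgroup P) : pwI p (k + j) N = pwI p k (pwI p j N) := by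
  induction k with
  | zero => rw [zero_add]; rfl
  | succ k ih => rw [Nat.succ_add]; show pw p (pwI p (k + j) N) = _; rw [ih]; rfl

theorem pwI_le : ∀ (k : ℕ) (N : Subgroup P), pwI p k N ≤ N
  | 0, _ => le_rfl
  | k + 1, N => (pw_le _ _).trans (pwI_le k N)

theorem pwI_mono {N K : Subgroup P} (h : N ≤ K) : ∀ k, pwI p k N ≤ pwI p k K
  | 0 => h
  | k + 1 => pw_mono (pwI_mono h k)

theorem pwI_normal {N : Subgroup P} (h : N.Normal) : ∀ k, (pwI p k N).Normal
  | 0 => h
  | k + 1 => pw_normal (pwI_normal h k)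

theorem pwI_inv {N : Subgroup P} (h : Inv' α N) : ∀ k, Inv' α (pwI p k N)
  | 0 => h
  | k + 1 => (pwI_inv h k).pw

theorem pow_mem_pwI {N : Subgroup P} {x : P} (hx : x ∈ N) : ∀ k, x ^ p ^ k ∈ pwI p k N
  | 0 => by rw [pow_zero, pow_one]; exact hx
  | k + 1 => by rw [pow_succ, pow_mul]; exact pow_mem_pw (pow_mem_pwI hx k)

theorem pwI_antitone {j k : ℕ} (h : j ≤ k) (N : Subgroup P) : pwI p k N ≤ pwI p j N := by
  obtain ⟨i, rfl⟩ := Nat.exists_eq_add_of_le h
  rw [add_comm, pwI_add]
  exact pwI_le i _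

/-- The filtration of `Q`. -/
def F (p : ℕ) (Q : Subgroup P) (i : ℕ) : Subgroup P := pwI p i Q

theorem F_antitone {j k : ℕ} (h : j ≤ k) : F p Q k ≤ F p Q j := pwI_antitone h Q

theorem F_le (i : ℕ) : F p Q i ≤ Q := pwI_le i Q

theorem commutator_pwI_left (hP : IsPGroup p P) (hG : Good p α Q) {K M : Subgroup P} (hK : K ≤ Q)
    (hM : M ≤ Q) (hKn : K.Normal) (hMn : M.Normal) (hKi : Inv' α K) (hMi : Inv' α M) :
    ∀ a, ⁅pwI p a K, M⁆ = pwI p a ⁅K, M⁆
  | 0 => rfl
  | a + 1 => by
    show ⁅pw p (pwI p a K), M⁆ = pw p (pwI p a ⁅K, M⁆)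
    rw [commutator_pw hP hG ((pwI_le a K).trans hK) hM (pwI_normal hKn a) hMn (pwI_inv hKi a) hMi,
      commutator_pwI_left hP hG hK hM hKn hMn hKi hMi a]

theorem commutator_pwI (hP : IsPGroup p P) (hG : Good p α Q) {K M : Subgroup P} (hK : K ≤ Q)
    (hM : M ≤ Q) (hKn : K.Normal) (hMn : M.Normal) (hKi : Inv' α K) (hMi : Inv' α M) (a b : ℕ) :
    ⁅pwI p a K, pwI p b M⁆ = pwI p (a + b) ⁅K, M⁆ := by
  rw [commutator_pwI_left hP hG hK ((pwI_le b M).trans hM) hKn (pwI_normal hMn b) hKi
      (pwI_inv hMi b), Subgroup.commutator_comm,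
    commutator_pwI_left hP hG hM hK hMn hKn hMi hKi, Subgroup.commutator_comm, ← pwI_add]

theorem commutator_F_le (hP : IsPGroup p P) (hG : Good p α Q) (i j : ℕ) :
    ⁅F p Q i, F p Q j⁆ ≤ F p Q (i + j + 1) ∧
      (p = 2 → ⁅F p Q i, F p Q j⁆ ≤ F p Q (i + j + 2)) := by
  have h1 : ⁅F p Q i, F p Q j⁆ ≤ pwI p (i + j) (pw (qq p) Q) := by
    rw [F, F, commutator_pwI hP hG le_rfl le_rfl hG.normal hG.normal hG.inv hG.inv]
    exact pwI_mono (hG.powered Q le_rfl hG.normal hG.inv) _
  refine ⟨h1.trans ?_, fun h2 => h1.trans ?_⟩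
  · rw [F, pwI_add 1]
    exact pwI_mono (pw_qq_le Q) _
  · subst h2
    rw [F, pwI_add 2]
    exact pwI_mono (pw_four_le Q) _

theorem commute_mk_of_commutator_mem {X : Subgroup P} [X.Normal] {a b : P} (h : ⁅a, b⁆ ∈ X) :
    Commute (QuotientGroup.mk' X a) (QuotientGroup.mk' X b) := by
  rw [← commutatorElement_eq_one_iff_commute, ← map_commutatorElement]
  exact (QuotientGroup.eq_one_iff _).2 h

/-- The `p`-th power map between consecutive factors. -/
theorem factor_step (hP : IsPGroup p P) (hG : Good p α Q) (i : ℕ) :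
    (F p Q (i + 1 + 1)).relIndex (F p Q (i + 1)) ≤ (F p Q (i + 1)).relIndex (F p Q i) ∧
    ((F p Q (i + 1 + 1)).relIndex (F p Q (i + 1)) = (F p Q (i + 1)).relIndex (F p Q i) →
      ∀ x ∈ F p Q i, x ^ p ∈ F p Q (i + 1 + 1) → x ∈ F p Q (i + 1)) := by
  haveI : (F p Q (i + 1 + 1)).Normal := pwI_normal hG.normal _
  set X := F p Q (i + 1 + 1) with hX
  set π := QuotientGroup.mk' X with hπ
  have he : ∀ a ∈ F p Q i, ∀ b ∈ F p Q i,
      Commute ⁅π b, π a⁆ (π a) ∧ Commute ⁅π b, π a⁆ (π b) ∧ ⁅π b, π a⁆ ^ p.choose 2 = 1 := by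
    intro a ha b hb
    obtain ⟨h1, h2⟩ := commutator_F_le hP hG i i
    have hc := Subgroup.commutator_mem_commutator hb ha
    by_cases hp2 : p = 2
    · have h3 : ⁅π b, π a⁆ = 1 := by
        rw [← map_commutatorElement]
        exact (QuotientGroup.eq_one_iff _).2 (F_antitone (by omega) (h2 hp2 hc))
      rw [h3, one_pow]
      exact ⟨Commute.one_left _, Commute.one_left _, rfl⟩
    · have h3 : ∀ c ∈ F p Q i, Commute ⁅π b, π a⁆ (π c) := fun c hc' => by
        rw [← map_commutatorElement]
        exact commute_mk_of_commutator_mem (F_antitone (by omega)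
          ((commutator_F_le hP hG (i + i + 1) i).1
            (Subgroup.commutator_mem_commutator (h1 hc) hc')))
      obtain ⟨s, hs⟩ := hp.out.dvd_choose_self two_ne_zero
        (lt_of_le_of_ne hp.out.two_le (Ne.symm hp2))
      refine ⟨h3 a ha, h3 b hb, ?_⟩
      rw [hs, pow_mul, ← map_commutatorElement, ← map_pow]
      rw [show π (⁅b, a⁆ ^ p) = 1 from (QuotientGroup.eq_one_iff _).2
        (F_antitone (show i + 1 + 1 ≤ i + i + 1 + 1 by omega)
          (show ⁅b, a⁆ ^ p ∈ F p Q (i + i + 1 + 1) from pow_mem_pw (h1 hc))), one_pow]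
  let φ : F p Q i →* P ⧸ X := MonoidHom.mk' (fun x => π ((x : P) ^ p)) (fun a b => by
    show π (((a : P) * b) ^ p) = π ((a : P) ^ p) * π ((b : P) ^ p)
    obtain ⟨h1, h2, h3⟩ := he a a.2 b b.2
    rw [map_pow, map_mul, mul_pow_comm h1 h2, h3, mul_one, map_pow, map_pow])
  have hker : (F p Q (i + 1)).subgroupOf (F p Q i) ≤ φ.ker := fun x hx =>
    MonoidHom.mem_ker.2 ((QuotientGroup.eq_one_iff _).2 (pow_mem_pw (N := F p Q (i + 1)) hx))
  have hrange : φ.range = (F p Q (i + 1)).map π := by
    refine le_antisymm ?_ ?_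
    · rintro _ ⟨x, rfl⟩
      exact ⟨(x : P) ^ p, pow_mem_pw x.2, rfl⟩
    · show (pw p (F p Q i)).map π ≤ φ.range
      rw [Subgroup.map_le_iff_le_comap, pw_le_iff]
      exact fun x hx => ⟨⟨x, hx⟩, rfl⟩
  have hidx : φ.ker.index = X.relIndex (F p Q (i + 1)) := by
    rw [Subgroup.index_ker, hrange, ← Subgroup.relIndex_ker, hπ, QuotientGroup.ker_mk']
  rw [← hidx]
  refine ⟨Nat.le_of_dvd (Nat.pos_of_ne_zero Subgroup.index_ne_zero_of_finite)
    (Subgroup.index_dvd_of_le hker), fun heq x hx hxp => ?_⟩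
  have h1 : φ.ker ≤ (F p Q (i + 1)).subgroupOf (F p Q i) := by
    refine (Subgroup.eq_of_le_of_card_ge hker ?_).ge
    have e1 := Subgroup.card_mul_index φ.ker
    have e2 := Subgroup.card_mul_index ((F p Q (i + 1)).subgroupOf (F p Q i))
    rw [← e2, heq] at e1
    exact (Nat.eq_of_mul_eq_mul_right (Nat.pos_of_ne_zero Subgroup.index_ne_zero_of_finite) e1).le
  exact h1 (show (⟨x, hx⟩ : F p Q i) ∈ φ.ker from MonoidHom.mem_ker.2 ((QuotientGroup.eq_one_iff _).2 hxp))

theorem Gam_F_le (hP : IsPGroup p P) (hG : Good p α Q) (s : ℕ) :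
    ∀ k, Gam (F p Q s) k ≤ F p Q ((k + 1) * s + k)
  | 0 => by rw [zero_add, one_mul, add_zero]; exact le_rfl
  | k + 1 => by
    refine (Subgroup.commutator_mono (Gam_F_le hP hG s k) le_rfl).trans
      ((commutator_F_le hP hG _ _).1.trans (F_antitone ?_))
    rw [add_mul, one_mul]
    omega

theorem DS_F_le (hP : IsPGroup p P) (hG : Good p α Q) (s : ℕ) :
    ∀ k, DS (F p Q s) k ≤ F p Q (2 ^ k * s)
  | 0 => by rw [pow_zero, one_mul]; exact le_rfl
  | k + 1 => by
    refine (Subgroup.commutator_mono (DS_F_le hP hG s k) (DS_F_le hP hG s k)).trans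
      ((commutator_F_le hP hG _ _).1.trans (F_antitone ?_))
    rw [pow_succ, mul_right_comm]
    omega

theorem Gam_pwI (hP : IsPGroup p P) (hG : Good p α Q) {R : Subgroup P} (hR : R ≤ Q)
    (hRn : R.Normal) (hRi : Inv' α R) (m : ℕ) :
    ∀ k, Gam (pwI p m R) k = pwI p ((k + 1) * m) (Gam R k)
  | 0 => by rw [zero_add, one_mul]; rfl
  | k + 1 => by
    show ⁅Gam (pwI p m R) k, pwI p m R⁆ = _
    rw [Gam_pwI hP hG hR hRn hRi m k, commutator_pwI hP hG ((Gam_le_self R k).trans hR) hR
      (Gam_normal hRn k) hRn (Gam_inv hRi k) hRi, show (k + 1) * m + m = (k + 1 + 1) * m by ring]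
    rfl

/-! ### The Lie ring -/

theorem pow_mem_succ_lcs {G : Type*} [Group G] [Finite G] (hGp : IsPGroup p G) {n : ℕ}
    (β : MulAut G) (hβ : β ^ p = 1) (hn : FixLe p n β) {z : G}
    (hz : z ∈ (⊤ : Subgroup G).lowerCentralSeries (xi p)) :
    z ^ (p * p ^ n) ^ (xi p + 1) ∈ (⊤ : Subgroup G).lowerCentralSeries (xi p + 1) := by
  classical
  have hDk : ∀ (k : ℕ) (x : H28.ALie.γ (G := G) k), x ∈ H28.ALie.Dk (Nat.card G) k →
      (x : G) ∈ H28.ALie.γ (G := G) (k + 1) := by
    intro k x hx
    have hle : H28.ALie.Dk (G := G) (Nat.card G) k ≤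
        (H28.ALie.γ (k + 1)).subgroupOf (H28.ALie.γ k) := by
      refine sup_le le_rfl ((Subgroup.closure_le _).2 ?_)
      rintro _ ⟨y, rfl⟩
      show ((y ^ Nat.card G : H28.ALie.γ (G := G) k) : G) ∈ H28.ALie.γ (G := G) (k + 1)
      rw [SubgroupClass.coe_pow, pow_card_eq_one']
      exact one_mem _
    exact hle hx
  set l := Nat.card G with hl
  let T : H28.ALie.L G l →ₗ[ℤ] H28.ALie.L G l :=
    (H28.ALie.Tmap l β).toAddMonoidHom.toIntLinearMap
  have hTpow : ∀ i (x : H28.ALie.L G l), (T ^ i) x = ((H28.ALie.Tmap l β) ^ i) x := by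
    intro i x
    induction i with
    | zero => rfl
    | succ i ih => rw [pow_succ', pow_succ', Module.End.mul_apply, Module.End.mul_apply, ih]; rfl
  have hTp : T ^ p = 1 := by
    refine LinearMap.ext fun x => ?_
    rw [hTpow]
    induction x using H28.ALie.induction_ι with
    | h0 => simp
    | hadd a b ha hb => rw [map_add, ha, hb]; rfl
    | h k g hg => rw [H28.ALie.Tmap_pow_ι l β p hg, hβ]; rfl
  have hcomp : ∀ (x : H28.ALie.L G l) (k : ℕ),
      (T x) k = Additive.ofMul (H28.ALie.tauHom l β k (Additive.toMul (x k))) := by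
    intro x k
    induction x using H28.ALie.induction_ι with
    | h0 => simp
    | hadd a b ha hb =>
      rw [map_add, DirectSum.add_apply, ha, hb, DirectSum.add_apply, toMul_add, map_mul, ofMul_mul]
    | h j g hg =>
      show (H28.ALie.Tmap l β (H28.ALie.ι l j g)) k = _
      rw [H28.ALie.Tmap_ι l β hg, H28.ALie.ι_of_mem l hg,
        H28.ALie.ι_of_mem l (H28.ALie.apply_mem_γ β hg)]
      rcases eq_or_ne j k with rfl | hjk
      · rw [DirectSum.lof_eq_of, DirectSum.lof_eq_of, DirectSum.of_eq_same, DirectSum.of_eq_same]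
        rfl
      · rw [DirectSum.lof_eq_of, DirectSum.lof_eq_of, DirectSum.of_eq_of_ne _ _ _ hjk.symm,
          DirectSum.of_eq_of_ne _ _ _ hjk.symm, toMul_zero, map_one, ofMul_one]
  have hfix : ∀ x, T x = x → (p ^ n) • x = 0 := by
    intro x hx
    refine DFinsupp.ext fun k => ?_
    have h1 : Additive.ofMul (H28.ALie.tauHom l β k (Additive.toMul (x k))) = x k := by
      rw [← hcomp, hx]
    rw [DFinsupp.smul_apply]
    show (p ^ n) • x k = 0
    obtain ⟨v, hv⟩ := Additive.ofMul.surjective (x k)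
    rw [← hv] at h1 ⊢
    obtain ⟨⟨g, hg⟩, rfl⟩ := QuotientGroup.mk'_surjective _ v
    have h2 : H28.ALie.cls l (β g) (H28.ALie.apply_mem_γ β hg) = QuotientGroup.mk ⟨g, hg⟩ := h1
    have h3 : g⁻¹ * β g ∈ H28.ALie.γ (G := G) (k + 1) := hDk k _ (QuotientGroup.eq.1 h2.symm)
    rw [← ofMul_pow, ofMul_eq_zero]
    show (QuotientGroup.mk ⟨g, hg⟩ : H28.ALie.γ (G := G) k ⧸ H28.ALie.Dk l k) ^ p ^ n = 1
    rw [← QuotientGroup.mk_pow, QuotientGroup.eq_one_iff]
    refine Subgroup.mem_sup_left (Subgroup.mem_subgroupOf.2 ?_)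
    exact pow_mem_of_fixed hGp hn (H28.ALie.γ_le (Nat.le_succ k))
      (by rw [Subgroup.normalizer_eq_top]; exact le_top)
      (fun y hy => H28.ALie.apply_mem_γ β hy) hg h3
  have hmain := smul_C_eq_zero_of_fixed T (fun a b => H28.ALie.Tmap_lie l β a b) hTp (p ^ n) hfix
  have hC : ∀ (k : ℕ) (g : G), g ∈ H28.ALie.γ k →
      H28.ALie.ι l k g ∈ (H28.GLie.C k : AddSubgroup (H28.ALie.L G l)) := by
    intro k
    induction k with
    | zero => intro g _; exact AddSubgroup.mem_top _
    | succ k ih =>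
      intro g hg
      rw [H28.ALie.γ_succ, Subgroup.commutator_def] at hg
      refine (Subgroup.closure_induction (p := fun y _ => y ∈ H28.ALie.γ (G := G) (k + 1) ∧
        H28.ALie.ι l (k + 1) y ∈ (H28.GLie.C (k + 1) : AddSubgroup (H28.ALie.L G l)))
        ?_ ?_ ?_ ?_ hg).2
      · rintro _ ⟨a, ha, b, -, rfl⟩
        refine ⟨H28.ALie.comm_mem_succ ha b, ?_⟩
        have hb : b ∈ H28.ALie.γ (G := G) 0 := by
          show b ∈ (⊤ : Subgroup G).lowerCentralSeries 0
          rw [Subgroup.lowerCentralSeries_zero]; exact Subgroup.mem_top b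
        rw [show H28.ALie.ι l (k + 1) ⁅a, b⁆ = ⁅H28.ALie.ι l k a, H28.ALie.ι l 0 b⁆ from
          (H28.ALie.lie_ι l ha hb).symm]
        exact H28.GLie.lie_mem_br (ih a ha) (AddSubgroup.mem_top _)
      · exact ⟨one_mem _, by rw [H28.ALie.ι_one]; exact zero_mem _⟩
      · rintro a b - - ⟨ha, iha⟩ ⟨hb, ihb⟩
        exact ⟨mul_mem ha hb, by rw [H28.ALie.ι_mul l ha hb]; exact add_mem iha ihb⟩
      · rintro a - ⟨ha, iha⟩
        exact ⟨inv_mem ha, by rw [H28.ALie.ι_inv l ha]; exact neg_mem iha⟩
  set N := (p * p ^ n) ^ (xi p + 1) with hN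
  have h0 := hmain _ (hC (xi p) z hz)
  have hz' : z ^ N ∈ H28.ALie.γ (G := G) (xi p) := pow_mem hz N
  have h1 : H28.ALie.ι l (xi p) (z ^ N) = 0 := by
    rw [← h0, H28.ALie.ι_of_mem l hz', H28.ALie.ι_of_mem l hz, ← map_nsmul, ← ofMul_pow]
    rfl
  rw [H28.ALie.ι_of_mem l hz', ← map_zero (DirectSum.lof (ZMod l) ℕ
    (fun k => H28.ALie.V (G := G) l k) (xi p))] at h1
  have h2 : H28.ALie.cls l (z ^ N) hz' = 1 :=
    congrArg Additive.toMul (DirectSum.of_injective (β := fun k => H28.ALie.V (G := G) l k) (xi p) h1)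
  exact hDk _ _ ((QuotientGroup.eq_one_iff _).1 h2)

/-! ### Bounding the derived length -/

/-- The number of derived steps across one stretch of constant factors. -/
def stretch (p n : ℕ) : ℕ :=
  (xi p + 2) * (2 * ((n + 1) * (xi p + 1)) + 1) + xi p + 4 * (xi p + 2)

theorem DS_stretch (hP : IsPGroup p P) (hG : Good p α Q) {n : ℕ} (hα : α ^ p = 1)
    (hn : FixLe p n α) {a b : ℕ} (hab : a ≤ b)
    (hinj : ∀ i, a ≤ i → i + 1 < b → ∀ x ∈ F p Q i, x ^ p ∈ F p Q (i + 1 + 1) → x ∈ F p Q (i + 1)) :
    DS (F p Q a) (stretch p n) ≤ F p Q b := by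
  set ξ := xi p with hξ
  set c := (n + 1) * (ξ + 1) with hc
  set m := (b - a) / (ξ + 2) with hm
  have hstretch : stretch p n = (ξ + 2) * (2 * c + 1) + ξ + 4 * (ξ + 2) := rfl
  have hGamR : ∀ k, Gam (F p Q a) k ≤ F p Q (a + k) := fun k =>
    (Gam_F_le hP hG a k).trans (F_antitone (by rw [add_mul, one_mul]; omega))
  have hdm : (ξ + 2) * m ≤ b - a := Nat.mul_div_le _ _
  have hlt : b - a < (ξ + 2) * (m + 1) := Nat.lt_mul_div_succ _ (by omega)
  rcases le_or_gt m (2 * c) with hsmall | hbig
  · refine (DS_le_Gam _ _).trans ((hGamR _).trans (F_antitone ?_))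
    have : (ξ + 2) * (m + 1) ≤ (ξ + 2) * (2 * c + 1) := Nat.mul_le_mul_left _ (by omega)
    rw [hstretch]
    omega
  have hdrop : Gam (F p Q a) ξ ≤ F p Q (a + m - c) := by
    intro z hz
    by_contra hzn
    classical
    obtain ⟨t, hta, htt, hzt, hzt1⟩ : ∃ t, a ≤ t ∧ t < a + m - c ∧ z ∈ F p Q t ∧
        z ∉ F p Q (t + 1) := by
      have hex : ∃ j, z ∉ F p Q (a + j) := ⟨m - c, by rwa [show a + (m - c) = a + m - c by omega]⟩
      have hj := Nat.find_spec hex
      have hj0 : Nat.find hex ≠ 0 := fun h => by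
        rw [h, add_zero] at hj; exact hj (Gam_le_self _ ξ hz)
      have hjm : Nat.find hex ≤ m - c :=
        Nat.find_min' hex (by rwa [show a + (m - c) = a + m - c by omega])
      obtain ⟨j, hj'⟩ := Nat.exists_eq_succ_of_ne_zero hj0
      refine ⟨a + j, by omega, by omega, ?_, ?_⟩
      · exact not_not.1 (Nat.find_min hex (by omega : j < Nat.find hex))
      · rwa [hj', Nat.succ_eq_add_one, ← add_assoc] at hj
    have hmul : (ξ + 2) * m = (ξ + 1) * m + m := by ring
    -- powers stay out of deeper terms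
    have hout : ∀ k, t + k < b → z ^ p ^ k ∈ F p Q (t + k) ∧ z ^ p ^ k ∉ F p Q (t + k + 1) := by
      intro k
      induction k with
      | zero => intro _; simpa using And.intro hzt hzt1
      | succ k ih =>
        intro hk
        obtain ⟨h1, h2⟩ := ih (by omega)
        rw [pow_succ, pow_mul]
        exact ⟨pow_mem_pw h1, fun h3 => h2 (hinj (t + k) (by omega) (by omega) _ h1 h3)⟩
    have hy : z ^ p ^ ((ξ + 1) * m) ∈ Gam (F p Q (a + m)) ξ := by
      rw [show F p Q (a + m) = pwI p m (F p Q a) by rw [F, F, ← pwI_add, add_comm],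
        Gam_pwI hP hG (F_le a) (pwI_normal hG.normal a) (pwI_inv hG.inv a) m ξ]
      exact pow_mem_pwI hz _
    set R := F p Q (a + m) with hR
    have hRi : Inv' α R := pwI_inv hG.inv _
    let β1 : R →* R := MonoidHom.mk' (fun x => ⟨α x, hRi x x.2⟩)
      (fun u v => Subtype.ext (map_mul α _ _))
    have hRbij : Function.Bijective β1 := by
      refine Finite.injective_iff_bijective.1 fun u v h => Subtype.ext (α.injective ?_)
      exact congrArg (fun w : R => (w : P)) h
    let β : MulAut R := MulEquiv.ofBijective β1 hRbij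
    have hβ : ∀ (i : ℕ) (x : R), (((β ^ i) x : R) : P) = (α ^ i) (x : P) := by
      intro i
      induction i with
      | zero => intro x; rfl
      | succ i ih =>
        intro x
        rw [pow_succ', pow_succ', MulAut.mul_apply, MulAut.mul_apply, ← ih]
        rfl
    have hβp : β ^ p = 1 := MulEquiv.ext fun x => Subtype.ext (by rw [hβ, hα]; rfl)
    have hβn : FixLe p n β := le_trans (Nat.card_le_card_of_injective
      (fun x => (⟨(x.1 : P), congrArg Subtype.val x.2⟩ : {x : P // α x = x}))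
      (fun u v h => Subtype.ext (Subtype.ext
        (congrArg (fun w : {x : P // α x = x} => (w : P)) h)))) hn
    rw [← map_lcs R ξ] at hy
    obtain ⟨y, hy, hye⟩ := hy
    have h1 := pow_mem_succ_lcs (hP.to_subgroup R) β hβp hβn hy
    have h2 : z ^ p ^ ((ξ + 1) * m + c) ∈ Gam R (ξ + 1) := by
      rw [← map_lcs R (ξ + 1)]
      refine ⟨_, h1, ?_⟩
      show R.subtype (y ^ (p * p ^ n) ^ (xi p + 1)) = _
      rw [map_pow, hye, ← pow_mul, show (p * p ^ n) ^ (xi p + 1) = p ^ c by
        rw [hc, hξ, pow_mul, ← pow_succ' p n]]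
      rw [← pow_add]
    have h3 : z ^ p ^ ((ξ + 1) * m + c) ∈ F p Q (t + ((ξ + 1) * m + c) + 1) := by
      refine F_antitone ?_ (Gam_F_le hP hG (a + m) (ξ + 1) h2)
      have h4 : (ξ + 1 + 1) * (a + m) = (ξ + 1) * a + a + ((ξ + 1) * m + m) := by ring
      omega
    exact (hout _ (by omega)).2 h3
  have h1 : DS (F p Q a) ξ ≤ F p Q (a + m - c) := (DS_le_Gam _ _).trans hdrop
  refine (DS_antitone _ (show ξ + 4 * (ξ + 2) ≤ stretch p n by omega)).trans ?_
  rw [DS_add]
  refine (DS_mono h1 _).trans ((DS_F_le hP hG _ _).trans (F_antitone ?_))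
  have h5 : 4 * (ξ + 2) * (a + m - c) ≤ 2 ^ (4 * (ξ + 2)) * (a + m - c) :=
    Nat.mul_le_mul_right _ (Nat.lt_two_pow_self).le
  have h6 : (ξ + 2) * (m + 1) ≤ (ξ + 2) * (4 * (m - c)) := Nat.mul_le_mul_left _ (by omega)
  have h7 : 4 * (ξ + 2) * (a + m - c) = 4 * (ξ + 2) * a + (ξ + 2) * (4 * (m - c)) := by
    rw [show a + m - c = a + (m - c) by omega]; ring
  have h8 : a ≤ 4 * (ξ + 2) * a := Nat.le_mul_of_pos_left a (by omega)
  omega

theorem eq_bot_of_le_pw (hP : IsPGroup p P) {L : Subgroup P} (h : L ≤ pw p L) : L = ⊥ :=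
  le_bot_iff.1 (le_of_le_sup_pw hP bot_le (h.trans le_sup_right))

/-- Derived length of a well-powered subgroup. -/
theorem DS_good_eq_bot (hP : IsPGroup p P) (hG : Good p α Q) {n : ℕ} (hα : α ^ p = 1)
    (hn : FixLe p n α) : DS Q (p ^ (p * n) * stretch p n) = ⊥ := by
  classical
  let d : ℕ → ℕ := fun i => (F p Q (i + 1)).relIndex (F p Q i)
  have hd1 : ∀ i, 1 ≤ d i := fun i => Nat.pos_of_ne_zero (Subgroup.index_ne_zero_of_finite)
  have hdle : ∀ i, d (i + 1) ≤ d i := fun i => (factor_step hP hG i).1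
  have hanti : ∀ a i, d (a + i) ≤ d a := by
    intro a i
    induction i with
    | zero => exact le_rfl
    | succ i ih => exact (hdle (a + i)).trans ih
  have hdb : ∀ i, d i ≤ p ^ (p * n) := fun i =>
    card_elementary_section hP hα hn (pw_le p _) (pwI_normal hG.normal (i + 1))
      (pwI_inv hG.inv (i + 1)) (pwI_inv hG.inv i) le_rfl
      ((commutator_F_le hP hG i i).1.trans (F_antitone (by omega)))
  -- the filtration reaches the identity
  have hbot : ∀ a, d a ≤ 1 → F p Q a = ⊥ := fun a ha => eq_bot_of_le_pw hP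
    (Subgroup.relIndex_eq_one.1 (le_antisymm ha (hd1 a)))
  have hstrict : ∀ a, ∃ b, a ≤ b ∧ (1 < d a → d b < d a) := by
    intro a
    by_contra hcon
    push Not at hcon
    obtain ⟨h1, h2⟩ := hcon a le_rfl
    have hprod : ∀ i, (2 : ℕ) ^ i ≤ (F p Q (a + i)).relIndex (F p Q a) := by
      intro i
      induction i with
      | zero => simp
      | succ i ih =>
        obtain ⟨h3, h4⟩ := hcon (a + i) (Nat.le_add_right a i)
        rw [← Subgroup.relIndex_mul_relIndex (F p Q (a + (i + 1))) (F p Q (a + i)) (F p Q a)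
          (F_antitone (by omega)) (F_antitone (Nat.le_add_right a i)), pow_succ']
        exact Nat.mul_le_mul (show 2 ≤ d (a + i) by omega) ih
    have h3 := (hprod (Nat.card P)).trans (Nat.le_of_dvd Nat.card_pos
      ((Subgroup.relIndex_dvd_card _ _).trans (Subgroup.card_subgroup_dvd_card _)))
    have h4 : Nat.card P < 2 ^ Nat.card P := Nat.lt_two_pow_self
    omega
  suffices ∀ k a, d a ≤ k + 1 → DS (F p Q a) (k * stretch p n) = ⊥ by
    exact this _ 0 ((hdb 0).trans (Nat.le_succ _))
  intro k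
  induction k with
  | zero => intro a ha; rw [zero_mul]; exact hbot a ha
  | succ k ih =>
    intro a ha
    rcases le_or_gt (d a) 1 with h1 | h1
    · exact le_bot_iff.1 ((DS_le_self _ _).trans (hbot a h1).le)
    have hex : ∃ b, a ≤ b ∧ d b < d a := by
      obtain ⟨b, hb1, hb2⟩ := hstrict a
      exact ⟨b, hb1, hb2 h1⟩
    obtain ⟨hab, hlt⟩ := Nat.find_spec hex
    set b := Nat.find hex with hb
    rw [show (k + 1) * stretch p n = stretch p n + k * stretch p n by ring, DS_add]
    refine le_bot_iff.1 ((DS_mono (DS_stretch hP hG hα hn hab ?_) _).trans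
      (ih b (by omega)).le)
    intro i hai hib
    refine (factor_step hP hG i).2 ?_
    have e : ∀ j, a ≤ j → j < b → d j = d a := fun j hj hjb => by
      have h3 := Nat.find_min hex hjb
      have h4 := hanti a (j - a)
      rw [Nat.add_sub_cancel' hj] at h4
      have h5 : ¬ d j < d a := fun h => h3 ⟨hj, h⟩
      omega
    exact (e (i + 1) (by omega) hib).trans (e i hai (by omega)).symm

/-- A term of the derived series is well-powered. -/
theorem exists_good (hP : IsPGroup p P) {n : ℕ} (hα : α ^ p = 1) (hn : FixLe p n α) :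
    Good p α (DS (⊤ : Subgroup P) (((p ^ (p * n)) ^ 2).factorial + 1)) := by
  classical
  haveI := hP.isNilpotent
  set D := ((p ^ (p * n)) ^ 2).factorial with hD
  set Q0 := DS (⊤ : Subgroup P) D with hQ0
  have hQn : Q0.Normal := DS_normal inferInstance D
  refine ⟨DS_normal inferInstance _, DS_top_inv α _, fun N hNQ hNn hNi => ?_⟩
  haveI := hNn
  haveI := hQn
  have hNQ0 : N ≤ Q0 := hNQ.trans (DS_antitone _ (Nat.le_succ D))
  set E := pw (qq p) N with hE
  haveI hEn : E.Normal := pw_normal hNn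
  haveI : (⁅N, N⁆).Normal := Subgroup.commutator_normal N N
  haveI hXn : (E ⊔ ⁅N, N⁆).Normal := Subgroup.sup_normal _ _
  -- the derived term acts trivially on the small abelian section
  have htriv : ⁅N, Q0⁆ ≤ E ⊔ ⁅N, N⁆ := by
    set X := E ⊔ ⁅N, N⁆ with hX
    have hXN : X ≤ N := sup_le (pw_le _ _) (commutator_le_self' N)
    obtain ⟨e, he2, he⟩ := qq_eq_pow (p := p)
    have hcard : X.relIndex N ≤ (p ^ (p * n)) ^ 2 := by
      refine (card_abelian_section hP hα hn hXN hXn hNn (hNi.pw.sup (hNi.commutator hNi)) hNi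
        le_sup_right e (he ▸ le_sup_left)).trans ?_
      exact Nat.pow_le_pow_right (Nat.pow_pos hp.out.pos) he2
    set π := QuotientGroup.mk' X with hπ
    set V := N.map π with hV
    have hVn : V.Normal := hNn.map π (QuotientGroup.mk'_surjective X)
    haveI := hVn
    let act : P →* Equiv.Perm V :=
      { toFun := fun g => (MulAut.conjNormal (H := V) (π g)).toEquiv
        map_one' := by rw [map_one, map_one]; rfl
        map_mul' := fun g h => by rw [map_mul, map_mul]; rfl }
    have hVcard : Nat.card V ≤ (p ^ (p * n)) ^ 2 := by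
      rw [hV, ← Subgroup.relIndex_ker, hπ, QuotientGroup.ker_mk']; exact hcard
    haveI : Group.IsNilpotent act.range := Group.nilpotent_of_surjective _ act.rangeRestrict_surjective
    have hsub : Q0 ≤ act.ker := by
      have hlen : derivedSeries act.range D = ⊥ := by
        have hfac : Nat.card act.range ≤ D := by
          refine (Nat.le_of_dvd Nat.card_pos (Subgroup.card_subgroup_dvd_card _)).trans ?_
          rw [Nat.card_perm, hD]
          exact Nat.factorial_le hVcard
        have hdec : ∀ i, derivedSeries act.range i = ⊥ ∨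
            Nat.card (derivedSeries act.range i) + i ≤ Nat.card act.range := by
          intro i
          induction i with
          | zero => right; rw [derivedSeries_zero, Subgroup.card_top, add_zero]
          | succ i ih =>
            rcases ih with h | h
            · left; rw [derivedSeries_succ, h, Subgroup.commutator_bot_left]
            by_cases hb : derivedSeries act.range i = ⊥
            · left; rw [derivedSeries_succ, hb, Subgroup.commutator_bot_left]
            right
            have hlt : derivedSeries act.range (i + 1) < derivedSeries act.range i := by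
              refine lt_of_le_of_ne (derivedSeries_antitone _ (Nat.le_succ i)) fun h' => hb ?_
              obtain ⟨m, hm⟩ := Group.IsSolvable.solvable (G := act.range)
              have hall : ∀ j, derivedSeries act.range (i + j) = derivedSeries act.range i := by
                intro j
                induction j with
                | zero => rfl
                | succ j ihj => rw [← add_assoc, derivedSeries_succ, ihj, ← derivedSeries_succ, h']
              rw [← hall m]
              exact le_bot_iff.1 (hm ▸ derivedSeries_antitone _ (Nat.le_add_left m i))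
            have := Set.Finite.card_lt_card (Set.toFinite _) (SetLike.coe_ssubset_coe.2 hlt)
            change Nat.card (derivedSeries act.range (i + 1)) < Nat.card (derivedSeries act.range i) at this
            omega
        rcases hdec D with h | h
        · exact h
        · have : 0 < Nat.card (derivedSeries act.range D) := Nat.card_pos
          omega
      intro g hg
      rw [← MonoidHom.ker_rangeRestrict, MonoidHom.mem_ker]
      rw [hQ0, ← derivedSeries_eq_DS] at hg
      exact Subgroup.mem_bot.1 (hlen ▸ map_derivedSeries_le_derivedSeries act.rangeRestrict D ⟨g, hg, rfl⟩)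
    refine Subgroup.commutator_le.2 fun x hx g hg => ?_
    have h1 : π g * π x * (π g)⁻¹ = π x :=
      congrArg (fun σ : Equiv.Perm V => ((σ ⟨π x, x, hx, rfl⟩ : V) : P ⧸ X))
        (MonoidHom.mem_ker.1 (hsub hg))
    refine (QuotientGroup.eq_one_iff _).1 (show π ⁅x, g⁆ = 1 from ?_)
    rw [map_commutatorElement, commutatorElement_eq_one_iff_mul_comm]
    exact (mul_inv_eq_iff_eq_mul.1 h1).symm
  -- one more derived step
  set M := E ⊔ ⁅⁅N, N⁆, Q0⁆ with hM
  haveI : (⁅⁅N, N⁆, Q0⁆).Normal := Subgroup.commutator_normal _ _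
  haveI : M.Normal := Subgroup.sup_normal _ _
  have hsupc : ⁅E ⊔ ⁅N, N⁆, Q0⁆ ≤ M := by
    refine Subgroup.commutator_le.2 fun x hx g hg => ?_
    set π := QuotientGroup.mk' M with hπ
    refine (QuotientGroup.eq_one_iff _).1 (show π ⁅x, g⁆ = 1 from ?_)
    rw [map_commutatorElement, commutatorElement_eq_one_iff_commute]
    rw [← Subgroup.closure_eq E, ← Subgroup.closure_eq ⁅N, N⁆, ← Subgroup.closure_union] at hx
    induction hx using Subgroup.closure_induction with
    | mem y hy =>
      rcases hy with hy | hy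
      · rw [show π y = 1 from (QuotientGroup.eq_one_iff _).2 (Subgroup.mem_sup_left hy)]
        exact Commute.one_left _
      · exact commute_mk_of_commutator_mem
          (Subgroup.mem_sup_right (Subgroup.commutator_mem_commutator hy hg))
    | one => rw [map_one]; exact Commute.one_left _
    | mul a b _ _ ha hb => rw [map_mul]; exact ha.mul_left hb
    | inv a _ ha => rw [map_inv]; exact ha.inv_left
  have h3sub : ⁅N, ⁅Q0, Q0⁆⁆ ≤ M := by
    have hstep : ⁅⁅N, Q0⁆, Q0⁆ ≤ M :=
      (Subgroup.commutator_mono htriv le_rfl).trans hsupc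
    have hstep' : ⁅⁅Q0, N⁆, Q0⁆ ≤ M := by rwa [Subgroup.commutator_comm Q0 N]
    rw [Subgroup.commutator_comm]
    refine (Subgroup.map_eq_bot_iff (f := QuotientGroup.mk' M) _).1 ?_ |>.trans
      (QuotientGroup.ker_mk' M).le
    rw [Subgroup.map_commutator, Subgroup.map_commutator]
    have e1 : ⁅⁅Q0.map (QuotientGroup.mk' M), N.map (QuotientGroup.mk' M)⁆, Q0.map (QuotientGroup.mk' M)⁆ = ⊥ := by
      rw [← Subgroup.map_commutator, ← Subgroup.map_commutator, Subgroup.map_eq_bot_iff,
        QuotientGroup.ker_mk']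
      exact hstep'
    have e2 : ⁅⁅N.map (QuotientGroup.mk' M), Q0.map (QuotientGroup.mk' M)⁆, Q0.map (QuotientGroup.mk' M)⁆ = ⊥ := by
      rw [← Subgroup.map_commutator, ← Subgroup.map_commutator, Subgroup.map_eq_bot_iff,
        QuotientGroup.ker_mk']
      exact hstep
    exact Subgroup.commutator_commutator_eq_bot_of_rotate e1 e2
  have hQeq : DS (⊤ : Subgroup P) (D + 1) = ⁅Q0, Q0⁆ := rfl
  have hNNM : ⁅N, N⁆ ≤ M := (Subgroup.commutator_mono le_rfl (hNQ.trans hQeq.le)).trans h3sub
  have hNNE : ⁅N, N⁆ ≤ E := by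
    -- iterate into the lower central series
    have hiter : ∀ i, ⁅N, N⁆ ≤ E ⊔ (⊤ : Subgroup P).lowerCentralSeries i := by
      intro i
      induction i with
      | zero => rw [Subgroup.lowerCentralSeries_zero, sup_top_eq]; exact le_top
      | succ i ih =>
        haveI : (E ⊔ (⊤ : Subgroup P).lowerCentralSeries (i + 1)).Normal := Subgroup.sup_normal _ _
        refine hNNM.trans (sup_le le_sup_left ?_)
        refine Subgroup.commutator_le.2 fun x hx g _ => ?_
        set π := QuotientGroup.mk' (E ⊔ (⊤ : Subgroup P).lowerCentralSeries (i + 1))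
        refine (QuotientGroup.eq_one_iff _).1 (show π ⁅x, g⁆ = 1 from ?_)
        rw [map_commutatorElement, commutatorElement_eq_one_iff_commute]
        have hx' := ih hx
        rw [← Subgroup.closure_eq E, ← Subgroup.closure_eq ((⊤ : Subgroup P).lowerCentralSeries i),
          ← Subgroup.closure_union] at hx'
        clear hx
        induction hx' using Subgroup.closure_induction with
        | mem y hy =>
          rcases hy with hy | hy
          · rw [show π y = 1 from (QuotientGroup.eq_one_iff _).2 (Subgroup.mem_sup_left hy)]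
            exact Commute.one_left _
          · refine commute_mk_of_commutator_mem (Subgroup.mem_sup_right ?_)
            rw [(⊤ : Subgroup P).lowerCentralSeries_succ]
            exact Subgroup.commutator_mem_commutator hy (Subgroup.mem_top g)
        | one => rw [map_one]; exact Commute.one_left _
        | mul a b _ _ ha hb => rw [map_mul]; exact ha.mul_left hb
        | inv a _ ha => rw [map_inv]; exact ha.inv_left
    obtain ⟨m, hm⟩ := Subgroup.nilpotent_iff_lowerCentralSeries.mp ‹Group.IsNilpotent P›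
    exact (hiter m).trans (by rw [hm, sup_bot_eq])
  refine le_trans (Subgroup.commutator_mono le_rfl hQeq.le) (h3sub.trans (sup_le le_rfl ?_))
  refine Subgroup.commutator_le.2 fun x hx g _ => ?_
  rw [commutatorElement_def, mul_assoc, mul_assoc, ← mul_assoc g]
  exact mul_mem (hNNE hx) (hEn.conj_mem _ (inv_mem (hNNE hx)) g)

/-- **Alperin.** The derived length of a finite `p`-group with an automorphism of order dividing
`p` with at most `p^n` fixed points is bounded in terms of `p` and `n`. -/
theorem derivedSeries_pgroup_eq_bot (hP : IsPGroup p P) {n : ℕ} (hα : α ^ p = 1)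
    (hn : FixLe p n α) :
    derivedSeries P (((p ^ (p * n)) ^ 2).factorial + 1 + p ^ (p * n) * stretch p n) = ⊥ := by
  rw [derivedSeries_eq_DS, DS_add]
  exact DS_good_eq_bot hP (exists_good hP hα hn) hα hn

end H73.Alp
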