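import Cfsg.Agent.H73.AlperinPGroup
import Cfsg.Agent.H10.PSolvable
import Cfsg.Agent.H10.StableNormal
import Cfsg.Agent.H1.Cores
import Cfsg.Agent.S3779

/-!
Alperin's theorem for solvable groups: an automorphism of prime order `p` with `p^n` fixed
points bounds the derived length. The `p'`-core is handled by the fixed-point-free bound, the
`p`-core of the quotient by the `p`-group case, and the rest acts faithfully on a small section.
-/

set_option autoImplicit false
set_option linter.style.haveILetI false
set_option linter.unusedSectionVars false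

open Cfsg

namespace H73.Alp

universe u

variable {G : Type u} [Group G]

/-- Derived length is subadditive along a subgroup. -/
theorem derivedSeries_add_eq_bot (N : Subgroup G) {a b : ℕ} (h1 : derivedSeries G a ≤ N)
    (h2 : derivedSeries N b = ⊥) : derivedSeries G (a + b) = ⊥ := by
  have h : ∀ i, derivedSeries G (a + i) ≤ (derivedSeries N i).map N.subtype := by
    intro i
    induction i with
    | zero => rwa [derivedSeries_zero, ← MonoidHom.range_eq_map, Subgroup.range_subtype]
    | succ i ih =>
      rw [← add_assoc, derivedSeries_succ, derivedSeries_succ, Subgroup.map_commutator]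
      exact Subgroup.commutator_mono ih ih
  have h' := h b
  rw [h2, Subgroup.map_bot] at h'
  exact le_bot_iff.1 h'

/-- A finite solvable group has derived length at most its order. -/
theorem derivedSeries_card_eq_bot {X : Type*} [Group X] [Finite X] [Group.IsSolvable X] {D : ℕ}
    (hD : Nat.card X ≤ D) : derivedSeries X D = ⊥ := by
  have hdec : ∀ i, derivedSeries X i = ⊥ ∨ Nat.card (derivedSeries X i) + i ≤ Nat.card X := by
    intro i
    induction i with
    | zero => right; rw [derivedSeries_zero, Subgroup.card_top, add_zero]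
    | succ i ih =>
      by_cases hb : derivedSeries X i = ⊥
      · left; rw [derivedSeries_succ, hb, Subgroup.commutator_bot_left]
      rcases ih with h | h
      · exact absurd h hb
      right
      have hlt : derivedSeries X (i + 1) < derivedSeries X i := by
        refine lt_of_le_of_ne (derivedSeries_antitone _ (Nat.le_succ i)) fun h' => hb ?_
        obtain ⟨m, hm⟩ := Group.IsSolvable.solvable (G := X)
        have hall : ∀ j, derivedSeries X (i + j) = derivedSeries X i := by
          intro j
          induction j with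
          | zero => rfl
          | succ j ihj => rw [← add_assoc, derivedSeries_succ, ihj, ← derivedSeries_succ, h']
        rw [← hall m]
        exact le_bot_iff.1 (hm ▸ derivedSeries_antitone _ (Nat.le_add_left m i))
      have := Set.Finite.card_lt_card (Set.toFinite _) (SetLike.coe_ssubset_coe.2 hlt)
      change Nat.card (derivedSeries X (i + 1)) < Nat.card (derivedSeries X i) at this
      omega
  rcases hdec D with h | h
  · exact h
  · have : 0 < Nat.card (derivedSeries X D) := Nat.card_pos
    omega

/-- The Higman-Kreknin-Kostrikin class bound, as a derived length bound. -/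
def fpfLen (p : ℕ) : ℕ := Finset.sum (Finset.range (2 ^ (p - 1) - 1)) (fun i => (p - 1) ^ i)

/-- The bound on the derived length of a `p`-group. -/
def pGroupLen (p n : ℕ) : ℕ :=
  ((p ^ (p * n)) ^ 2).factorial + 1 + p ^ (p * n) * stretch p n

/-- The derived length bound. -/
def alperinLen (p n : ℕ) : ℕ := ((p ^ (p * n)).factorial + pGroupLen p n) + fpfLen p

/-- The restriction of an automorphism to an invariant subgroup. -/
theorem exists_restrict [Finite G] (α : MulAut G) {N : Subgroup G} (hN : Inv' α N) :
    ∃ β : MulAut N, ∀ (i : ℕ) (x : N), (((β ^ i) x : N) : G) = (α ^ i) (x : G) := by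
  let β1 : N →* N := MonoidHom.mk' (fun x => ⟨α x, hN x x.2⟩)
    (fun u v => Subtype.ext (map_mul α _ _))
  have hbij : Function.Bijective β1 :=
    Finite.injective_iff_bijective.1 fun u v h =>
      Subtype.ext (α.injective (congrArg (fun w : N => (w : G)) h))
  refine ⟨MulEquiv.ofBijective β1 hbij, fun i => ?_⟩
  induction i with
  | zero => intro x; rfl
  | succ i ih =>
    intro x
    rw [pow_succ', pow_succ', MulAut.mul_apply, MulAut.mul_apply, ← ih]
    rfl

theorem inv'_of_characteristic (α : MulAut G) {N : Subgroup G} (h : N.Characteristic) :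
    Inv' α N := by
  intro x hx
  have h1 := Subgroup.characteristic_iff_comap_eq.1 h α
  rw [← h1] at hx
  exact hx

variable [Finite G] {p : ℕ} [hp : Fact p.Prime] {n : ℕ} {α : MulAut G}

/-- The fixed-point-free part. -/
theorem derivedSeries_pPrime_eq_bot (hα : α ^ p = 1)
    (hn : Nat.card {g : G // α g = g} = p ^ n) {N : Subgroup G} (hN : Inv' α N)
    (hcop : (Nat.card N).Coprime p) : derivedSeries N (fpfLen p) = ⊥ := by
  obtain ⟨β, hβ⟩ := exists_restrict α hN
  have hβ1 : ∀ x : N, ((β x : N) : G) = α x := fun x => by simpa using hβ 1 x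
  have hβp : β ^ p = 1 := MulEquiv.ext fun x => Subtype.ext (by rw [hβ, hα]; rfl)
  let F : Subgroup G :=
    { carrier := {g | α g = g}
      one_mem' := map_one α
      mul_mem' := fun {a b} ha hb => by
        show α (a * b) = a * b
        rw [map_mul, show α a = a from ha, show α b = b from hb]
      inv_mem' := fun {a} ha => by
        show α a⁻¹ = a⁻¹
        rw [map_inv, show α a = a from ha] }
  have hFcard : Nat.card F = p ^ n := hn
  have hfpf : ∀ x : N, β x = x → x = 1 := by
    intro x hx
    have hxF : (x : G) ∈ F := by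
      show α (x : G) = x
      rw [← hβ1, hx]
    have h1 : orderOf (x : G) ∣ p ^ n := hFcard ▸ Subgroup.orderOf_dvd_natCard F hxF
    have h2 : orderOf (x : G) ∣ Nat.card N := Subgroup.orderOf_dvd_natCard N x.2
    have h3 : orderOf (x : G) = 1 :=
      Nat.eq_one_of_dvd_coprimes (hcop.pow_right n) h2 h1
    exact Subtype.ext (orderOf_eq_one_iff.1 h3)
  refine le_bot_iff.1 ((Subgroup.derived_le_lower_central (fpfLen p)).trans ?_)
  by_cases hb : β = 1
  · intro x _
    exact Subgroup.mem_bot.2 (hfpf x (by rw [hb]; rfl))
  · exact ((Cfsg.Agent.S3779.result hp.out β (orderOf_eq_prime hβp hb) hfpf).2.2).le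

/-- The `p`-core and what acts on its Frattini quotient, when the `p`-core is self-centralizing. -/
theorem derivedSeries_constrained_eq_bot [Group.IsSolvable G] (hα : α ^ p = 1)
    (hn : Nat.card {g : G // α g = g} ≤ p ^ n)
    (hc : Subgroup.centralizer (pCore p G : Set G) ≤ pCore p G) :
    derivedSeries G ((p ^ (p * n)).factorial + pGroupLen p n) = ⊥ := by
  set Q := pCore p G with hQ
  have hQi : Inv' α Q := inv'_of_characteristic α (H1.pCore_characteristic p G)
  obtain ⟨β, hβ⟩ := exists_restrict α hQi
  have hQp : IsPGroup p Q := H1.isPGroup_pCore p G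
  have hβ1 : ∀ x, ((β x : Q) : G) = α x := fun x => by simpa using hβ 1 x
  have hβp : β ^ p = 1 := MulEquiv.ext fun x => Subtype.ext (by rw [hβ, hα]; rfl)
  have hβn : FixLe p n β := le_trans (Nat.card_le_card_of_injective
    (fun x => (⟨(x.1 : G), (hβ1 x.1).symm.trans (congrArg Subtype.val x.2)⟩ : {g : G // α g = g}))
    (fun u v h => Subtype.ext (Subtype.ext
      (congrArg (fun w : {g : G // α g = g} => (w : G)) h)))) hn
  refine derivedSeries_add_eq_bot Q ?_ (derivedSeries_pgroup_eq_bot hQp hβp hβn)
  haveI hQn : Q.Normal := H1.pCore_normal' p G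
  set Φ := (frattini Q).map Q.subtype with hΦ
  haveI : Φ.Normal := H10.map_frattini_subtype_normal hQn
  set π := QuotientGroup.mk' Φ with hπ
  set V := Q.map π with hV
  haveI hVn : V.Normal := hQn.map π (QuotientGroup.mk'_surjective Φ)
  have hVcard : Nat.card V ≤ p ^ (p * n) := by
    have h1 : Nat.card V = (frattini Q).index := by
      rw [hV, ← Subgroup.relIndex_ker, hπ, QuotientGroup.ker_mk', Subgroup.relIndex, hΦ,
        Subgroup.subgroupOf, Subgroup.comap_map_eq_self_of_injective Q.subtype_injective]
    rw [h1, ← Subgroup.relIndex_top_right]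
    refine card_elementary_section hQp hβp hβn le_top inferInstance
      (inv'_of_characteristic β inferInstance) (fun x _ => Subgroup.mem_top _)
      (pw_le_iff.2 fun x _ => H6.pow_prime_mem_frattini hQp x) ?_
    exact (le_of_eq (commutator_def Q).symm).trans (H6.commutator_le_frattini hQp)
  let act : G →* Equiv.Perm V :=
    { toFun := fun g => (MulAut.conjNormal (H := V) (π g)).toEquiv
      map_one' := by rw [map_one, map_one]; rfl
      map_mul' := fun g h => by rw [map_mul, map_mul]; rfl }
  have hker : act.ker ≤ Q := by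
    haveI : (sectionKernel Q Φ).Normal := Subgroup.Normal.comap inferInstance _
    refine le_trans (fun g hg => ?_) (H1.le_pCore (H10.isPGroup_sectionKernel_frattini hc))
    · refine Subgroup.mem_comap.2 (Subgroup.mem_centralizer_iff.2 fun v hv => ?_)
      have h1 : π g * v * (π g)⁻¹ = v :=
        congrArg (fun σ : Equiv.Perm V => ((σ ⟨v, hv⟩ : V) : G ⧸ Φ)) (MonoidHom.mem_ker.1 hg)
      exact (mul_inv_eq_iff_eq_mul.1 h1).symm
  haveI : Group.IsSolvable act.range :=
    Group.isSolvable_of_surjective act.rangeRestrict_surjective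
  have hlen : derivedSeries act.range (p ^ (p * n)).factorial = ⊥ := by
    refine derivedSeries_card_eq_bot ((Nat.le_of_dvd Nat.card_pos
      (Subgroup.card_subgroup_dvd_card _)).trans ?_)
    rw [Nat.card_perm]
    exact Nat.factorial_le hVcard
  intro g hg
  refine hker ?_
  rw [← MonoidHom.ker_rangeRestrict, MonoidHom.mem_ker]
  exact Subgroup.mem_bot.1
    (hlen ▸ map_derivedSeries_le_derivedSeries act.rangeRestrict _ ⟨g, hg, rfl⟩)

/-- Alperin's theorem. -/
theorem derivedSeries_eq_bot [Group.IsSolvable G] (hα : α ^ p = 1)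
    (hn : Nat.card {g : G // α g = g} = p ^ n) : derivedSeries G (alperinLen p n) = ⊥ := by
  haveI hNn : (pPrimeCore p G).Normal := H1.pPrimeCore_normal' p G
  set N := pPrimeCore p G with hN
  have hNi : Inv' α N := inv'_of_characteristic α (H1.pPrimeCore_characteristic p G)
  refine derivedSeries_add_eq_bot N ?_
    (derivedSeries_pPrime_eq_bot hα hn hNi (H1.card_pPrimeCore_coprime p G))
  let αb : MulAut (G ⧸ N) := QuotientGroup.congr N N α (le_antisymm
    (Subgroup.map_le_iff_le_comap.2 hNi) (fun x hx => ⟨α.symm x,
      inv'_of_characteristic α.symm (H1.pPrimeCore_characteristic p G) x hx, by simp⟩))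
  have hαb : ∀ (i : ℕ) (x : G), (αb ^ i) (x : G ⧸ N) = (((α ^ i) x : G) : G ⧸ N) := by
    intro i
    induction i with
    | zero => intro x; rfl
    | succ i ih =>
      intro x
      rw [pow_succ', pow_succ', MulAut.mul_apply, MulAut.mul_apply, ih]
      rfl
  have hαbp : αb ^ p = 1 := MulEquiv.ext fun y => by
    obtain ⟨x, rfl⟩ := QuotientGroup.mk_surjective y
    rw [hαb, hα]; rfl
  let π := QuotientGroup.mk' N
  let Fb : Subgroup (G ⧸ N) :=
    { carrier := {g | αb g = g}
      one_mem' := map_one αb
      mul_mem' := fun {a b} ha hb => by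
        show αb (a * b) = a * b
        rw [map_mul, show αb a = a from ha, show αb b = b from hb]
      inv_mem' := fun {a} ha => by
        show αb a⁻¹ = a⁻¹
        rw [map_inv, show αb a = a from ha] }
  have hfix : Nat.card {g : G ⧸ N // αb g = g} ≤ p ^ n := by
    have hS : ∀ x, x ∈ Fb.comap π ↔ x ∈ (⊤ : Subgroup G) ∧ x⁻¹ * α x ∈ N := by
      intro x
      have h1 : x ∈ Fb.comap π ↔ ((α x : G) : G ⧸ N) = (x : G ⧸ N) := Iff.rfl
      rw [h1, eq_comm, QuotientGroup.eq]
      exact ⟨fun h => ⟨Subgroup.mem_top _, h⟩, fun h => h.2⟩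
    have h2 := card_fixed_section (le_top : N ≤ ⊤) (Fb.comap π) hS hNi
    rw [hn] at h2
    refine le_trans (le_of_eq ?_) h2
    show Nat.card Fb = _
    have h4 : (QuotientGroup.mk' N).ker.relIndex (Fb.comap π) =
        Nat.card ((Fb.comap π).map (QuotientGroup.mk' N)) := by rw [Subgroup.relIndex_ker]
    rw [QuotientGroup.ker_mk',
      Subgroup.map_comap_eq_self_of_surjective (QuotientGroup.mk'_surjective N)] at h4
    exact h4.symm
  have hc : Subgroup.centralizer (pCore p (G ⧸ N) : Set (G ⧸ N)) ≤ pCore p (G ⧸ N) :=
    H10.centralizer_pCore_le H10.isPSolvable_of_isSolvable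
      (H1.pPrimeCore_quotient_pPrimeCore p)
  have h3 := derivedSeries_constrained_eq_bot hαbp hfix hc
  intro g hg
  refine (QuotientGroup.eq_one_iff g).1 (Subgroup.mem_bot.1 ?_)
  rw [← h3]
  exact map_derivedSeries_le_derivedSeries π _ ⟨g, hg, rfl⟩

end H73.Alp
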