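import Cfsg.Agent.H73.Control

/-!
Local-to-global for a functor containing the centre together with a central functor (helper73).
-/

set_option autoImplicit false

namespace H73

open Subgroup
open scoped commutatorElement

variable {G : Type*} [Group G] [Finite G] {p : ℕ} [Fact p.Prime]

/-- Every conjugate of `R` inside `S` contains its centralizer in `S`. -/
def CentricIn (S R : Subgroup G) : Prop :=
  ∀ g : G, cj g R ≤ S → S ⊓ Subgroup.centralizer ((cj g R : Subgroup G) : Set G) ≤ cj g R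

omit [Finite G] in
theorem CentricIn.mono {S R R' : Subgroup G} (h : CentricIn S R) (hle : R ≤ R') : CentricIn S R' :=
  fun g hg => ((inf_le_inf le_rfl (Subgroup.centralizer_le (cj_mono hle : cj g R ≤ cj g R'))).trans
    (h g ((cj_mono hle).trans hg))).trans (cj_mono hle)

omit [Finite G] in
theorem CentricIn.cj {S R : Subgroup G} (h : CentricIn S R) (k : G) : CentricIn S (H73.cj k R) :=
  fun g hg => by
    rw [cj_cj] at hg ⊢
    exact h _ hg

omit [Finite G] in
theorem CentricIn.center_le {S R : Subgroup G} (h : CentricIn S R) (hR : R ≤ S) :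
    S ⊓ Subgroup.centralizer (S : Set G) ≤ R := by
  have h1 := h 1 (by rwa [cj_one])
  rw [cj_one] at h1
  exact (inf_le_inf le_rfl (Subgroup.centralizer_le hR)).trans h1

theorem sylIn_centralizer {S U : Subgroup G} (hS : IsPGroup p S)
    (hU : SylIn p (S ⊓ Subgroup.normalizer (U : Set G)) (Subgroup.normalizer (U : Set G))) :
    SylIn p (S ⊓ Subgroup.centralizer (U : Set G)) (Subgroup.centralizer (U : Set G)) := by
  obtain ⟨T, hT, hle⟩ := exists_sylIn_ge (p := p)
    (hS.to_le (inf_le_left (b := Subgroup.centralizer (U : Set G)))) (inf_le_right (a := S))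
  obtain ⟨y, hy, hy'⟩ := hU.exists_conj_le hT.isPGroup
    (hT.le.trans (Subgroup.centralizer_le_normalizer _))
  have h1 : cj y T ≤ S ⊓ Subgroup.centralizer (U : Set G) := le_inf (hy'.trans inf_le_left) (by
    refine (cj_mono hT.le).trans_eq ?_
    rw [cj_centralizer, mem_normalizer_iff_cj.mp hy])
  have h2 : S ⊓ Subgroup.centralizer (U : Set G) = T :=
    Subgroup.eq_of_le_of_card_ge hle (by
      rw [← card_cj y T]
      exact Subgroup.card_le_of_le h1)
  rwa [h2]

/-- A centric extremal subgroup is centric in all its conjugates. -/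
theorem centricIn_of_extremal {S U : Subgroup G} (hS : IsPGroup p S)
    (hU : SylIn p (S ⊓ Subgroup.normalizer (U : Set G)) (Subgroup.normalizer (U : Set G)))
    (hc : S ⊓ Subgroup.centralizer (U : Set G) ≤ U) : CentricIn S U := by
  intro g hg
  have hC := sylIn_centralizer hS hU
  set D := cj g⁻¹ (S ⊓ Subgroup.centralizer ((cj g U : Subgroup G) : Set G)) with hD
  have hDp : IsPGroup p D := (hS.to_le inf_le_left).map _
  have hDC : D ≤ Subgroup.centralizer (U : Set G) := by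
    refine (cj_mono inf_le_right).trans_eq ?_
    rw [cj_centralizer, cj_inv_cj]
  obtain ⟨x, hx, hx'⟩ := hC.exists_conj_le hDp hDC
  have hxU : cj x U = U := mem_normalizer_iff_cj.mp (Subgroup.centralizer_le_normalizer _ hx)
  have hDU : D ≤ U := by
    have h1 : cj x D ≤ cj x U := hxU.symm ▸ hx'.trans hc
    intro d hd
    exact conj_mem_cj.mp (h1 (conj_mem_cj.mpr hd))
  have h2 : H73.cj g D ≤ H73.cj g U := cj_mono hDU
  rwa [hD, cj_cj_inv] at h2

/-- Alperin's induction over centric subgroups. -/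
theorem fusion_of_centric {S : Subgroup G} (hS : IsPGroup p S) {Φ : Set G → G → Prop}
    (hΦ : FusClosed Φ) (𝓔 : Subgroup G → Prop)
    (hext : ∀ U, 𝓔 U → U ≤ S ∧
      SylIn p (S ⊓ Subgroup.normalizer (U : Set G)) (Subgroup.normalizer (U : Set G)))
    (hconj : ∀ V, V ≤ S → ∃ h : G, 𝓔 (cj h V) ∧ cj h (S ⊓ Subgroup.normalizer (V : Set G)) ≤ S)
    (hstep : ∀ U, 𝓔 U → U ≠ ⊥ → CentricIn S U →
      (∀ (B : Subgroup G) (g : G), B ≤ S → cj g B ≤ S → Nat.card U < Nat.card B → Φ B g) →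
      ∀ x ∈ Subgroup.normalizer (U : Set G), Φ U x)
    (A : Set G) (g : G) (hA : A ⊆ S) (hgA : cset g A ⊆ S) : Φ A g := by
  refine fusion_of_local hS hΦ.toFusBasic (fun _ g => hΦ.congr _ 1 g (by simp) (hΦ.one _)) 𝓔 hext hconj
    (fun U hU hU0 IH x hx => ?_) A g hA hgA
  by_cases hc : S ⊓ Subgroup.centralizer (U : Set G) ≤ U
  · exact hstep U hU hU0 (centricIn_of_extremal hS (hext U hU).2 hc) IH x hx
  set C := Subgroup.centralizer (U : Set G) with hC
  set T := S ⊓ C with hT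
  have hTsyl : SylIn p T C := sylIn_centralizer hS (hext U hU).2
  have hxC : cj x C = C := by rw [hC, cj_centralizer, mem_normalizer_iff_cj.mp hx]
  have h1 := hTsyl.cj x
  rw [hxC] at h1
  obtain ⟨c, hc', hcT⟩ := h1.exists_conj hTsyl
  set D := U ⊔ T with hD
  have hDS : D ≤ S := sup_le (hext U hU).1 inf_le_left
  have hlt : Nat.card U < Nat.card D :=
    lt_of_le_of_ne (Subgroup.card_le_of_le le_sup_left) fun e =>
      hc (le_sup_right.trans (Subgroup.eq_of_le_of_card_ge le_sup_left e.ge).ge)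
  have hDn : cj (c * x) D = D := by
    rw [hD, cj_sup, ← cj_cj, mem_normalizer_iff_cj.mp hx,
      mem_normalizer_iff_cj.mp (Subgroup.centralizer_le_normalizer _ hc'), ← cj_cj, hcT]
  refine hΦ.congr _ (c * x) x (fun a ha => ?_) (hΦ.mono _ _ _ (le_sup_left : U ≤ D) (IH D (c * x) hDS (hDn.le.trans hDS) hlt))
  have hxa : x * a * x⁻¹ ∈ U := (Subgroup.mem_normalizer_iff.mp hx a).mp ha
  calc c * x * a * (c * x)⁻¹ = c * (x * a * x⁻¹) * c⁻¹ := by group
    _ = x * a * x⁻¹ * c * c⁻¹ := by rw [Subgroup.mem_centralizer_iff.mp hc' _ hxa]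
    _ = x * a * x⁻¹ := by group

/-- Local-to-global for a functor containing the centres: only the normalizers of subgroups containing
the centre of `S` are used. -/
theorem fusion_of_center_functor {S : Subgroup G} (hS : IsPGroup p S) {Φ : Set G → G → Prop}
    (hΦ : FusClosed Φ) (𝓔 : Subgroup G → Prop)
    (hext : ∀ U, 𝓔 U → U ≤ S ∧
      SylIn p (S ⊓ Subgroup.normalizer (U : Set G)) (Subgroup.normalizer (U : Set G)))
    (hconj : ∀ V, V ≤ S → ∃ h : G, 𝓔 (cj h V) ∧ cj h (S ⊓ Subgroup.normalizer (V : Set G)) ≤ S)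
    {W : Subgroup G → Subgroup G} (hW : Cfsg.IsConjugacyFunctor p W)
    (hWZ : ∀ H : Subgroup G, IsPGroup p H → H ⊓ Subgroup.centralizer (H : Set G) ≤ W H)
    (hloc : ∀ U R : Subgroup G, 𝓔 U → U ≠ ⊥ → S ⊓ Subgroup.centralizer (S : Set G) ≤ U →
      R = S ⊓ Subgroup.normalizer (U : Set G) →
      (∀ y ∈ Subgroup.normalizer (U : Set G) ⊓ Subgroup.normalizer ((W R : Subgroup G) : Set G),
        ∀ A : Set G, A ⊆ R → cset y A ⊆ R → Φ A y) →
      ∀ x ∈ Subgroup.normalizer (U : Set G), ∀ A : Set G, A ⊆ R → cset x A ⊆ R → Φ A x)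
    (hbase : ∀ y ∈ Subgroup.normalizer ((W S : Subgroup G) : Set G),
      ∀ A : Set G, A ⊆ S → cset y A ⊆ S → Φ A y)
    (A : Set G) (g : G) (hA : A ⊆ S) (hgA : cset g A ⊆ S) : Φ A g := by
  refine fusion_of_centric hS hΦ 𝓔 hext hconj (fun U hU hU0 hUc IH x hx => ?_) A g hA hgA
  have sec : ∀ n, ∀ V R : Subgroup G, 𝓔 V → V ≠ ⊥ → S ⊓ Subgroup.centralizer (S : Set G) ≤ V →
      CentricIn S R → R = S ⊓ Subgroup.normalizer (V : Set G) →
      (Nat.card U < Nat.card R ∨ R = S) → Nat.card S - Nat.card R = n →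
      ∀ x ∈ Subgroup.normalizer (V : Set G), ∀ A : Set G, A ⊆ R → cset x A ⊆ R → Φ A x := by
    intro n
    induction n using Nat.strong_induction_on with
    | _ n ih =>
    intro V R hV hV0 hVZ hRc hR hsz hn x hx A hA hxA
    refine hloc V R hV hV0 hVZ hR (fun y hy B hB hyB => ?_) x hx A hA hxA
    have hRS : R ≤ S := hR.trans_le inf_le_left
    have hRp : IsPGroup p R := hS.to_le hRS
    rcases hRS.eq_or_lt with rfl | hlt
    · exact hbase y hy.2 B hB hyB
    have hVR : V ≤ R := hR ▸ le_inf (hext V hV).1 Subgroup.le_normalizer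
    have hR0 : R ≠ ⊥ := fun h0 => hV0 (le_bot_iff.mp (h0 ▸ hVR))
    obtain ⟨h, hh, hh'⟩ := hconj (W R) ((functor_le hW hRp).trans hRS)
    set R' := S ⊓ Subgroup.normalizer ((W R : Subgroup G) : Set G) with hR'
    have hlt' : Nat.card R < Nat.card R' := by
      have h1 := (lt_inf_normalizer hS hlt).trans_le
        (inf_le_inf le_rfl (normalizer_le_normalizer_functor hW hRp))
      exact lt_of_le_of_ne (Subgroup.card_le_of_le h1.le) fun e =>
        h1.ne (Subgroup.eq_of_le_of_card_ge h1.le e.ge)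
    have hU' : Nat.card U < Nat.card R' := by
      rcases hsz with h' | h'
      · omega
      · exact absurd h' hlt.ne
    have hRR'le : R ≤ R' := le_inf hRS (le_normalizer_functor hW hRp)
    have hRR' : (R : Set G) ⊆ R' := fun a ha => hRR'le ha
    have hΦh : Φ (R' : Set G) h := IH R' h inf_le_left hh' hU'
    set R'' := S ⊓ Subgroup.normalizer ((cj h (W R) : Subgroup G) : Set G) with hR''
    have hle : cj h R' ≤ R'' := le_inf hh' (by
      rw [← cj_normalizer]
      exact cj_mono inf_le_right)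
    have hcard : Nat.card R' ≤ Nat.card R'' := by
      rw [← card_cj h R']
      exact Subgroup.card_le_of_le hle
    have hsub : ∀ D : Set G, D ⊆ R → cset h D ⊆ R'' := fun D hD a ha => by
      obtain ⟨b, hb, rfl⟩ := ha
      exact hle (conj_mem_cj.mpr (hRR' (hD hb)))
    have hhR : cj h R ≤ S := (cj_mono hRR'le).trans hh'
    have hZ : S ⊓ Subgroup.centralizer (S : Set G) ≤ cj h (W R) := by
      refine le_trans (le_trans ?_ (show H73.cj h R ⊓ Subgroup.centralizer ((H73.cj h R : Subgroup G) : Set G) =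
          H73.cj h (R ⊓ Subgroup.centralizer (R : Set G)) by rw [cj_inf, cj_centralizer]).le) (cj_mono (hWZ R hRp))
      exact le_inf ((hRc.cj h).center_le hhR) (inf_le_right.trans (Subgroup.centralizer_le hhR))
    have h2 : Φ (cset h B) (h * y * h⁻¹) := by
      refine ih (Nat.card S - Nat.card R'') ?_ (cj h (W R)) R'' hh
        (fun h0 => functor_ne_bot hW hRp hR0 (cj_eq_bot_iff.mp h0)) hZ
        ((hRc.cj h).mono ((cj_mono hRR'le).trans hle)) rfl
        (Or.inl (hU'.trans_le hcard)) rfl _ (mem_normalizer_cj hy.2) _ (hsub B hB) ?_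
      · have := Subgroup.card_le_of_le (show R'' ≤ S from inf_le_left)
        omega
      · rw [cset_cset, inv_mul_cancel_right, ← cset_cset]
        exact hsub _ hyB
    exact hΦ.toFusBasic.sandwich (hΦ.mono _ _ _ (fun a ha => hRR' (hB ha)) hΦh) h2
      (hΦ.mono _ _ _ (fun a ha => hRR' (hyB ha)) hΦh) (by group)
  have hUS := (hext U hU).1
  refine sec _ U _ hU hU0 (hUc.center_le hUS) (hUc.mono (le_inf hUS Subgroup.le_normalizer)) rfl ?_ rfl
    x hx U (fun a ha => ⟨hUS ha, Subgroup.le_normalizer ha⟩) ?_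
  · rcases hUS.eq_or_lt with rfl | hlt
    · exact Or.inr (inf_eq_left.mpr Subgroup.le_normalizer)
    · refine Or.inl (lt_of_le_of_ne (Subgroup.card_le_of_le (le_inf hUS Subgroup.le_normalizer))
        fun e => (lt_inf_normalizer hS hlt).ne
          (Subgroup.eq_of_le_of_card_ge (le_inf hUS Subgroup.le_normalizer) e.ge))
  · rw [cset_subgroup, mem_normalizer_iff_cj.mp hx]
    exact fun a ha => ⟨hUS ha, Subgroup.le_normalizer ha⟩

/-- The standard choice of extremal subgroups. -/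
def Extremal (p : ℕ) (S U : Subgroup G) : Prop :=
  U ≤ S ∧ SylIn p (S ⊓ Subgroup.normalizer (U : Set G)) (Subgroup.normalizer (U : Set G))

theorem extremal_hconj {S : Subgroup G} (hS : SylIn p S ⊤) (V : Subgroup G) (hV : V ≤ S) :
    ∃ h : G, Extremal p S (cj h V) ∧ cj h (S ⊓ Subgroup.normalizer (V : Set G)) ≤ S := by
  obtain ⟨v, h1, h2, h3⟩ := exists_extremal_conj hS hV
  exact ⟨v, ⟨h1, h2⟩, h3⟩

section Central

variable {W V : Subgroup G → Subgroup G} (hW : Cfsg.IsConjugacyFunctor p W)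
  (hV : Cfsg.IsConjugacyFunctor p V)
  (hWZ : ∀ H : Subgroup G, IsPGroup p H → H ⊓ Subgroup.centralizer (H : Set G) ≤ W H)
  (hVZ : ∀ H : Subgroup G, IsPGroup p H → V H ≤ H ⊓ Subgroup.centralizer (H : Set G))
  (hVmono : ∀ H K : Subgroup G, IsPGroup p H → IsPGroup p K → H ≠ ⊥ → K ≠ ⊥ →
    H ⊓ Subgroup.centralizer (H : Set G) ≤ K ⊓ Subgroup.centralizer (K : Set G) → V H ≤ V K)

include hVZ in
omit [Finite G] [Fact p.Prime] in
theorem le_centralizer_central {R : Subgroup G} (hR : IsPGroup p R) :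
    R ≤ Subgroup.centralizer ((V R : Subgroup G) : Set G) := by
  intro r hr
  rw [Subgroup.mem_centralizer_iff]
  intro v hv
  exact (Subgroup.mem_centralizer_iff.mp (hVZ R hR hv).2 r hr).symm

include hVmono in
omit [Finite G] in
theorem centralizer_central_le {S U R : Subgroup G} (hS : IsPGroup p S) (hU0 : U ≠ ⊥) (hUS : U ≤ S)
    (hZ : S ⊓ Subgroup.centralizer (S : Set G) ≤ U) (hR : R = S ⊓ Subgroup.normalizer (U : Set G)) :
    Subgroup.centralizer ((V R : Subgroup G) : Set G) ≤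
      Subgroup.centralizer ((V S : Subgroup G) : Set G) := by
  have hUR : U ≤ R := hR ▸ le_inf hUS Subgroup.le_normalizer
  have hRS : R ≤ S := hR.trans_le inf_le_left
  have hR0 : R ≠ ⊥ := fun h0 => hU0 (le_bot_iff.mp (h0 ▸ hUR))
  refine Subgroup.centralizer_le (hVmono S R hS (hS.to_le hRS) (fun h0 => hU0 (le_bot_iff.mp (h0 ▸ hUS))) hR0 ?_)
  exact le_inf (hZ.trans hUR) (inf_le_right.trans (Subgroup.centralizer_le hRS))

/-- The permitted elements inside `H` at `Q`. -/
def centralGen (W V : Subgroup G → Subgroup G) (H Q : Subgroup G) : Set G :=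
  {y | y ∈ H ⊓ Subgroup.normalizer ((W Q : Subgroup G) : Set G) ∨
    y ∈ H ⊓ Subgroup.centralizer ((V Q : Subgroup G) : Set G)}

omit [Finite G] in
theorem centralGen_inv {H Q : Subgroup G} : ∀ y ∈ centralGen W V H Q, y⁻¹ ∈ centralGen W V H Q :=
  fun _ hy => hy.imp (Subgroup.inv_mem _) (Subgroup.inv_mem _)

omit [Finite G] in
theorem fusGen_single {Gen : Set G} {S : Subgroup G} {A : Set G} {y : G} (hy : y ∈ Gen)
    (hA : A ⊆ S) (hyA : cset y A ⊆ S) : FusGen Gen S A y := by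
  intro B hB _
  refine ⟨hB.trans hA, (cset_mono hB).trans hyA, y * 1,
    ChainFrom.refl.step hy (by rw [mul_one]; exact (cset_mono hB).trans hyA), fun a _ => by rw [mul_one]⟩

omit [Finite G] in
theorem take_ofFn_succ {n : ℕ} (b : Fin n → G) (i : Fin n) :
    ((List.ofFn b).take ((i : ℕ) + 1)).prod = ((List.ofFn b).take (i : ℕ)).prod * b i := by
  rw [List.prod_take_succ _ _ (by simp), List.getElem_ofFn]

include hW hV in
/-- The word form of local control gives chains at any Sylow subgroup. -/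
theorem chain_of_local {N Q R : Subgroup G} (hQ : IsPGroup p Q) {k : G} (hk : k ∈ N)
    (hkQ : cj k Q = R)
    (h : ∀ (X : Set G) (a : G), X ⊆ Q → a ∈ N → (fun x => a⁻¹ * x * a) '' X ⊆ Q →
      ∃ c ∈ N ⊓ Subgroup.centralizer X, ∃ (n : ℕ) (b : Fin n → G),
        (∀ i, b i ∈ N ⊓ Subgroup.normalizer ((W Q : Subgroup G) : Set G) ∨
          b i ∈ N ⊓ Subgroup.centralizer ((V Q : Subgroup G) : Set G)) ∧
        a = c * (List.ofFn b).prod ∧
        ∀ k : ℕ, k ≤ n → (fun x => (((List.ofFn b).take k).prod)⁻¹ * x * ((List.ofFn b).take k).prod) ''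
          ((fun x => c⁻¹ * x * c) '' X) ⊆ Q)
    {x : G} (hx : x ∈ N) {A : Set G} (hA : A ⊆ R) (hxA : cset x A ⊆ R) :
    ∃ d, ChainFrom (centralGen W V N R) R A d ∧ ∀ a ∈ A, d * a * d⁻¹ = x * a * x⁻¹ := by
  subst hkQ
  obtain ⟨c, hc, n, b, hb, he, hin⟩ := h (cset k⁻¹ A) (k⁻¹ * x⁻¹ * k) (by
      rintro _ ⟨a, ha, rfl⟩
      simpa using mem_cj.mp (hA ha))
    (N.mul_mem (N.mul_mem (N.inv_mem hk) (N.inv_mem hx)) hk) (by
      rintro _ ⟨_, ⟨a, ha, rfl⟩, rfl⟩
      have := mem_cj.mp (hxA ⟨a, ha, rfl⟩)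
      simpa [mul_assoc] using this)
  set e : ℕ → G := fun i => ((List.ofFn b).take i).prod with hee
  have hcfix : ∀ a ∈ A, c⁻¹ * (k⁻¹ * a * k) * c = k⁻¹ * a * k := by
    intro a ha
    have h1 := Subgroup.mem_centralizer_iff.mp hc.2 (k⁻¹ * a * k) ⟨a, ha, by simp⟩
    rw [mul_assoc, h1, ← mul_assoc, inv_mul_cancel, one_mul]
  have hchain := ChainFrom.of_fin (Gen := centralGen W V N (cj k Q)) (S := cj k Q) (A := A)
    (fun i : Fin (n + 1) => k * (e i)⁻¹ * k⁻¹) (by simp [hee]) (fun i => ?_) (fun i => ?_)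
  · refine ⟨_, hchain, fun a ha => ?_⟩
    have hlast : e n = (List.ofFn b).prod := by
      rw [hee]
      show ((List.ofFn b).take n).prod = _
      rw [List.take_of_length_le (by simp)]
    simp only [Fin.val_last, hlast]
    have h2 : x = k * ((List.ofFn b).prod)⁻¹ * c⁻¹ * k⁻¹ := by
      rw [show x = k * (k⁻¹ * x⁻¹ * k)⁻¹ * k⁻¹ by group, he]
      group
    rw [h2]
    calc k * ((List.ofFn b).prod)⁻¹ * k⁻¹ * a * (k * ((List.ofFn b).prod)⁻¹ * k⁻¹)⁻¹ =
          k * ((List.ofFn b).prod)⁻¹ * (k⁻¹ * a * k) * (List.ofFn b).prod * k⁻¹ := by group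
      _ = k * ((List.ofFn b).prod)⁻¹ * (c⁻¹ * (k⁻¹ * a * k) * c) * (List.ofFn b).prod * k⁻¹ := by
          rw [hcfix a ha]
      _ = _ := by group
  · have hstep : k * (e (i.succ : ℕ))⁻¹ * k⁻¹ * (k * (e (i.castSucc : ℕ))⁻¹ * k⁻¹)⁻¹ =
        k * (b i)⁻¹ * k⁻¹ := by
      simp only [hee, Fin.val_succ, Fin.val_castSucc, take_ofFn_succ]
      group
    show k * (e (i.succ : ℕ))⁻¹ * k⁻¹ * (k * (e (i.castSucc : ℕ))⁻¹ * k⁻¹)⁻¹ ∈ _
    rw [hstep]
    rcases hb i with hbi | hbi
    · left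
      refine ⟨N.mul_mem (N.mul_mem hk (N.inv_mem hbi.1)) (N.inv_mem hk), ?_⟩
      show _ ∈ Subgroup.normalizer ((W (cj k Q) : Subgroup G) : Set G)
      rw [cj_functor hW hQ]
      exact mem_normalizer_cj (Subgroup.inv_mem _ hbi.2)
    · right
      refine ⟨N.mul_mem (N.mul_mem hk (N.inv_mem hbi.1)) (N.inv_mem hk), ?_⟩
      show _ ∈ Subgroup.centralizer ((V (cj k Q) : Subgroup G) : Set G)
      rw [cj_functor hV hQ, ← cj_centralizer]
      exact conj_mem_cj.mpr (Subgroup.inv_mem _ hbi.2)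
  · rintro _ ⟨a, ha, rfl⟩
    have h1 := hin i (Nat.lt_succ_iff.mp i.2) ⟨_, ⟨_, ⟨a, ha, rfl⟩, rfl⟩, rfl⟩
    simp only [inv_inv, hcfix a ha] at h1
    show k * (e i)⁻¹ * k⁻¹ * a * (k * (e i)⁻¹ * k⁻¹)⁻¹ ∈ cj k Q
    rw [show k * (e i)⁻¹ * k⁻¹ * a * (k * (e i)⁻¹ * k⁻¹)⁻¹ =
      k * ((e i)⁻¹ * (k⁻¹ * a * k) * e i) * k⁻¹ by group]
    exact conj_mem_cj.mpr h1

include hW hV hWZ hVZ hVmono in
/-- Strong fusion: local-to-global for a functor and a central functor. -/
theorem fusGen_of_central (P : Sylow p G)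
    (hloc : ∀ H : Subgroup G, (P : Subgroup G) ⊓ Subgroup.centralizer ((P : Subgroup G) : Set G) ≤ H →
      H ≤ (P : Subgroup G) → ∃ Q : Subgroup G, Q ≤ Subgroup.normalizer (H : Set G) ∧ IsPGroup p Q ∧
      ¬ p ∣ Q.relIndex (Subgroup.normalizer (H : Set G)) ∧
      ∀ (X : Set G) (a : G), X ⊆ Q → a ∈ Subgroup.normalizer (H : Set G) →
        (fun x => a⁻¹ * x * a) '' X ⊆ Q →
        ∃ c ∈ Subgroup.normalizer (H : Set G) ⊓ Subgroup.centralizer X, ∃ (n : ℕ) (b : Fin n → G),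
          (∀ i, b i ∈ Subgroup.normalizer (H : Set G) ⊓ Subgroup.normalizer ((W Q : Subgroup G) : Set G) ∨
            b i ∈ Subgroup.normalizer (H : Set G) ⊓ Subgroup.centralizer ((V Q : Subgroup G) : Set G)) ∧
          a = c * (List.ofFn b).prod ∧
          ∀ k : ℕ, k ≤ n → (fun x => (((List.ofFn b).take k).prod)⁻¹ * x * ((List.ofFn b).take k).prod) ''
            ((fun x => c⁻¹ * x * c) '' X) ⊆ Q)
    (A : Set G) (g : G) (hA : A ⊆ (P : Subgroup G)) (hgA : cset g A ⊆ (P : Subgroup G)) :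
    FusGen (centralGen W V ⊤ (P : Subgroup G)) (P : Subgroup G) A g := by
  have hS := sylIn_top P
  refine fusion_of_center_functor P.2 (fusGen_closed centralGen_inv _) (Extremal p (P : Subgroup G))
    (fun _ h => h) (extremal_hconj hS) hW hWZ (fun U R hU hU0 hZ hR hstep x hx B hB hxB => ?_)
    (fun y hy B hB hyB => fusGen_single (Or.inl ⟨Subgroup.mem_top y, hy⟩) hB hyB) A g hA hgA
  obtain ⟨Q, hQ1, hQ2, hQ3, hQ⟩ := hloc U hZ hU.1
  have hRsyl : SylIn p R (Subgroup.normalizer (U : Set G)) := hR ▸ hU.2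
  obtain ⟨k, hk, hkQ⟩ := (SylIn.exists_conj ⟨hQ1, hQ2, hQ3⟩ hRsyl :
    ∃ k ∈ Subgroup.normalizer (U : Set G), cj k Q = R)
  obtain ⟨d, hd, hde⟩ := chain_of_local hW hV hQ2 hk hkQ hQ hx hB hxB
  refine (fusGen_closed centralGen_inv _).congr B d x hde ?_
  have hRS : (R : Set G) ⊆ (P : Subgroup G) := fun a ha => (hR.trans_le inf_le_left) ha
  clear hde hxB
  induction hd with
  | refl => exact (fusGen_closed centralGen_inv _).one B
  | @step d y hd hy hs ih =>
    refine (fusGen_closed centralGen_inv _).comp B d y ih ?_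
    have hdB : cset d B ⊆ R := hd.cset_subset hB
    rcases hy with hy | hy
    · exact hstep y hy _ hdB (by rwa [cset_cset])
    · exact fusGen_single (Or.inr ⟨Subgroup.mem_top y, centralizer_central_le hVmono P.2 hU0 hU.1 hZ hR hy.2⟩)
        (hdB.trans hRS) (by rw [cset_cset]; exact hs.trans hRS)

include hW hV hWZ hVZ hVmono in
/-- Transfer: local-to-global for a functor and a central functor. -/
theorem transfer_of_central (P : Sylow p G)
    (hloc : ∀ H : Subgroup G, (P : Subgroup G) ⊓ Subgroup.centralizer ((P : Subgroup G) : Set G) ≤ H →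
      H ≤ (P : Subgroup G) → ∃ Q : Subgroup G, Q ≤ Subgroup.normalizer (H : Set G) ∧ IsPGroup p Q ∧
      ¬ p ∣ Q.relIndex (Subgroup.normalizer (H : Set G)) ∧
      ∀ x : G, x ∈ Q ⊓ ⁅Subgroup.normalizer (H : Set G), Subgroup.normalizer (H : Set G)⁆ ↔
        ∃ a ∈ Q ⊓ ⁅Subgroup.normalizer (H : Set G) ⊓ Subgroup.normalizer ((W Q : Subgroup G) : Set G),
          Subgroup.normalizer (H : Set G) ⊓ Subgroup.normalizer ((W Q : Subgroup G) : Set G)⁆,
        ∃ b ∈ Q ⊓ ⁅Subgroup.normalizer (H : Set G) ⊓ Subgroup.centralizer ((V Q : Subgroup G) : Set G),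
          Subgroup.normalizer (H : Set G) ⊓ Subgroup.centralizer ((V Q : Subgroup G) : Set G)⁆, x = a * b) :
    (P : Subgroup G) ⊓ commutator G ≤
      ((P : Subgroup G) ⊓ ⁅Subgroup.normalizer ((W P : Subgroup G) : Set G),
        Subgroup.normalizer ((W P : Subgroup G) : Set G)⁆) ⊔
      ((P : Subgroup G) ⊓ ⁅Subgroup.centralizer ((V P : Subgroup G) : Set G),
        Subgroup.centralizer ((V P : Subgroup G) : Set G)⁆) := by
  set F := ((P : Subgroup G) ⊓ ⁅Subgroup.normalizer ((W P : Subgroup G) : Set G),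
        Subgroup.normalizer ((W P : Subgroup G) : Set G)⁆) ⊔
      ((P : Subgroup G) ⊓ ⁅Subgroup.centralizer ((V P : Subgroup G) : Set G),
        Subgroup.centralizer ((V P : Subgroup G) : Set G)⁆) with hF
  have hS := sylIn_top P
  have hbase : ∀ N : Subgroup G, (P : Subgroup G) ≤ N → (P : Subgroup G) ⊓ ⁅N, N⁆ ≤ F →
      ∀ y ∈ N, ∀ A : Set G, A ⊆ (P : Subgroup G) → cset y A ⊆ (P : Subgroup G) → FocalIn F A y := by
    intro N hN hle y hy A hA hyA a ha
    exact hle ⟨Subgroup.mul_mem _ (hyA ⟨a, ha, rfl⟩) (Subgroup.inv_mem _ (hA ha)),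
      Subgroup.commutator_mem_commutator hy (hN (hA ha))⟩
  refine inf_commutator_le_of_focal (H := ⊤) hS fun u _ a ha hu => ?_
  refine fusion_of_center_functor P.2 (focalIn_closed F) (Extremal p (P : Subgroup G))
    (fun _ h => h) (extremal_hconj hS) hW hWZ (fun U R hU hU0 hZ hR hstep x hx A hA hxA => ?_)
    (fun y hy A hA hyA => hbase _ (le_normalizer_functor hW P.2) le_sup_left y hy A hA hyA)
    {a} u (Set.singleton_subset_iff.mpr ha)
    (by rw [cset, Set.image_singleton]; exact Set.singleton_subset_iff.mpr hu) a rfl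
  intro c hc
  obtain ⟨Q, hQ1, hQ2, hQ3, hQ⟩ := hloc U hZ hU.1
  have hRsyl : SylIn p R (Subgroup.normalizer (U : Set G)) := hR ▸ hU.2
  have hRS : (R : Set G) ⊆ (P : Subgroup G) := fun a ha => (hR.trans_le inf_le_left) ha
  obtain ⟨k, hk, hkQ⟩ := (SylIn.exists_conj ⟨hQ1, hQ2, hQ3⟩ hRsyl :
    ∃ k ∈ Subgroup.normalizer (U : Set G), cj k Q = R)
  set N := Subgroup.normalizer (U : Set G) with hN
  have hmem : x * c * x⁻¹ * c⁻¹ ∈ cj k (Q ⊓ ⁅N, N⁆) := by
    rw [cj_inf, hkQ, cj_commutator, cj_of_mem hk]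
    exact ⟨R.mul_mem (hxA ⟨c, hc, rfl⟩) (R.inv_mem (hA hc)),
      Subgroup.commutator_mem_commutator hx (hRsyl.le (hA hc))⟩
  obtain ⟨m, hm, hme⟩ := hmem
  obtain ⟨s, hs, t, ht, rfl⟩ := (hQ m).mp hm
  show _ ∈ F
  rw [← hme, map_mul]
  have hW1 : cj k (Q ⊓ ⁅N ⊓ Subgroup.normalizer ((W Q : Subgroup G) : Set G),
      N ⊓ Subgroup.normalizer ((W Q : Subgroup G) : Set G)⁆) ≤ F := by
    rw [cj_inf, hkQ, cj_commutator, cj_inf, cj_of_mem hk, cj_normalizer, ← cj_functor hW hQ2, hkQ]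
    refine inf_commutator_le_of_focal
      (hRsyl.of_le (le_inf hRsyl.le (le_normalizer_functor hW hRsyl.isPGroup)) inf_le_left)
      fun v hv d hd hvd => ?_
    exact hstep v hv {d} (by simpa using hd) (by simpa [cset] using hvd) d rfl
  have hV1 : cj k (Q ⊓ ⁅N ⊓ Subgroup.centralizer ((V Q : Subgroup G) : Set G),
      N ⊓ Subgroup.centralizer ((V Q : Subgroup G) : Set G)⁆) ≤ F := by
    rw [cj_inf, hkQ, cj_commutator, cj_inf, cj_of_mem hk, cj_centralizer, ← cj_functor hV hQ2, hkQ]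
    refine inf_commutator_le_of_focal
      (hRsyl.of_le (le_inf hRsyl.le (le_centralizer_central hVZ hRsyl.isPGroup)) inf_le_left)
      fun v hv d hd hvd => ?_
    refine hbase _ (le_centralizer_central hVZ P.2) le_sup_right v
      (centralizer_central_le hVmono P.2 hU0 hU.1 hZ hR hv.2) {d} ?_ ?_ d rfl
    · simpa using hRS hd
    · simpa [cset] using hRS hvd
  exact F.mul_mem (hW1 ⟨s, hs, rfl⟩) (hV1 ⟨t, ht, rfl⟩)

end Central

end H73
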