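import Cfsg.Agent.H73.StrongFusionCriteria
import Cfsg.Agent.H10.PSolvable

/-!
Families of functors: the reduction to constrained sections, including the empty family (helper73).
-/

set_option autoImplicit false

namespace H73

open Subgroup
open scoped commutatorElement

universe u

variable {p : ℕ} [Fact p.Prime]

/-- The identity functor `Q ↦ Q`. -/
theorem topFunctor_isCharPFunctor :
    Cfsg.IsCharPFunctor.{u} p (fun (Q : Type u) [Group Q] => (⊤ : Subgroup Q)) := by
  refine ⟨fun Q _ _ _ h e => ?_, fun Q R _ _ _ _ φ => ?_⟩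
  · exact top_ne_bot e
  · rw [← MonoidHom.range_eq_map]
    exact MonoidHom.range_eq_top.mpr φ.surjective

theorem inducedFunctor_top {G : Type u} [Group G] (P : Subgroup G) :
    Cfsg.inducedFunctor (fun (Q : Type u) [Group Q] => (⊤ : Subgroup Q)) P = P := by
  show (⊤ : Subgroup P).map P.subtype = P
  rw [← MonoidHom.range_eq_map]
  exact P.range_subtype

/-- A group with normal Sylow subgroup and trivial `p'`-core is constrained. -/
theorem constrained_of_normal_sylow {Y : Type u} [Group Y] [Finite Y] (P : Sylow p Y)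
    [(P : Subgroup Y).Normal] (hK : Cfsg.pPrimeCore p Y = ⊥) :
    Subgroup.centralizer ((Cfsg.pCore p Y : Subgroup Y) : Set Y) ≤ Cfsg.pCore p Y := by
  refine H10.centralizer_pCore_le (H10.isPSolvable_of_quotient_of_card (P : Subgroup Y) ?_ ?_) hK
  · exact Or.inl (IsPGroup.iff_card.mp P.2)
  · refine H10.isPSolvable_of_quotient_of_card (⊤ : Subgroup (Y ⧸ (P : Subgroup Y))) (Or.inr ?_) ?_
    · rw [Subgroup.card_top, ← Subgroup.index_eq_card]
      exact ((Fact.out : p.Prime).coprime_iff_not_dvd.mpr P.not_dvd_index).symm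
    · haveI : Subsingleton ((Y ⧸ (P : Subgroup Y)) ⧸ (⊤ : Subgroup (Y ⧸ (P : Subgroup Y)))) :=
        QuotientGroup.subsingleton_quotient_top
      exact H10.isPSolvable_of_subsingleton

/-- The quotient of the normalizer of a Sylow subgroup by its `p'`-core is constrained. -/
theorem normalizer_core_constrained {G : Type u} [Group G] [Finite G] (S : Sylow p G) :
    let N := Subgroup.normalizer ((S : Subgroup G) : Set G)
    haveI := H1.pPrimeCore_normal' p N
    Subgroup.centralizer ((Cfsg.pCore p (↥N ⧸ Cfsg.pPrimeCore p ↥N) :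
      Subgroup (↥N ⧸ Cfsg.pPrimeCore p ↥N)) : Set (↥N ⧸ Cfsg.pPrimeCore p ↥N)) ≤
        Cfsg.pCore p (↥N ⧸ Cfsg.pPrimeCore p ↥N) := by
  intro N
  haveI := H1.pPrimeCore_normal' p N
  let P : Sylow p N := S.subtype Subgroup.le_normalizer
  haveI : (P : Subgroup N).Normal := by
    rw [Sylow.coe_subtype]
    exact Subgroup.normal_in_normalizer
  have hs := QuotientGroup.mk'_surjective (Cfsg.pPrimeCore p ↥N)
  haveI : ((P.mapSurjective hs : Sylow p _) : Subgroup (↥N ⧸ Cfsg.pPrimeCore p ↥N)).Normal :=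
    Subgroup.Normal.map inferInstance _ hs
  exact constrained_of_normal_sylow (P.mapSurjective hs) (H1.pPrimeCore_quotient_pPrimeCore p)

variable {G : Type u} [Group G] [Finite G] {𝓦 : Set (∀ (Q : Type u) [Group Q], Subgroup Q)}

/-- Strong fusion: control in the constrained sections suffices. -/
theorem sf_of_constrained (h𝓦 : ∀ W ∈ 𝓦, Cfsg.IsCharPFunctor.{u} p W)
    (hloc : ∀ (X : Type u) [Group X] [Finite X], IsSectionOf X G →
      Subgroup.centralizer ((Cfsg.pCore p X : Subgroup X) : Set X) ≤ Cfsg.pCore p X → SF 𝓦 p X) :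
    SF 𝓦 p G := by
  rcases 𝓦.eq_empty_or_nonempty with rfl | hne
  swap
  · exact sf_of_sections h𝓦 hne hloc G (IsSectionOf.refl G)
  set T₀ : Set (∀ (Q : Type u) [Group Q], Subgroup Q) := {fun (Q : Type u) [Group Q] => (⊤ : Subgroup Q)}
  have hT₀ : ∀ W ∈ T₀, Cfsg.IsCharPFunctor.{u} p W := fun W hW => by
    rw [Set.mem_singleton_iff.mp hW]
    exact topFunctor_isCharPFunctor
  have htriv : ∀ (X : Type u) [Group X] [Finite X] (P : Sylow p X), SF ∅ p X →
      ∀ (g a : X), a ∈ (P : Subgroup X) → g * a * g⁻¹ ∈ (P : Subgroup X) → g * a * g⁻¹ = a := by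
    intro X _ _ P hX g a ha hga
    obtain ⟨-, -, c, hc, hce⟩ := familyControlsStrongFusionIn_any
      (famOf_isConjugacyFunctor (𝓦 := (∅ : Set (∀ (Q : Type u) [Group Q], Subgroup Q))) (by simp))
      hX (sylIn_top P) (Subgroup.mem_top g) (A := {a}) (Set.singleton_subset_iff.mpr ha)
      (by rintro _ ⟨b, rfl, rfl⟩; exact hga) {a} subset_rfl (Or.inl (Set.singleton_subset_iff.mpr ha))
    have h1 : c = 1 := by
      clear hce
      induction hc with
      | refl => rfl
      | step _ hy _ _ =>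
        obtain ⟨W, hW, -⟩ := hy
        simp [famOf] at hW
    rw [← hce a rfl, h1]
    simp
  have hall : SF T₀ p G := by
    refine sf_of_sections hT₀ (Set.singleton_nonempty _) (fun X _ _ hX hc => ?_) G (IsSectionOf.refl G)
    obtain ⟨P⟩ : Nonempty (Sylow p X) := inferInstance
    refine familyControlsStrongFusionIn_top_of_fusGen (sylIn_top P) fun A g hA hgA => ?_
    exact (fusGen_closed genSet_inv_mem _).congr A 1 g
      (fun a ha => by rw [htriv X P (hloc X hX hc) g a (hA ha) (hgA ⟨a, ha, rfl⟩)]; group)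
      ((fusGen_closed genSet_inv_mem _).one A)
  obtain ⟨S⟩ : Nonempty (Sylow p G) := inferInstance
  set N := Subgroup.normalizer ((S : Subgroup G) : Set G) with hN
  haveI := H1.pPrimeCore_normal' p N
  set π := QuotientGroup.mk' (Cfsg.pPrimeCore p ↥N)
  have hXN : SF ∅ p (↥N ⧸ Cfsg.pPrimeCore p ↥N) :=
    hloc _ (((IsSectionOf.refl G).subgroup N).quotient _) (normalizer_core_constrained S)
  refine familyControlsStrongFusionIn_top_of_fusGen (sylIn_top S) fun A g hA hgA => ?_
  obtain ⟨-, -, c, hc, hce⟩ := familyControlsStrongFusionIn_any (famOf_isConjugacyFunctor hT₀) hall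
    (sylIn_top S) (Subgroup.mem_top g) hA hgA A subset_rfl (Or.inl hA)
  have hcN : c ∈ N := by
    clear hce
    induction hc with
    | refl => exact N.one_mem
    | @step d y _ hy _ ih =>
      obtain ⟨V, hV, -, hy⟩ := hy
      rw [famOf_singleton, Set.mem_singleton_iff] at hV
      subst hV
      rw [inducedFunctor_top] at hy
      exact N.mul_mem hy ih
  refine (fusGen_closed genSet_inv_mem _).congr A 1 g (fun a ha => ?_)
    ((fusGen_closed genSet_inv_mem _).one A)
  rw [← hce a ha]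
  have hSN : (S : Subgroup G) ≤ N := Subgroup.le_normalizer
  have hcS : c * a * c⁻¹ ∈ (S : Subgroup G) := (Subgroup.mem_normalizer_iff.mp hcN a).mp (hA ha)
  set a' : N := ⟨a, hSN (hA ha)⟩
  set c' : N := ⟨c, hcN⟩
  let P : Sylow p N := S.subtype hSN
  have hs := QuotientGroup.mk'_surjective (Cfsg.pPrimeCore p ↥N)
  have h1 : π c' * π a' * (π c')⁻¹ = π a' := htriv _ (P.mapSurjective hs) hXN (π c') (π a')
    ⟨a', hA ha, rfl⟩ ⟨c' * a' * c'⁻¹, hcS, by simp [π]⟩
  have h2 : (c' * a' * c'⁻¹)⁻¹ * a' ∈ Cfsg.pPrimeCore p ↥N := by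
    rw [← QuotientGroup.eq_one_iff]
    show π ((c' * a' * c'⁻¹)⁻¹ * a') = 1
    rw [map_mul, map_inv, map_mul, map_mul, map_inv, h1, inv_mul_cancel]
  have h3 : (c' * a' * c'⁻¹)⁻¹ * a' = 1 := by
    refine H75.eq_one_of_mem_of_coprime (P := (P : Subgroup N)) P.2 ?_ ?_
    · exact (P : Subgroup N).mul_mem ((P : Subgroup N).inv_mem hcS) (hA ha)
    · exact (H1.card_pPrimeCore_coprime p ↥N).coprime_dvd_left
        (by
          have := orderOf_dvd_natCard (⟨_, h2⟩ : Cfsg.pPrimeCore p ↥N)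
          rwa [Subgroup.orderOf_mk] at this)
  rw [inv_mul_eq_one] at h3
  have h4 := congrArg Subtype.val h3
  simpa [a', c'] using h4.symm

/-- Transfer: control in the constrained sections suffices. -/
theorem ctl_of_constrained (h𝓦 : ∀ W ∈ 𝓦, Cfsg.IsCharPFunctor.{u} p W)
    (hloc : ∀ (X : Type u) [Group X] [Finite X], IsSectionOf X G →
      Subgroup.centralizer ((Cfsg.pCore p X : Subgroup X) : Set X) ≤ Cfsg.pCore p X → Ctl 𝓦 p X) :
    Ctl 𝓦 p G := by
  rcases 𝓦.eq_empty_or_nonempty with rfl | hne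
  swap
  · exact ctl_of_sections h𝓦 hne (fun X _ _ hX S hF =>
      hF.fail ((ctl_iff h𝓦 S).mp (hloc X hX hF.constrained))) G (IsSectionOf.refl G)
  set T₀ : Set (∀ (Q : Type u) [Group Q], Subgroup Q) := {fun (Q : Type u) [Group Q] => (⊤ : Subgroup Q)}
  have hT₀ : ∀ W ∈ T₀, Cfsg.IsCharPFunctor.{u} p W := fun W hW => by
    rw [Set.mem_singleton_iff.mp hW]
    exact topFunctor_isCharPFunctor
  have htriv : ∀ (X : Type u) [Group X] [Finite X] (P : Sylow p X), Ctl ∅ p X →
      (P : Subgroup X) ⊓ commutator X ≤ ⊥ := fun X _ _ P hX => by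
    refine ((ctl_iff (𝓦 := (∅ : Set (∀ (Q : Type u) [Group Q], Subgroup Q))) (by simp) P).mp hX).trans ?_
    simp [focalT]
  have hall : Ctl T₀ p G := by
    refine ctl_of_sections hT₀ (Set.singleton_nonempty _) (fun X _ _ hX S hF => ?_) G (IsSectionOf.refl G)
    exact hF.fail ((htriv X S (hloc X hX hF.constrained)).trans bot_le)
  obtain ⟨S⟩ : Nonempty (Sylow p G) := inferInstance
  rw [ctl_iff (𝓦 := (∅ : Set (∀ (Q : Type u) [Group Q], Subgroup Q))) (by simp) S]
  refine ((ctl_iff hT₀ S).mp hall).trans ?_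
  refine le_trans (iSup₂_le fun W hW => ?_) bot_le
  rw [Set.mem_singleton_iff] at hW
  subst hW
  rw [inducedFunctor_top]
  set N := Subgroup.normalizer ((S : Subgroup G) : Set G) with hN
  haveI := H1.pPrimeCore_normal' p N
  have hXN : Ctl ∅ p (↥N ⧸ Cfsg.pPrimeCore p ↥N) :=
    hloc _ (((IsSectionOf.refl G).subgroup N).quotient _) (normalizer_core_constrained S)
  let P : Sylow p N := S.subtype Subgroup.le_normalizer
  have hs := QuotientGroup.mk'_surjective (Cfsg.pPrimeCore p ↥N)
  rintro x ⟨hxS, hxN⟩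
  rw [← Subgroup.map_subtype_commutator] at hxN
  obtain ⟨x, hx, rfl⟩ := hxN
  have h2 : (x : ↥N) ∈ Cfsg.pPrimeCore p ↥N := by
    rw [← QuotientGroup.eq_one_iff]
    refine Subgroup.mem_bot.mp (htriv _ (P.mapSurjective hs) hXN ⟨⟨x, hxS, rfl⟩, ?_⟩)
    have h5 : (commutator N).map (QuotientGroup.mk' (Cfsg.pPrimeCore p ↥N)) ≤
        commutator (↥N ⧸ Cfsg.pPrimeCore p ↥N) :=
      (Subgroup.map_commutator (⊤ : Subgroup N) ⊤ _).trans_le (Subgroup.commutator_mono le_top le_top)
    exact h5 (Subgroup.mem_map_of_mem _ hx)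
  rw [Subgroup.mem_bot]
  exact congrArg Subtype.val (H75.eq_one_of_mem_of_coprime (P := (P : Subgroup N)) P.2 (c := x) hxS
    ((H1.card_pPrimeCore_coprime p ↥N).coprime_dvd_left (by
      have := orderOf_dvd_natCard (⟨_, h2⟩ : Cfsg.pPrimeCore p ↥N)
      rwa [Subgroup.orderOf_mk] at this)))

end H73
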