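import Cfsg.Agent.H73.UnipotentGenerators
import Cfsg.Agent.H83.MaxNormalElem
import Cfsg.Agent.H71.RankTwoChief

/-!
Generators of subgroups of odd `p`-groups with small normal abelian subgroups (helper73).
-/

set_option autoImplicit false

namespace H73.NormalRank

open Subgroup
open scoped Pointwise

/-- A group with frattini quotient of order at most `p ^ r` is generated by `r` elements. -/
theorem exists_gens_of_frattini {P : Type*} [Group P] [Finite P] {p r : ℕ} [Fact p.Prime]
    (hP : IsPGroup p P) (hr : (frattini P).index = p ^ r) :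
    ∃ f : Fin r → P, Subgroup.closure (Set.range f) = ⊤ := by
  obtain ⟨φ, hs, hk⟩ := Cfsg.Agent.H29.exists_frattini_coordinates hP hr
  choose f hf using fun i : Fin r => hs (Multiplicative.ofAdd (Pi.basisFun (ZMod p) (Fin r) i))
  refine ⟨f, (Cfsg.Agent.H29.closure_range_eq_top_iff_linearIndependent φ hs hk f).2 ?_⟩
  simp only [hf, toAdd_ofAdd]
  exact (Pi.basisFun (ZMod p) (Fin r)).linearIndependent

/-- An abelian group of exponent `p` generated by `k` elements has order at most `p ^ k`. -/
theorem card_le_of_gens {A : Type*} [CommGroup A] {p k : ℕ} [Fact p.Prime] (hA : ∀ a : A, a ^ p = 1)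
    (S : Finset A) (hS : S.card ≤ k) (hgen : Subgroup.closure (S : Set A) = ⊤) : Nat.card A ≤ p ^ k := by
  classical
  letI : Module (ZMod p) (Additive A) := AddCommGroup.zmodModule (n := p) (G := Additive A) (fun v => hA v.toMul)
  let g : (S → ZMod p) →ₗ[ZMod p] Additive A :=
    Fintype.linearCombination (ZMod p) (fun s : S => Additive.ofMul (s : A))
  have hsurj : Function.Surjective g := by
    intro a
    have ha : Additive.toMul a ∈ Subgroup.closure (S : Set A) := by rw [hgen]; trivial
    have key : ∀ x : A, x ∈ Subgroup.closure (S : Set A) → ∃ c, g c = Additive.ofMul x := fun x hx =>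
      Subgroup.closure_induction (p := fun x _ => ∃ c, g c = Additive.ofMul x)
        (fun x hx => ⟨Pi.single ⟨x, hx⟩ 1, by simp [g, Fintype.linearCombination_apply_single]⟩)
        ⟨0, by simp⟩
        (fun x y _ _ ⟨c, hc⟩ ⟨d, hd⟩ => ⟨c + d, by rw [map_add, hc, hd]; rfl⟩)
        (fun x _ ⟨c, hc⟩ => ⟨-c, by rw [map_neg, hc]; rfl⟩) hx
    exact key _ ha
  calc Nat.card A = Nat.card (Additive A) := rfl
    _ ≤ Nat.card (S → ZMod p) := Nat.card_le_card_of_surjective g hsurj
    _ = p ^ S.card := by rw [Nat.card_fun, Nat.card_zmod, Nat.card_eq_fintype_card, Fintype.card_coe]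
    _ ≤ p ^ k := Nat.pow_le_pow_right (Fact.out : p.Prime).pos hS

/-- A `p`-group of automorphisms of an elementary abelian group of order `p ^ d` is generated
by at most `d * d / 4` elements. -/
theorem exists_gens_of_faithful {Q : Type*} [Group Q] [Finite Q] {p d : ℕ} [Fact p.Prime]
    (hQ : IsPGroup p Q) (ρ : Q →* MulAut (Multiplicative (Fin d → ZMod p)))
    (hρ : Function.Injective ρ) :
    ∃ S : Finset Q, S.card ≤ d * d / 4 ∧ Subgroup.closure (S : Set Q) = ⊤ := by
  classical
  let lin : Q →* Module.End (ZMod p) (Fin d → ZMod p) :=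
    { toFun := fun q => (AddMonoidHom.mk' (fun x => Multiplicative.toAdd (ρ q (Multiplicative.ofAdd x)))
        (fun x y => by rw [ofAdd_add, map_mul, toAdd_mul])).toZModLinearMap p
      map_one' := LinearMap.ext fun x => by simp
      map_mul' := fun a b => LinearMap.ext fun x => by simp }
  let θ : Q →* GL (Fin d) (ZMod p) :=
    ((LinearMap.toMatrixAlgEquiv' : Module.End (ZMod p) (Fin d → ZMod p) ≃ₐ[ZMod p] _).toAlgHom.toMonoidHom.comp lin).toHomUnits
  have hθ : Function.Injective θ := by
    intro a b hab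
    apply hρ
    have h1 : LinearMap.toMatrixAlgEquiv' (lin a) = LinearMap.toMatrixAlgEquiv' (lin b) :=
      congrArg Units.val hab
    have h2 := LinearMap.toMatrixAlgEquiv'.injective h1
    refine MulEquiv.ext fun x => ?_
    exact Multiplicative.toAdd.injective (LinearMap.congr_fun h2 (Multiplicative.toAdd x))
  have hp : IsPGroup p θ.range := IsPGroup.of_surjective hQ θ.rangeRestrict θ.rangeRestrict_surjective
  obtain ⟨T, hT⟩ := hp.exists_le_sylow
  obtain ⟨g, hg⟩ := MulAction.exists_smul_eq (GL (Fin d) (ZMod p)) T (H37.sylowGL p d)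
  let θ' : Q →* GL (Fin d) (ZMod p) := (MulAut.conj g).toMonoidHom.comp θ
  have hθ' : Function.Injective θ' := (MulAut.conj g).injective.comp hθ
  have hle : θ'.range ≤ H37.unitriangular d (ZMod p) := by
    rintro _ ⟨q, rfl⟩
    have h1 : MulAut.conj g • θ q ∈ MulAut.conj g • (T : Subgroup (GL (Fin d) (ZMod p))) :=
      Subgroup.smul_mem_pointwise_smul _ _ _ (hT ⟨q, rfl⟩)
    rw [← H37.coe_sylowGL (F := ZMod p) p d, ← hg, Sylow.coe_subgroup_smul]
    exact h1
  obtain ⟨S, hS, hgen⟩ := Unip.exists_gens θ'.range hle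
  refine ⟨S.image (MonoidHom.ofInjective hθ').symm, le_trans Finset.card_image_le hS, ?_⟩
  rw [Finset.coe_image]
  show Subgroup.closure ((MonoidHom.ofInjective hθ').symm.toMonoidHom '' (S : Set θ'.range)) = ⊤
  rw [← MonoidHom.map_closure, hgen, ← MonoidHom.range_eq_map, MonoidHom.range_eq_top]
  exact (MonoidHom.ofInjective hθ').symm.surjective

/-- An elementary abelian normal subgroup maximal with that property bounds the generators of all
subgroups of an odd `p`-group. -/
theorem exists_gens_le {P : Type*} [Group P] [Finite P] {p : ℕ} [Fact p.Prime] (hp : p ≠ 2)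
    (hP : IsPGroup p P) (E : Subgroup P) [E.Normal] (hE : Cfsg.IsElementaryAbelian p E)
    (hmax : ∀ B : Subgroup P, B.Normal → Cfsg.IsElementaryAbelian p B → E ≤ B → B = E)
    {d : ℕ} (hd : Nat.card E = p ^ d) (H : Subgroup P) :
    ∃ S : Finset P, S.card ≤ d + d * d / 4 ∧ Subgroup.closure (S : Set P) = H := by
  classical
  letI : CommGroup E := { (inferInstance : Group E) with mul_comm := hE.1.is_comm.comm }
  obtain ⟨e⟩ := Cfsg.Agent.H29.exists_coordinates_of_pow_eq_one (Q := E)
    (fun q => Subtype.ext (by simpa using hE.2 _ q.2)) hd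
  set ρ : H →* MulAut (Multiplicative (Fin d → ZMod p)) :=
    (MulAut.congr e).toMonoidHom.comp ((MulAut.conjNormal (H := E)).comp H.subtype) with hρ
  set N : Subgroup H := ρ.ker with hN
  have hker : ∀ x : H, x ∈ N ↔ ∀ a ∈ E, (x : P) * a = a * x := by
    intro x
    rw [hN, MonoidHom.mem_ker, hρ, MonoidHom.comp_apply, MonoidHom.comp_apply]
    refine ⟨fun h a ha => ?_, fun h => ?_⟩
    · have h1 : MulAut.conjNormal (H := E) (x : P) = 1 :=
        (MulAut.congr e).injective (by rw [map_one]; exact h)
      have h2 := congrArg Subtype.val (DFunLike.congr_fun h1 ⟨a, ha⟩)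
      rw [MulAut.conjNormal_apply] at h2
      rw [MulAut.one_apply] at h2
      exact mul_inv_eq_iff_eq_mul.1 h2
    · rw [show MulAut.conjNormal (H := E) (H.subtype x) = 1 from MulEquiv.ext fun a => Subtype.ext (by
        rw [MulAut.conjNormal_apply, MulAut.one_apply]
        exact mul_inv_eq_iff_eq_mul.2 (h a a.2)), map_one]
  -- generators of the image
  obtain ⟨T, hT, hTgen⟩ := exists_gens_of_faithful (IsPGroup.of_surjective (hP.to_subgroup H)
    ρ.rangeRestrict ρ.rangeRestrict_surjective) ρ.range.subtype ρ.range.subtype_injective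
  -- generators of the kernel
  set W : Subgroup N := ((E.subgroupOf H).subgroupOf N) with hW
  have hWmem : ∀ x : N, x ∈ W ↔ x ^ p = 1 := by
    intro x
    refine ⟨fun hx => Subtype.ext (Subtype.ext (by simpa using hE.2 _ hx)), fun hx => ?_⟩
    refine H83.mem_of_maximal_normal_elemAb hp hP hE hmax ?_ ((hker x.1).1 x.2)
    simpa using congrArg (fun y : N => ((y : H) : P)) hx
  have hWc : W ≤ Subgroup.center N := fun x hx => Subgroup.mem_center_iff.2 fun y =>
    Subtype.ext (Subtype.ext ((hker y.1).1 y.2 _ hx))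
  have hNp : IsPGroup p N := (hP.to_subgroup H).to_subgroup N
  have hpow : ∀ x : N, x ^ p ∈ frattini N := fun x => H6.pow_prime_mem_frattini hNp x
  have hidx := H71.pcentral_index_le hp _ N le_rfl hNp W hWmem hWc (frattini N) inferInstance hpow
  obtain ⟨r, hr⟩ := hNp.index (frattini N)
  have hWcard : Nat.card W ≤ p ^ d := by
    rw [← hd]
    exact Nat.card_le_card_of_injective (fun w : W => (⟨((w : N) : H), w.2⟩ : E))
      fun a b hab => Subtype.ext (Subtype.ext (Subtype.ext (congrArg (Subtype.val : E → P) hab)))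
  have hrd : r ≤ d := (Nat.pow_le_pow_iff_right (Fact.out : p.Prime).one_lt).1 (hr ▸ hidx.trans hWcard)
  obtain ⟨f, hf⟩ := exists_gens_of_frattini hNp hr
  choose lft hlft using fun y : ρ.range => y.2
  set S : Finset H := (Finset.univ.image fun i => ((f i : N) : H)) ∪ T.image lft with hS
  have hScard : S.card ≤ d + d * d / 4 :=
    (Finset.card_union_le _ _).trans (Nat.add_le_add
      (Finset.card_image_le.trans (by simpa using hrd)) (Finset.card_image_le.trans hT))
  have hNle : N ≤ Subgroup.closure (S : Set H) := by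
    have h1 : N = (Subgroup.closure (Set.range f)).map N.subtype := by
      rw [hf, ← MonoidHom.range_eq_map, Subgroup.range_subtype]
    rw [h1, MonoidHom.map_closure]
    refine Subgroup.closure_mono ?_
    rintro _ ⟨_, ⟨i, rfl⟩, rfl⟩
    simp [hS]
  have hStop : Subgroup.closure (S : Set H) = ⊤ := by
    rw [eq_top_iff]
    intro x _
    have h1 : (⊤ : Subgroup ρ.range) ≤ (Subgroup.closure (S : Set H)).map ρ.rangeRestrict := by
      rw [← hTgen, Subgroup.closure_le]
      intro y hy
      exact ⟨lft y, Subgroup.subset_closure (Finset.mem_union_right _ (Finset.mem_image_of_mem _ hy)), Subtype.ext (hlft y)⟩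
    obtain ⟨y, hy, hxy⟩ := h1 (Subgroup.mem_top (ρ.rangeRestrict x))
    have h2 : y⁻¹ * x ∈ N := by
      rw [hN, MonoidHom.mem_ker, map_mul, map_inv, inv_mul_eq_one]
      exact congrArg Subtype.val hxy
    simpa using mul_mem hy (hNle h2)
  refine ⟨S.image H.subtype, Finset.card_image_le.trans hScard, ?_⟩
  rw [Finset.coe_image, ← MonoidHom.map_closure, hStop, ← MonoidHom.range_eq_map,
    Subgroup.range_subtype]

end H73.NormalRank
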