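import Cfsg.Agent.H76.Zsigmondy

/-!
An odd prime power `r ^ a ∣ 2 ^ n - 1` whose multiples among `2 ^ d - 1` have `n ∣ d`.
-/

set_option autoImplicit false

namespace H73.OutArith

theorem cast_two_pow {k d : ℕ} (h : k ∣ 2 ^ d - 1) : (2 : ZMod k) ^ d = 1 := by
  have h1 : ((2 ^ d - 1 : ℕ) : ZMod k) = 0 := (ZMod.natCast_eq_zero_iff _ _).2 h
  rw [Nat.cast_sub Nat.one_le_two_pow, sub_eq_zero] at h1
  simpa using h1

/-- A good prime power for `n`. -/
theorem exists_good {n : ℕ} (hn : 1 ≤ n) :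
    ∃ r a : ℕ, r.Prime ∧ r ≠ 2 ∧ r ^ a ∣ 2 ^ n - 1 ∧ (∀ d, 0 < d → r ^ a ∣ 2 ^ d - 1 → n ∣ d) ∧
      (a ≤ 1 ∨ r = 3 ∧ n = 6 ∧ a = 2) := by
  rcases Nat.lt_or_ge n 3 with h3 | h3
  · interval_cases n
    · exact ⟨3, 0, by norm_num, by norm_num, by simp, fun d _ _ => one_dvd d, Or.inl (by norm_num)⟩
    · refine ⟨3, 1, by norm_num, by norm_num, by norm_num, fun d _ hd => ?_, Or.inl le_rfl⟩
      have e : orderOf (2 : ZMod (3 ^ 1)) = 2 := by
        rw [orderOf_eq_iff (by norm_num)]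
        refine ⟨by decide, fun m hm hm0 => ?_⟩
        interval_cases m
        decide
      exact e ▸ orderOf_dvd_of_pow_eq_one (cast_two_pow hd)
  · by_cases h6 : n = 6
    · subst h6
      refine ⟨3, 2, by norm_num, by norm_num, by norm_num, fun d _ hd => ?_, Or.inr ⟨rfl, rfl, rfl⟩⟩
      have e : orderOf (2 : ZMod (3 ^ 2)) = 6 := by
        rw [orderOf_eq_iff (by norm_num)]
        refine ⟨by decide, fun m hm hm0 => ?_⟩
        interval_cases m <;> decide
      exact e ▸ orderOf_dvd_of_pow_eq_one (cast_two_pow hd)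
    · obtain ⟨r, hr, hdvd, hord⟩ := H76.exists_primitive_two h3 h6
      refine ⟨r, 1, hr, fun h2 => ?_, by rwa [pow_one], fun d _ hd => ?_, Or.inl le_rfl⟩
      · subst h2
        have h1 : Odd (2 ^ n - 1) := Nat.Even.sub_odd Nat.one_le_two_pow
          ((Nat.even_pow).2 ⟨even_two, by omega⟩) odd_one
        rw [Nat.odd_iff] at h1
        omega
      · rw [pow_one] at hd
        exact hord ▸ orderOf_dvd_of_pow_eq_one (cast_two_pow hd)

end H73.OutArith
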