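import Mathlib

/-!
Perfect subgroups and the criterion "solvable iff every perfect subgroup is trivial".
-/

set_option autoImplicit false
set_option linter.unusedSectionVars false

namespace H73.OutPerf

open Subgroup
open scoped commutatorElement

variable {G H : Type*} [Group G] [Group H]

/-- The derived series of a subgroup, computed in the ambient group. -/
def derSub (N : Subgroup G) : ℕ → Subgroup G
  | 0 => N
  | n + 1 => ⁅derSub N n, derSub N n⁆

theorem derSub_succ_le (N : Subgroup G) (n : ℕ) : derSub N (n + 1) ≤ derSub N n :=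
  commutator_le.2 fun a ha b hb =>
    mul_mem (mul_mem (mul_mem ha hb) (inv_mem ha)) (inv_mem hb)

theorem derSub_le (N : Subgroup G) : ∀ n, derSub N n ≤ N
  | 0 => le_rfl
  | n + 1 => (derSub_succ_le N n).trans (derSub_le N n)

theorem exists_derSub_stable [Finite G] (N : Subgroup G) :
    ∃ n, ⁅derSub N n, derSub N n⁆ = derSub N n := by
  by_contra hne
  push Not at hne
  have hlt : ∀ n, Nat.card (derSub N (n + 1)) < Nat.card (derSub N n) := fun n =>
    lt_of_not_ge fun hge => hne n (Subgroup.eq_of_le_of_card_ge (derSub_succ_le N n) hge)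
  have key : ∀ n, Nat.card (derSub N n) + n ≤ Nat.card N := by
    intro n
    induction n with
    | zero => exact le_rfl
    | succ n ih => have := hlt n; omega
  have h1 := key (Nat.card N + 1)
  omega

theorem map_derSub (f : G →* H) (N : Subgroup G) :
    ∀ n, (derSub N n).map f = derSub (N.map f) n
  | 0 => rfl
  | n + 1 => by simp only [derSub, map_commutator, map_derSub f N n]

theorem le_derSub {P N : Subgroup G} (hP : ⁅P, P⁆ = P) (h : P ≤ N) : ∀ n, P ≤ derSub N n
  | 0 => h
  | n + 1 => hP.ge.trans (commutator_mono (le_derSub hP h n) (le_derSub hP h n))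

theorem eq_bot_of_isSolvable {P : Subgroup G} (hP : ⁅P, P⁆ = P) [Group.IsSolvable P] : P = ⊥ := by
  by_contra hne
  haveI : Nontrivial P := (Subgroup.nontrivial_iff_ne_bot P).2 hne
  have h1 : _root_.commutator P = ⊤ := by
    apply Subgroup.map_injective P.subtype_injective
    rw [_root_.commutator_def, map_commutator, ← MonoidHom.range_eq_map, P.range_subtype, hP]
  exact (Group.IsSolvable.commutator_lt_top_of_nontrivial P).ne h1

theorem eq_bot_of_le_solvable {P M : Subgroup G} (hP : ⁅P, P⁆ = P) (hle : P ≤ M)
    [Group.IsSolvable M] : P = ⊥ := by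
  haveI : Group.IsSolvable P :=
    Group.isSolvable_of_isSolvable_injective (Subgroup.inclusion_injective hle)
  exact eq_bot_of_isSolvable hP

theorem map_perfect (f : G →* H) {P : Subgroup G} (hP : ⁅P, P⁆ = P) :
    ⁅P.map f, P.map f⁆ = P.map f := by rw [← map_commutator, hP]

/-- A perfect subgroup mapping into a solvable group lies in the kernel. -/
theorem le_ker_of_solvable (f : G →* H) {P : Subgroup G} (hP : ⁅P, P⁆ = P) {M : Subgroup H}
    [Group.IsSolvable M] (h : P.map f ≤ M) : P ≤ f.ker :=
  (Subgroup.map_eq_bot_iff P).1 (eq_bot_of_le_solvable (map_perfect f hP) h)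

theorem le_ker_of_comm (f : G →* H) {P : Subgroup G} (hP : ⁅P, P⁆ = P)
    (h : ∀ a ∈ P, ∀ b ∈ P, f a * f b = f b * f a) : P ≤ f.ker := by
  refine hP.ge.trans (commutator_le.2 fun a ha b hb => ?_)
  rw [MonoidHom.mem_ker, commutatorElement_def, map_mul, map_mul, map_mul, map_inv, map_inv,
    h a ha b hb, mul_inv_cancel_right, mul_inv_cancel]

theorem isSolvable_of_perfect_trivial [Finite G] (N : Subgroup G)
    (h : ∀ P : Subgroup G, P ≤ N → ⁅P, P⁆ = P → P = ⊥) : Group.IsSolvable N := by
  obtain ⟨n, hn⟩ := exists_derSub_stable N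
  have h1 := h _ (derSub_le N n) hn
  refine (Group.isSolvable_def _).2 ⟨n, ?_⟩
  apply Subgroup.map_injective N.subtype_injective
  have key : ∀ k, (derivedSeries N k).map N.subtype = derSub N k := by
    intro k
    induction k with
    | zero => rw [derivedSeries_zero, ← MonoidHom.range_eq_map, N.range_subtype]; rfl
    | succ k ih => rw [derivedSeries_succ, map_commutator, ih]; rfl
  rw [key, h1, Subgroup.map_bot]

/-- A perfect subgroup of `M ⊔ N` is covered by a perfect subgroup of `N`. -/
theorem exists_perfect_lift [Finite G] (f : G →* H) {P N : Subgroup G} (hP : ⁅P, P⁆ = P)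
    (h : P.map f ≤ N.map f) :
    ∃ P' : Subgroup G, P' ≤ N ∧ ⁅P', P'⁆ = P' ∧ P.map f ≤ P'.map f := by
  obtain ⟨n, hn⟩ := exists_derSub_stable N
  exact ⟨_, derSub_le N n, hn, by rw [map_derSub]; exact le_derSub (map_perfect f hP) h n⟩

end H73.OutPerf
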