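import Mathlib

/-!
An anisotropic quadratic map `q : U → V` between elementary abelian 2-groups, preserved by a
2-group `T` commuting with a group `A` all whose non-zero invariant subgroups of `U` are at
least as big as `V`: then `T` induces a group of order at most two on `U`.
-/

set_option autoImplicit false
set_option linter.unusedSectionVars false
set_option linter.style.haveILetI false

namespace H73.OutQuad

variable {U V : Type*} [AddCommGroup U] [AddCommGroup V] [Finite U] [Finite V]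

/-- The data. -/
structure Setting (T A : Type*) [Group T] [Group A] [DistribMulAction T U] [DistribMulAction A U]
    (q : U → V) : Prop where
  two : ∀ u : U, u + u = 0
  twoV : ∀ v : V, v + v = 0
  add_left : ∀ x y z : U,
    q (x + y + z) + q (x + y) + q z = (q (x + z) + q x + q z) + (q (y + z) + q y + q z)
  zero : q 0 = 0
  aniso : ∀ u : U, q u = 0 → u = 0
  inv : ∀ (t : T) (u : U), q (t • u) = q u
  comm : ∀ (a : A) (t : T) (u : U), a • t • u = t • a • u
  big : ∀ W : AddSubgroup U, (∀ a : A, ∀ w ∈ W, a • w ∈ W) → W ≠ ⊥ → Nat.card V ≤ Nat.card W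
  pgroup : IsPGroup 2 T

/-- The polar map of `q`. -/
def B (q : U → V) (x y : U) : V := q (x + y) + q x + q y

variable {T A : Type*} [Group T] [Group A] [DistribMulAction T U] [DistribMulAction A U]
  {q : U → V}

/-- `t + 1`. -/
def f (t : T) : U →+ U := DistribSMul.toAddMonoidHom U t + AddMonoidHom.id U

omit [Finite U] in
theorem f_apply (t : T) (u : U) : f t u = t • u + u := rfl

namespace Setting

variable (h : Setting T A q)

include h

theorem B_add_left (x y z : U) : B q (x + y) z = B q x z + B q y z := h.add_left x y z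

omit h in
theorem B_comm (x y : U) : B q x y = B q y x := by
  unfold B; rw [add_comm x y]; abel

theorem B_add_right (x y z : U) : B q x (y + z) = B q x y + B q x z := by
  rw [B_comm, h.B_add_left, B_comm y, B_comm z]

theorem B_inv (t : T) (x y : U) : B q (t • x) (t • y) = B q x y := by
  simp only [B, ← smul_add, h.inv]

theorem eq_of_add (a b : U) (e : a + b = 0) : a = b := by
  calc a = a + (b + b) := by rw [h.two, add_zero]
    _ = b := by rw [← add_assoc, e, zero_add]

theorem smul_eq_iff (t : T) (u : U) : f t u = 0 ↔ t • u = u := by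
  rw [f_apply]
  exact ⟨h.eq_of_add _ _, fun e => by rw [e, h.two]⟩

theorem f_comm_A (a : A) (t : T) (u : U) : f t (a • u) = a • f t u := by
  rw [f_apply, f_apply, smul_add, h.comm]

theorem f_sq (s : T) (u : U) : f (s ^ 2) u = f s (f s u) := by
  simp only [f_apply, pow_two, mul_smul, smul_add]
  calc s • s • u + u = s • s • u + (s • u + s • u) + u := by rw [h.two, add_zero]
    _ = _ := by abel

theorem f_f {t : T} (ht : ∀ u : U, f (t ^ 2) u = 0) (u : U) : f t (f t u) = 0 := by
  rw [← h.f_sq]; exact ht u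

/-- The polar map kills range times kernel. -/
theorem B_range_ker (t : T) (y z : U) (hz : f t z = 0) : B q (f t y) z = 0 := by
  have hz' := (h.smul_eq_iff t z).1 hz
  have h1 : B q (t • y) z = B q y z := by
    conv_lhs => rw [← hz']
    exact h.B_inv t y z
  rw [f_apply, h.B_add_left, h1, h.twoV]

theorem q_f (t : T) (v : U) : q (f t v) = B q v (f t v) := by
  have h1 : v + f t v = t • v := by
    rw [f_apply, add_comm (t • v), ← add_assoc, h.two, zero_add]
  rw [B, h1, h.inv, h.twoV, zero_add]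

theorem q_add {x y : U} (e : B q x y = 0) : q (x + y) = q x + q y := by
  unfold B at e
  calc q (x + y) = q (x + y) + (q x + q x) + (q y + q y) := by rw [h.twoV, h.twoV, add_zero, add_zero]
    _ = (q (x + y) + q x + q y) + (q x + q y) := by abel
    _ = q x + q y := by rw [e, zero_add]

theorem card_le {W : AddSubgroup U} (hW : ∀ x ∈ W, ∀ y ∈ W, B q x y = 0) :
    Nat.card W ≤ Nat.card V := by
  refine Nat.card_le_card_of_injective (fun w : W => q (w : U)) fun a b e => Subtype.ext ?_
  refine h.eq_of_add _ _ (h.aniso _ ?_)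
  rw [h.q_add (hW _ a.2 _ b.2), show q (a : U) = q (b : U) from e, h.twoV]

theorem range_inv (t : T) : ∀ a : A, ∀ w ∈ (f t : U →+ U).range, a • w ∈ (f t : U →+ U).range := by
  rintro a _ ⟨y, rfl⟩
  exact ⟨a • y, h.f_comm_A a t y⟩

/-- The range of `t + 1`, `t² = 1`, has no proper invariant subgroup. -/
theorem range_min {t : T} (ht : ∀ u : U, f (t ^ 2) u = 0) (W : AddSubgroup U)
    (hW : ∀ a : A, ∀ w ∈ W, a • w ∈ W) (hle : W ≤ (f t : U →+ U).range) :
    W = ⊥ ∨ W = (f t : U →+ U).range := by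
  by_cases h0 : W = ⊥
  · exact Or.inl h0
  refine Or.inr (AddSubgroup.eq_of_le_of_card_ge hle ((h.card_le ?_).trans (h.big W hW h0)))
  rintro _ ⟨y, rfl⟩ _ ⟨z, rfl⟩
  exact h.B_range_ker t y _ (h.f_f ht z)

/-- A nilpotent map commuting with everything kills the range. -/
theorem f_range_zero {t s : T} (ht : ∀ u : U, f (t ^ 2) u = 0)
    (hc : ∀ u : U, f s (f t u) = f t (f s u)) {k : ℕ} (hk : ∀ u : U, (f s)^[k] (f t u) = 0) (u : U) :
    f s (f t u) = 0 := by
  set L := (f t : U →+ U).range with hL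
  have hle : L.map (f s) ≤ L := by
    rintro _ ⟨_, ⟨y, rfl⟩, rfl⟩
    exact ⟨f s y, (hc y).symm⟩
  have hinv : ∀ a : A, ∀ w ∈ L.map (f s), a • w ∈ L.map (f s) := by
    rintro a _ ⟨l, hl, rfl⟩
    exact ⟨a • l, h.range_inv t a l hl, h.f_comm_A a s l⟩
  rcases h.range_min ht _ hinv hle with h0 | h1
  · exact (AddSubgroup.eq_bot_iff_forall _).1 h0 _ ⟨_, ⟨u, rfl⟩, rfl⟩
  · have key : ∀ j, ∀ l ∈ L, ∃ l' ∈ L, (f s)^[j] l' = l := by
      intro j
      induction j with
      | zero => exact fun l hl => ⟨l, hl, rfl⟩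
      | succ j ih =>
        intro l hl
        obtain ⟨l', hl', rfl⟩ := ih l hl
        obtain ⟨l'', hl'', e⟩ := h1.ge hl'
        exact ⟨l'', hl'', by rw [Function.iterate_succ_apply, e]⟩
    obtain ⟨l', ⟨y, rfl⟩, e⟩ := key k (f t u) ⟨u, rfl⟩
    rw [← e, hk, map_zero]

/-- `s⁴ = 1` on `U` forces `s² = 1` on `U`. -/
theorem sq_trivial_step {s : T} (hs : ∀ u : U, f ((s ^ 2) ^ 2) u = 0) (u : U) :
    f (s ^ 2) u = 0 := by
  have hc : ∀ u : U, f s (f (s ^ 2) u) = f (s ^ 2) (f s u) := fun u => by rw [h.f_sq, h.f_sq]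
  have h4 : ∀ u : U, (f s)^[2] (f (s ^ 2) u) = 0 := fun u => by
    show f s (f s (f (s ^ 2) u)) = 0
    rw [← h.f_sq]; exact h.f_f hs u
  have h3 := h.f_range_zero hs hc h4
  apply h.aniso
  have hz : f (s ^ 2) (f s u) = 0 := by rw [← hc]; exact h3 u
  have e := h.q_f s (f s u)
  rw [← h.f_sq] at e
  rw [e, B_comm]
  exact h.B_range_ker (s ^ 2) u _ hz

/-- The action of `T` has exponent two. -/
theorem sq_trivial (s : T) (u : U) : f (s ^ 2) u = 0 := by
  obtain ⟨k, hk⟩ := h.pgroup s
  suffices H : ∀ j, ∀ s : T, s ^ (2 ^ (j + 1)) = 1 → ∀ u : U, f (s ^ 2) u = 0 by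
    exact H k s (by rw [pow_succ, pow_mul, hk, one_pow]) u
  intro j
  induction j with
  | zero =>
    intro s hs u
    rw [show s ^ 2 = 1 by simpa using hs, h.smul_eq_iff, one_smul]
  | succ j ih =>
    intro s hs u
    refine h.sq_trivial_step (fun v => ih (s ^ 2) ?_ v) u
    rw [← pow_mul, ← pow_succ']; exact hs

theorem f_f' (t : T) (u : U) : f t (f t u) = 0 := h.f_f (h.sq_trivial t) u

theorem smul_comm_T (s t : T) (u : U) : s • t • u = t • s • u := by
  have inv2 : ∀ (x : T) (v : U), x • x • v = v := fun x v => by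
    rw [← mul_smul, ← pow_two]; exact (h.smul_eq_iff _ _).1 (h.sq_trivial x v)
  have e := inv2 (s * t) u
  rw [mul_smul, mul_smul] at e
  calc s • t • u = t • t • s • t • u := (inv2 t _).symm
    _ = t • s • s • t • s • t • u := by rw [inv2 s]
    _ = t • s • u := by rw [e]

theorem f_comm_T (s t : T) (u : U) : f s (f t u) = f t (f s u) := by
  simp only [f_apply, smul_add, h.smul_comm_T s t u]; abel

theorem f_f_T (s t : T) (u : U) : f s (f t u) = 0 :=
  h.f_range_zero (h.sq_trivial t) (h.f_comm_T s t) (k := 2)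
    (fun v => by show f s (f s (f t v)) = 0; rw [h.f_f']) u

theorem range_eq {s t : T} (hs : ∃ u : U, f s u ≠ 0) (ht : ∃ u : U, f t u ≠ 0) :
    (f s : U →+ U).range = (f t : U →+ U).range := by
  set Ls := (f s : U →+ U).range with hLs
  set Lt := (f t : U →+ U).range with hLt
  have hne : ∀ x : T, (∃ u : U, f x u ≠ 0) → (f x : U →+ U).range ≠ ⊥ := by
    rintro x ⟨u, hu⟩ e
    exact hu ((AddSubgroup.eq_bot_iff_forall _).1 e _ ⟨u, rfl⟩)
  have hB : ∀ x ∈ Ls ⊔ Lt, ∀ y ∈ Ls ⊔ Lt, B q x y = 0 := by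
    intro x hx y hy
    obtain ⟨_, ⟨a, rfl⟩, _, ⟨b, rfl⟩, rfl⟩ := AddSubgroup.mem_sup.1 hx
    obtain ⟨_, ⟨c, rfl⟩, _, ⟨d, rfl⟩, rfl⟩ := AddSubgroup.mem_sup.1 hy
    rw [h.B_add_left, h.B_add_right, h.B_add_right, h.B_range_ker s a _ (h.f_f' s c),
      h.B_range_ker s a _ (h.f_f_T s t d), h.B_range_ker t b _ (h.f_f_T t s c),
      h.B_range_ker t b _ (h.f_f' t d)]
    simp
  have h1 := h.card_le hB
  have e1 : Ls = Ls ⊔ Lt := AddSubgroup.eq_of_le_of_card_ge le_sup_left
    (h1.trans (h.big _ (h.range_inv s) (hne s hs)))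
  have e2 : Lt = Ls ⊔ Lt := AddSubgroup.eq_of_le_of_card_ge le_sup_right
    (h1.trans (h.big _ (h.range_inv t) (hne t ht)))
  exact e1.trans e2.symm

theorem ker_le {s t : T} (hs : ∃ u : U, f s u ≠ 0) (ht : ∃ u : U, f t u ≠ 0) {y : U}
    (hy : f s y = 0) : f t y = 0 := by
  apply h.aniso
  rw [h.q_f, B_comm]
  obtain ⟨z, hz⟩ := (h.range_eq hs ht).ge ⟨y, rfl⟩
  rw [← hz]
  exact h.B_range_ker s z y hy

omit h in
theorem exists_lift (t : T) (l : (f t : U →+ U).range) : ∃ y, f t y = (l : U) := l.2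

/-- Two non-trivial elements of `T` act equally. -/
theorem unique {s t : T} (hs : ∃ u : U, f s u ≠ 0) (ht : ∃ u : U, f t u ≠ 0) (u : U) :
    s • u = t • u := by
  classical
  by_contra hne
  have hst : ∃ u : U, f (s * t) u ≠ 0 := by
    refine ⟨u, fun e => hne ?_⟩
    have e1 : s • t • u = u := by rw [← mul_smul]; exact (h.smul_eq_iff _ _).1 e
    calc s • u = s • s • t • u := by rw [e1]
      _ = t • u := by rw [← mul_smul, ← pow_two]; exact (h.smul_eq_iff _ _).1 (h.sq_trivial s _)
  set L := (f s : U →+ U).range with hL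
  have hLinv := h.range_inv s
  let lift : L → U := fun l => Classical.choose (exists_lift s l)
  have hlift : ∀ l : L, f s (lift l) = (l : U) := fun l => Classical.choose_spec (exists_lift s l)
  have hmem : ∀ y, f t y ∈ L := fun y => (h.range_eq hs ht).ge ⟨y, rfl⟩
  have hwd : ∀ y y' : U, f s y = f s y' → f t y = f t y' := fun y y' e => by
    have h1 : f t (y + y') = 0 := h.ker_le hs ht (by rw [map_add, e, h.two])
    rw [map_add] at h1
    exact h.eq_of_add _ _ h1
  let θ : L →+ L :=
    { toFun := fun l => ⟨f t (lift l), hmem _⟩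
      map_zero' := Subtype.ext <| by
        show f t (lift 0) = 0
        rw [hwd (lift 0) 0 (by rw [hlift, map_zero]; rfl), map_zero]
      map_add' := fun a b => Subtype.ext <| by
        show f t (lift (a + b)) = f t (lift a) + f t (lift b)
        rw [← map_add]
        exact hwd _ _ (by rw [hlift, map_add, hlift, hlift]; rfl) }
  let A' : L → L → V := fun l m => B q (l : U) (lift m)
  have hBwd : ∀ (l : L) y y', f s y = f s y' → B q (l : U) y = B q (l : U) y' := by
    intro l y y' e
    obtain ⟨z, hz⟩ := exists_lift s l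
    have h1 := h.B_range_ker s z (y + y') (by rw [map_add, e, h.two])
    rw [h.B_add_right, hz] at h1
    calc B q (l : U) y = B q (l : U) y + (B q (l : U) y' + B q (l : U) y') := by
          rw [h.twoV, add_zero]
      _ = B q (l : U) y' := by rw [← add_assoc, h1, zero_add]
  have hbal0 : ∀ (x : T) (y z : U), B q (f x y) z = B q y (f x z) := by
    intro x y z
    have h1 : B q (x • y) z = B q y (x • z) := by
      conv_rhs => rw [← h.B_inv x, ← mul_smul, ← pow_two,
        (h.smul_eq_iff _ _).1 (h.sq_trivial x z)]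
    rw [f_apply, f_apply, h.B_add_left, h.B_add_right, h1]
  have hsym : ∀ l m, A' l m = A' m l := fun l m => by
    show B q (l : U) (lift m) = B q (m : U) (lift l)
    conv_lhs => rw [← hlift l]
    rw [hbal0, hlift, B_comm]
  have hbal : ∀ l m, A' (θ l) m = A' l (θ m) := fun l m => by
    rw [hsym l (θ m)]
    show B q (f t (lift l)) (lift m) = B q (f t (lift m)) (lift l)
    rw [hbal0, B_comm]
  have hdiag : ∀ l : L, A' l l = q (l : U) := fun l => by
    show B q (l : U) (lift l) = _
    conv_rhs => rw [← hlift l]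
    rw [h.q_f, B_comm, hlift]
  have hdiag' : ∀ l : L, A' (θ l) l = q (θ l : U) := fun l => by
    show B q (f t (lift l)) (lift l) = q (f t (lift l))
    rw [h.q_f t, B_comm]
  have hA'add : ∀ l m n, A' l (m + n) = A' l m + A' l n := fun l m n => by
    show B q (l : U) (lift (m + n)) = B q (l : U) (lift m) + B q (l : U) (lift n)
    rw [← h.B_add_right]
    exact hBwd l _ _ (by rw [hlift, map_add, hlift, hlift]; rfl)
  let u₀ : AddMonoid.End L := θ.comp θ + θ
  have hbalu : ∀ l m, A' (u₀ l) m = A' l (u₀ m) := fun l m => by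
    show A' (θ (θ l) + θ l) m = A' l (θ (θ m) + θ m)
    rw [hA'add, hsym, hA'add, hsym m, hsym m, hbal, hbal, hbal]
  have hkey : ∀ l : L, A' l (u₀ l) = 0 := fun l => by
    show A' l (θ (θ l) + θ l) = 0
    rw [hA'add, ← hbal, hdiag (θ l), ← hdiag', hsym l, h.twoV]
  have hinj : ∀ l, u₀ l = 0 → l = 0 := by
    intro l hl
    have h0 : θ (θ l) + θ l = 0 := hl
    have h1 : ∀ m, θ m = 0 → m = 0 := by
      intro m hm
      have : f t (lift m) = 0 := congrArg Subtype.val hm
      have h2 := h.ker_le ht hs this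
      rw [hlift] at h2
      exact Subtype.ext h2
    apply h1
    set m := θ l
    have h3 : f t (lift m) + (m : U) = 0 := congrArg Subtype.val h0
    have h4 : f (s * t) (lift m) = 0 := by
      have h5 : f (s * t) (lift m) = f s (f t (lift m)) + f t (lift m) + f s (lift m) := by
        simp only [f_apply, mul_smul, smul_add]
        have h7 := h.two (s • lift m)
        have h8 := h.two (t • lift m)
        have h9 := h.two (lift m)
        calc s • t • lift m + lift m
            = s • t • lift m + lift m + (s • lift m + s • lift m)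
              + (t • lift m + t • lift m) + (lift m + lift m) := by
              rw [h7, h8, h9, add_zero, add_zero, add_zero]
          _ = _ := by abel
      rw [h5, h.f_f_T, zero_add, hlift, h3]
    have h6 := h.ker_le hst hs h4
    rw [hlift] at h6
    exact Subtype.ext h6
  have hLne : ∃ l : L, l ≠ 0 := by
    obtain ⟨y, hy⟩ := hs
    exact ⟨⟨f s y, y, rfl⟩, fun e => hy (congrArg Subtype.val e)⟩
  have hθA : ∀ (a : A) (l : L), (θ ⟨a • (l : U), hLinv a l l.2⟩ : U) = a • (θ l : U) := by
    intro a l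
    show f t (lift ⟨a • (l : U), _⟩) = a • f t (lift l)
    rw [← h.f_comm_A]
    exact hwd _ _ (by rw [hlift, h.f_comm_A, hlift])
  have hu₀A : ∀ (n : ℕ) (a : A) (l : L),
      ((u₀ ^ n) ⟨a • (l : U), hLinv a l l.2⟩ : U) = a • ((u₀ ^ n) l : U) := by
    intro n a l
    induction n generalizing l with
    | zero => simp
    | succ n ih =>
      have e1 : (⟨a • ((u₀ l : L) : U), hLinv a _ (u₀ l).2⟩ : L) =
          u₀ ⟨a • (l : U), hLinv a l l.2⟩ := by
        refine Subtype.ext ?_
        show a • ((θ (θ l) : U) + (θ l : U)) =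
          (θ (θ ⟨a • (l : U), hLinv a l l.2⟩) : U) + (θ ⟨a • (l : U), hLinv a l l.2⟩ : U)
        have e0 : θ ⟨a • (l : U), hLinv a l l.2⟩ = ⟨a • (θ l : U), hLinv a _ (θ l).2⟩ :=
          Subtype.ext (hθA a l)
        rw [e0, hθA a (θ l), smul_add]
      rw [pow_succ, AddMonoid.End.coe_mul, Function.comp_apply, Function.comp_apply, ← e1, ih]
  have hfin : ∃ N, 0 < N ∧ u₀ ^ N = 1 := by
    have hb : Function.Injective u₀ := by
      intro a b e
      have h1 : u₀ (a - b) = 0 := by rw [map_sub, e, sub_self]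
      exact sub_eq_zero.1 (hinj _ h1)
    haveI : Finite (L → L) := Pi.finite
    haveI : Finite (AddMonoid.End L) :=
      Finite.of_injective (fun φ : AddMonoid.End L => ((φ : L →+ L) : L → L)) DFunLike.coe_injective
    obtain ⟨i, j, hij, e⟩ := Finite.exists_ne_map_eq_of_infinite (fun n : ℕ => u₀ ^ n)
    have hpi : ∀ n, Function.Injective (u₀ ^ n : AddMonoid.End L) := by
      intro n
      rw [AddMonoid.End.coe_pow]
      exact hb.iterate n
    rcases Nat.lt_or_gt_of_ne hij with hlt | hlt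
    · refine ⟨j - i, by omega, AddMonoidHom.ext fun l => hpi i ?_⟩
      have e' : u₀ ^ i = u₀ ^ (i + (j - i)) := by
        rw [Nat.add_sub_cancel' hlt.le]; exact e
      calc (u₀ ^ i) ((u₀ ^ (j - i)) l) = (u₀ ^ (i + (j - i))) l := by rw [pow_add]; rfl
        _ = (u₀ ^ i) ((1 : AddMonoid.End L) l) := by rw [← e']; rfl
    · refine ⟨i - j, by omega, AddMonoidHom.ext fun l => hpi j ?_⟩
      have e' : u₀ ^ j = u₀ ^ (j + (i - j)) := by
        rw [Nat.add_sub_cancel' hlt.le]; exact e.symm
      calc (u₀ ^ j) ((u₀ ^ (i - j)) l) = (u₀ ^ (j + (i - j))) l := by rw [pow_add]; rfl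
        _ = (u₀ ^ j) ((1 : AddMonoid.End L) l) := by rw [← e']; rfl
  obtain ⟨N, ⟨hN0, hN⟩, hmin⟩ : ∃ N, (0 < N ∧ u₀ ^ N = 1) ∧
      ∀ M, 0 < M → u₀ ^ M = 1 → N ≤ M :=
    ⟨Nat.find hfin, Nat.find_spec hfin, fun M hM hM' => Nat.find_min' hfin ⟨hM, hM'⟩⟩
  have hodd : Odd N := by
    by_contra hev
    rw [Nat.not_odd_iff_even] at hev
    obtain ⟨M, rfl⟩ := hev
    have hvM : ∀ l, (u₀ ^ M) ((u₀ ^ M) l) = l := fun l => by
      have := congrArg (fun φ : AddMonoid.End L => φ l) hN
      simpa [pow_add] using this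
    let W : AddSubgroup U :=
      { carrier := {w | ∃ l : L, (l : U) = w ∧ (u₀ ^ M) l = l}
        zero_mem' := ⟨0, rfl, map_zero _⟩
        add_mem' := by
          rintro _ _ ⟨a, rfl, ha⟩ ⟨b, rfl, hb⟩
          exact ⟨a + b, rfl, by rw [map_add, ha, hb]⟩
        neg_mem' := by
          rintro _ ⟨a, rfl, ha⟩
          exact ⟨-a, rfl, by rw [map_neg, ha]⟩ }
    have hWne : W ≠ ⊥ := by
      intro e
      obtain ⟨l, hl⟩ := hLne
      have h1 := (AddSubgroup.eq_bot_iff_forall _).1 e _
        ⟨l + (u₀ ^ M) l, rfl, by rw [map_add, hvM, add_comm]⟩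
      have h2 : l + (u₀ ^ M) l = 0 := Subtype.ext h1
      have h3 : (u₀ ^ M) l = l := by
        refine Subtype.ext (h.eq_of_add _ _ ?_)
        rw [add_comm, ← AddSubgroup.coe_add, h2]; rfl
      exact hl (Subtype.ext ((AddSubgroup.eq_bot_iff_forall _).1 e _ ⟨l, rfl, h3⟩))
    have hWinv : ∀ a : A, ∀ w ∈ W, a • w ∈ W := by
      rintro a _ ⟨l, rfl, hl⟩
      refine ⟨⟨a • (l : U), hLinv a l l.2⟩, rfl, Subtype.ext ?_⟩
      rw [hu₀A, hl]
    rcases h.range_min (h.sq_trivial s) W hWinv (by rintro _ ⟨l, rfl, -⟩; exact l.2) with h0 | h1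
    · exact hWne h0
    · have hM1 : u₀ ^ M = 1 := by
        refine AddMonoidHom.ext fun l => ?_
        obtain ⟨l', hl', e⟩ := h1.ge l.2
        obtain rfl : l' = l := Subtype.ext hl'
        exact e
      have := hmin M (by omega) hM1
      omega
  obtain ⟨j, hj⟩ := hodd
  obtain ⟨k, hk⟩ := hLne
  refine hk (Subtype.ext (h.aniso _ ?_))
  have hpow : ∀ n l m, A' ((u₀ ^ n) l) m = A' l ((u₀ ^ n) m) := by
    intro n
    induction n with
    | zero => intro l m; rfl
    | succ n ih =>
      intro l m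
      rw [pow_succ', AddMonoid.End.coe_mul, Function.comp_apply, hbalu, ih]
      congr 1
      rw [Function.comp_apply, ← Function.comp_apply (f := ⇑(u₀ ^ n)) (g := ⇑u₀),
        ← AddMonoid.End.coe_mul, ← pow_succ, pow_succ', AddMonoid.End.coe_mul]
      rfl
  have h1 := hkey ((u₀ ^ j) k)
  rw [hpow] at h1
  have h2 : (u₀ ^ j) (u₀ ((u₀ ^ j) k)) = k := by
    have h3 : u₀ ^ j * (u₀ * u₀ ^ j) = 1 := by
      rw [← pow_succ', ← pow_add, show j + (j + 1) = N by omega, hN]
    exact congrArg (fun φ : AddMonoid.End L => φ k) h3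
  rw [h2, hdiag] at h1
  exact h1

end Setting

end H73.OutQuad
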