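import Cfsg.Agent.H73.OutPerfect
import Cfsg.Agent.H29.FrattiniBasis
import Cfsg.Agent.H31.Basic
import Cfsg.Agent.H33.TwoPrime

/-!
`GL(n,2)` has no perfect subgroup normalising an `r`-subgroup with all orbits divisible by a good
prime power.
-/

set_option autoImplicit false
set_option linter.unusedSectionVars false
set_option linter.style.haveILetI false

namespace H73.OutTrans

open Subgroup

universe u

variable {E : Type u} [Group E] [Finite E]

/-- An invariant subgroup all whose orbits are divisible by `m` has size large. -/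
theorem dvd_card_sub_one {H : Type*} [Group H] {X : Type*} [MulAction H X] [Finite X] (m : ℕ)
    (h : ∀ x : X, m ∣ Nat.card (MulAction.orbit H x)) : m ∣ Nat.card X := by
  haveI : Fintype (MulAction.orbitRel.Quotient H X) := Fintype.ofFinite _
  rw [Nat.card_congr (MulAction.selfEquivSigmaOrbits H X), Nat.card_sigma]
  exact Finset.dvd_sum fun i _ => h _

theorem invariant_eq_top (hE2 : ∀ e : E, e * e = 1) {n m : ℕ} (hcard : Nat.card E = 2 ^ n)
    (hgood : ∀ d, 0 < d → m ∣ 2 ^ d - 1 → n ∣ d) (Q : Subgroup (MulAut E))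
    (horb : ∀ e : E, e ≠ 1 → m ∣ Nat.card (MulAction.orbit Q e)) (W : Subgroup E)
    (hW : ∀ q ∈ Q, ∀ w ∈ W, q w ∈ W) (hne : W ≠ ⊥) : W = ⊤ := by
  haveI : Fact (Nat.Prime 2) := ⟨Nat.prime_two⟩
  obtain ⟨d, hd⟩ : ∃ d, Nat.card W = 2 ^ d := by
    refine (IsPGroup.iff_card (p := 2)).1 fun v => ⟨1, ?_⟩
    rw [pow_one, pow_two]
    exact Subtype.ext (hE2 _)
  have hd0 : 0 < d := by
    rcases Nat.eq_zero_or_pos d with rfl | h0
    · exact absurd (Subgroup.card_eq_one.1 (by rw [hd, pow_zero])) hne
    · exact h0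
  let X := {w : W // w ≠ 1}
  letI : MulAction Q X :=
    { smul := fun c w => ⟨⟨(c : MulAut E) (w : W), hW c c.2 _ (w : W).2⟩, fun e => w.2 (Subtype.ext
        ((EmbeddingLike.map_eq_one_iff (f := (c : MulAut E))).1 (congrArg Subtype.val e)))⟩
      one_smul := fun _ => rfl
      mul_smul := fun _ _ _ => rfl }
  have horbX : ∀ w : X, m ∣ Nat.card (MulAction.orbit Q w) := by
    intro w
    have h1 : MulAction.stabilizer Q w ≤ MulAction.stabilizer Q ((w : W) : E) := by
      intro c hc
      exact congrArg (fun v : X => ((v : W) : E)) (MulAction.mem_stabilizer_iff.1 hc)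
    rw [Nat.card_congr (MulAction.orbitEquivQuotientStabilizer Q w)]
    refine dvd_trans ?_ (Subgroup.index_dvd_of_le h1)
    rw [Subgroup.index_eq_card, ← Nat.card_congr (MulAction.orbitEquivQuotientStabilizer Q _)]
    exact horb _ fun e => w.2 (Subtype.ext e)
  have h2 := dvd_card_sub_one m horbX
  classical
  haveI : Fintype W := Fintype.ofFinite W
  rw [Nat.card_eq_fintype_card, Fintype.card_subtype_compl, Fintype.card_subtype_eq,
    ← Nat.card_eq_fintype_card, hd] at h2
  have h3 := Nat.le_of_dvd hd0 (hgood d hd0 h2)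
  refine Subgroup.eq_top_of_le_card _ ?_
  rw [hcard, hd]
  exact Nat.pow_le_pow_right two_pos h3

/-- A group acting irreducibly has commutative centraliser; if abelian it is cyclic. -/
theorem schur (hE2 : ∀ e : E, e * e = 1) (Q : Subgroup (MulAut E))
    (hirr : ∀ W : Subgroup E, (∀ q ∈ Q, ∀ w ∈ W, q w ∈ W) → W ≠ ⊥ → W = ⊤) :
    (∀ k ∈ centralizer (Q : Set (MulAut E)), ∀ l ∈ centralizer (Q : Set (MulAut E)),
      k * l = l * k) ∧ ((∀ a ∈ Q, ∀ b ∈ Q, a * b = b * a) → IsCyclic Q) := by
  classical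
  letI : CommGroup E :=
    { (inferInstance : Group E) with
      mul_comm := fun a b => by
        have inv_self : ∀ v : E, v⁻¹ = v := fun v => inv_eq_of_mul_eq_one_right (hE2 v)
        calc a * b = (a * b)⁻¹ := (inv_self _).symm
          _ = b * a := by rw [mul_inv_rev, inv_self, inv_self] }
  let φ : MulAut E →* AddMonoid.End (Additive E) :=
    { toFun := fun k => MonoidHom.toAdditive k.toMonoidHom
      map_one' := rfl
      map_mul' := fun _ _ => rfl }
  have hφ : Function.Injective φ := fun k l h => MulEquiv.ext fun x =>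
    congrArg Additive.toMul (DFunLike.congr_fun h (Additive.ofMul x))
  rcases subsingleton_or_nontrivial E with hs | hnt
  · haveI : Subsingleton (MulAut E) := ⟨fun a b => MulEquiv.ext fun x => Subsingleton.elim _ _⟩
    exact ⟨fun _ _ _ _ => Subsingleton.elim _ _, fun _ => inferInstance⟩
  let K := Subring.centralizer (φ '' (Q : Set (MulAut E)))
  haveI : Finite (AddMonoid.End (Additive E)) :=
    Finite.of_injective (fun f : AddMonoid.End (Additive E) => ((f : Additive E →+ Additive E) : Additive E → Additive E))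
      DFunLike.coe_injective
  haveI : Nontrivial K := ⟨⟨0, 1, fun h => by
    obtain ⟨x, hx⟩ := exists_ne (1 : E)
    exact hx (congrArg Additive.toMul
      (DFunLike.congr_fun (congrArg Subtype.val h) (Additive.ofMul x))).symm⟩⟩
  have hinj : ∀ f : K, f ≠ 0 → ∀ x, (f : AddMonoid.End (Additive E)) x = 0 → x = 0 := by
    intro f hf x hx
    let W : Subgroup E :=
      { carrier := {e | (f : AddMonoid.End (Additive E)) (Additive.ofMul e) = 0}
        one_mem' := map_zero _
        mul_mem' := fun {a b} ha hb => (map_add (f : AddMonoid.End (Additive E)) (Additive.ofMul a) (Additive.ofMul b)).trans ((congrArg₂ (· + ·) ha hb).trans (add_zero 0))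
        inv_mem' := fun {a} ha => (map_neg (f : AddMonoid.End (Additive E)) (Additive.ofMul a)).trans ((congrArg Neg.neg ha).trans neg_zero) }
    have hWinv : ∀ q ∈ Q, ∀ w ∈ W, q w ∈ W := by
      intro q hq w hw
      have h1 := Subring.mem_centralizer_iff.1 f.2 (φ q) ⟨q, hq, rfl⟩
      have h2 := DFunLike.congr_fun h1 (Additive.ofMul w)
      simp only [AddMonoid.End.coe_mul, Function.comp_apply] at h2
      show (f : AddMonoid.End (Additive E)) (φ q (Additive.ofMul w)) = 0
      rw [← h2, show (f : AddMonoid.End (Additive E)) (Additive.ofMul w) = 0 from hw, map_zero]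
    by_cases hWb : W = ⊥
    · exact congrArg Additive.ofMul
        ((Subgroup.eq_bot_iff_forall _).1 hWb (Additive.toMul x) hx)
    · exact absurd (show f = 0 from Subtype.ext (AddMonoidHom.ext fun y =>
        (hirr W hWinv hWb).ge (Subgroup.mem_top (Additive.toMul y)))) hf
  haveI : NoZeroDivisors K := ⟨fun {a b} h => by
    by_cases ha : a = 0
    · exact Or.inl ha
    · exact Or.inr (Subtype.ext (AddMonoidHom.ext fun y =>
        hinj a ha _ (DFunLike.congr_fun (congrArg Subtype.val h) y)))⟩
  haveI : IsDomain K := NoZeroDivisors.to_isDomain K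
  have hcomm := (Finite.isDomain_to_isField K).mul_comm
  have hmem : ∀ k ∈ centralizer (Q : Set (MulAut E)), φ k ∈ K := by
    intro k hk
    refine Subring.mem_centralizer_iff.2 ?_
    rintro _ ⟨q, hq, rfl⟩
    rw [← map_mul, ← map_mul, mem_centralizer_iff.1 hk q hq]
  refine ⟨fun k hk l hl => hφ ?_, fun hab => ?_⟩
  · rw [map_mul, map_mul]
    exact congrArg Subtype.val (hcomm ⟨_, hmem k hk⟩ ⟨_, hmem l hl⟩)
  · letI : CommRing K := { (inferInstance : Ring K) with mul_comm := hcomm }
    haveI : IsDomain K := NoZeroDivisors.to_isDomain K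
    have hQK : ∀ q : Q, φ q ∈ K := fun q =>
      hmem _ (mem_centralizer_iff.2 fun x hx => hab x hx q q.2)
    exact isCyclic_of_injective_ringHom
      ({ toFun := fun q : Q => (⟨φ q, hQK q⟩ : K)
         map_one' := Subtype.ext (map_one φ)
         map_mul' := fun a b => Subtype.ext (map_mul φ _ _) } : Q →* K)
      fun a b h => Subtype.ext (hφ (congrArg Subtype.val h))

/-- No perfect group of automorphisms normalises such a subgroup. -/
theorem perfect_eq_bot (hE2 : ∀ e : E, e * e = 1) {r a n : ℕ} [Fact r.Prime]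
    (hcard : Nat.card E = 2 ^ n) (hgood : ∀ d, 0 < d → r ^ a ∣ 2 ^ d - 1 → n ∣ d)
    (hcase : a ≤ 1 ∨ r = 3 ∧ n = 6 ∧ a = 2) (Q P : Subgroup (MulAut E)) (hQ : IsPGroup r Q)
    (horb : ∀ e : E, e ≠ 1 → r ^ a ∣ Nat.card (MulAction.orbit Q e))
    (hP : ⁅P, P⁆ = P) (hPQ : P ≤ Subgroup.normalizer (Q : Set (MulAut E))) : P = ⊥ := by
  classical
  have hirr := invariant_eq_top hE2 hcard hgood Q horb
  obtain ⟨hCcomm, hcyc⟩ := schur hE2 Q hirr
  -- it suffices to centralise `Q`
  suffices hcent : P ≤ centralizer (Q : Set (MulAut E)) by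
    refine le_bot_iff.1 (hP.ge.trans (commutator_le.2 fun x hx y hy => ?_))
    rw [Subgroup.mem_bot, commutatorElement_eq_one_iff_mul_comm]
    exact hCcomm x (hcent hx) y (hcent hy)
  let c : P →* MulAut Q :=
    { toFun := fun p =>
        { toFun := fun q => ⟨(p : MulAut E) * q * (p : MulAut E)⁻¹,
            (Subgroup.mem_normalizer_iff.1 (hPQ p.2) _).1 q.2⟩
          invFun := fun q => ⟨(p : MulAut E)⁻¹ * q * (p : MulAut E), by
            simpa using (Subgroup.mem_normalizer_iff.1 (hPQ (inv_mem p.2)) _).1 q.2⟩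
          left_inv := fun q => Subtype.ext (by simp [mul_assoc])
          right_inv := fun q => Subtype.ext (by simp [mul_assoc])
          map_mul' := fun q q' => Subtype.ext (by simp [mul_assoc]) }
      map_one' := MulEquiv.ext fun q => Subtype.ext (by simp)
      map_mul' := fun p p' => MulEquiv.ext fun q => Subtype.ext (by simp [mul_assoc]) }
  suffices hker : (⊤ : Subgroup P) ≤ c.ker by
    intro p hp
    refine mem_centralizer_iff.2 fun q hq => ?_
    have h1 := congrArg Subtype.val
      (DFunLike.congr_fun (MonoidHom.mem_ker.1 (hker (Subgroup.mem_top ⟨p, hp⟩))) ⟨q, hq⟩)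
    exact (mul_inv_eq_iff_eq_mul.1 h1).symm
  have hPtop : ⁅(⊤ : Subgroup ↥P), (⊤ : Subgroup ↥P)⁆ = (⊤ : Subgroup ↥P) := by
    apply Subgroup.map_injective P.subtype_injective
    rw [Subgroup.map_commutator, ← MonoidHom.range_eq_map, P.range_subtype, hP]
  by_cases hab : ∀ x ∈ Q, ∀ y ∈ Q, x * y = y * x
  · haveI := hcyc hab
    refine OutPerf.le_ker_of_comm c hPtop fun x _ y _ => ?_
    apply (IsCyclic.mulAutMulEquiv ↥Q).injective
    rw [map_mul, map_mul, mul_comm]
  -- `a = 2`
  have ha2 : r = 3 ∧ n = 6 ∧ a = 2 := by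
    refine hcase.resolve_left fun ha => hab ?_
    rcases Nat.le_one_iff_eq_zero_or_eq_one.1 ha with rfl | rfl
    · intro x hx y hy
      have hbot : ∀ e : E, e ≠ 1 → r ^ 0 ∣ Nat.card (MulAction.orbit (⊥ : Subgroup (MulAut E)) e) :=
        fun _ _ => by simp
      exact (schur hE2 ⊥ (invariant_eq_top hE2 hcard hgood ⊥ hbot)).1 x
        (mem_centralizer_iff.2 fun z hz => by rw [Subgroup.mem_bot.1 hz, one_mul, mul_one]) y
        (mem_centralizer_iff.2 fun z hz => by rw [Subgroup.mem_bot.1 hz, one_mul, mul_one])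
    · by_cases hQb : Q = ⊥
      · intro x hx y hy
        rw [hQb, Subgroup.mem_bot] at hx hy
        rw [hx, hy]
      haveI : Nontrivial Q := (Subgroup.nontrivial_iff_ne_bot Q).2 hQb
      haveI := hQ.center_nontrivial
      obtain ⟨j, hj0, hj⟩ := (hQ.to_subgroup (Subgroup.center Q)).nontrivial_iff_card.1 inferInstance
      obtain ⟨z₀, hz₀⟩ := exists_prime_orderOf_dvd_card' (G := Subgroup.center Q) r
        (hj ▸ dvd_pow_self r hj0.ne')
      set z : MulAut E := ((z₀ : Q) : MulAut E) with hz
      have hzo : orderOf z = r := by rw [hz, Subgroup.orderOf_coe, Subgroup.orderOf_coe, hz₀]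
      have hzc : ∀ q ∈ Q, q * z = z * q := fun q hq =>
        congrArg Subtype.val (Subgroup.mem_center_iff.1 z₀.2 ⟨q, hq⟩)
      have hzne : z ≠ 1 := fun h => by
        rw [h, orderOf_one] at hzo; exact (Fact.out : r.Prime).ne_one hzo.symm
      let F : Subgroup E :=
        { carrier := {e | z e = e}
          one_mem' := map_one z
          mul_mem' := fun {x y} hx hy => (map_mul z x y).trans (by rw [hx, hy])
          inv_mem' := fun {x} hx => (map_inv z x).trans (by rw [hx]) }
      have hF : F = ⊥ := by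
        by_contra hne
        refine hzne (MulEquiv.ext fun e => ?_)
        refine (hirr F (fun q hq w hw => ?_) hne).ge (Subgroup.mem_top e)
        show z (q w) = q w
        rw [← MulAut.mul_apply, ← hzc q hq, MulAut.mul_apply, show z w = w from hw]
      have horbz : ∀ e : E, e ≠ 1 → r ^ 1 ∣ Nat.card (MulAction.orbit (zpowers z) e) := by
        intro e he
        have hzp : IsPGroup r (zpowers z) := IsPGroup.of_card (n := 1) (by
          rw [Nat.card_zpowers, hzo, pow_one])
        rw [Nat.card_congr (MulAction.orbitEquivQuotientStabilizer (zpowers z) e),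
          ← Subgroup.index_eq_card]
        obtain ⟨k, hk⟩ := hzp.index (MulAction.stabilizer (zpowers z) e)
        rw [hk]
        refine pow_dvd_pow r (Nat.one_le_iff_ne_zero.2 fun h0 => he ?_)
        rw [h0, pow_zero, Subgroup.index_eq_one] at hk
        have : (⟨z, mem_zpowers z⟩ : zpowers z) ∈ MulAction.stabilizer (zpowers z) e :=
          hk.ge (Subgroup.mem_top _)
        exact (Subgroup.eq_bot_iff_forall _).1 hF e (MulAction.mem_stabilizer_iff.1 this)
      intro x hx y hy
      refine (schur hE2 _ (invariant_eq_top hE2 hcard hgood _ horbz)).1 x ?_ y ?_ <;>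
        refine mem_centralizer_iff.2 fun w hw => ?_ <;>
        obtain ⟨i, rfl⟩ := mem_zpowers_iff.1 hw
      · exact ((show Commute x z from hzc x hx).symm.zpow_left i).eq
      · exact ((show Commute y z from hzc y hy).symm.zpow_left i).eq
  obtain ⟨rfl, rfl, rfl⟩ := ha2
  haveI : Fact (Nat.Prime 2) := ⟨Nat.prime_two⟩
  -- the order of `Aut E`
  have hEfr : (frattini E).index = 2 ^ 6 := by
    have h1 : frattini E ≤ ⊥ := by
      refine H31.frattini_le_of_pow_mem Nat.prime_two ⊥ ?_ fun x => ?_
      · rw [_root_.commutator_def, commutator_le]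
        intro x _ y _
        rw [Subgroup.mem_bot, commutatorElement_eq_one_iff_mul_comm]
        have inv_self : ∀ v : E, v⁻¹ = v := fun v => inv_eq_of_mul_eq_one_right (hE2 v)
        calc x * y = (x * y)⁻¹ := (inv_self _).symm
          _ = y * x := by rw [mul_inv_rev, inv_self, inv_self]
      · rw [Subgroup.mem_bot, pow_two, hE2]
    rw [le_bot_iff.1 h1, Subgroup.index_bot, hcard]
  have hAutE := Cfsg.Agent.H29.card_automorphisms_dvd (p := 2) hcard hEfr
  -- the Frattini index of `Q`
  obtain ⟨k, hk⟩ := IsPGroup.iff_card.1 hQ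
  have hk4 : k ≤ 4 := by
    have h1 : 3 ^ k ∣ 2 ^ (6 * (6 - 6)) * ∏ i ∈ Finset.range 6, (2 ^ 6 - 2 ^ i) :=
      hk ▸ (Subgroup.card_subgroup_dvd_card Q).trans hAutE
    by_contra hgt
    have h2 := (pow_dvd_pow 3 (show 5 ≤ k by omega)).trans h1
    revert h2
    decide
  obtain ⟨j, hj⟩ := hQ.index (frattini Q)
  have hj3 : j ≤ 3 := by
    obtain ⟨hfc, hjk⟩ := Cfsg.Agent.H29.card_frattini_eq hk hj
    by_contra hgt
    have hbot : frattini Q = ⊥ := Subgroup.card_eq_one.1 (by
      rw [hfc, show k - j = 0 by omega, pow_zero])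
    apply hab
    intro x hx y hy
    have h1 := (H6.commutator_le_frattini hQ)
      (Subgroup.commutator_mem_commutator (Subgroup.mem_top (⟨x, hx⟩ : Q)) (Subgroup.mem_top ⟨y, hy⟩))
    rw [hbot, Subgroup.mem_bot, commutatorElement_eq_one_iff_mul_comm] at h1
    exact congrArg Subtype.val h1
  have hAutQ := Cfsg.Agent.H29.card_automorphisms_dvd (p := 3) hk hj
  have hsol : Group.IsSolvable c.range := by
    refine H33.isSolvable_of_two_primes Nat.prime_two Nat.prime_three fun q hq hdvd => ?_
    have hqQ : q ∣ 3 ^ (j * (k - j)) * ∏ i ∈ Finset.range j, (3 ^ j - 3 ^ i) :=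
      hdvd.trans ((Subgroup.card_subgroup_dvd_card c.range).trans hAutQ)
    have hqE : q ∣ 2 ^ (6 * (6 - 6)) * ∏ i ∈ Finset.range 6, (2 ^ 6 - 2 ^ i) :=
      ((hdvd.trans (Subgroup.card_range_dvd c)).trans (Subgroup.card_subgroup_dvd_card P)).trans hAutE
    by_cases hq3 : q = 3
    · exact Or.inr hq3
    have hq3' : ∀ e, ¬ q ∣ 3 ^ e := fun e he =>
      hq3 ((Nat.prime_dvd_prime_iff_eq hq Nat.prime_three).1 (hq.dvd_of_dvd_pow he))
    have hqP := (hq.dvd_mul.1 hqQ).resolve_left (hq3' _)
    have h1 : q ∣ Nat.gcd (∏ i ∈ Finset.range 6, (2 ^ 6 - 2 ^ i))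
        (∏ i ∈ Finset.range j, (3 ^ j - 3 ^ i)) := Nat.dvd_gcd (by simpa using hqE) hqP
    have h2 : Nat.gcd (∏ i ∈ Finset.range 6, (2 ^ 6 - 2 ^ i))
        (∏ i ∈ Finset.range j, (3 ^ j - 3 ^ i)) ∣ 2 ^ 8 * 3 ^ 4 := by
      interval_cases j <;> decide
    exact Or.inl ((Nat.prime_dvd_prime_iff_eq hq Nat.prime_two).1
      (hq.dvd_of_dvd_pow ((hq.dvd_mul.1 (h1.trans h2)).resolve_right (hq3' _))))
  exact OutPerf.le_ker_of_solvable c hPtop (M := c.range) (by rw [MonoidHom.range_eq_map])

end H73.OutTrans
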