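import Cfsg.Agent.H73.OutTwoAutMain
import Cfsg.Agent.H73.OutTransitive
import Cfsg.Agent.H73.OutArith
import Cfsg.Agent.H3.OddOrderInstance

/-!
Glauberman's criteria for the solvability of the outer automorphism group of a simple group:
Sylow 2-subgroup generated by two elements, by three elements with non-2-group automizer, or with
commuting, conjugate involutions.
-/

set_option autoImplicit false
set_option linter.unusedSectionVars false
set_option linter.style.haveILetI false

namespace H73.OutSol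

open Subgroup H3.AutFixSylow

universe u

variable {G : Type u} [Group G] [Finite G]

/-- The normalizer of a Sylow 2-subgroup is solvable. -/
theorem sylow_normalizer_solvable {H : Type u} [Group H] [Finite H] (T : Sylow 2 H) :
    Group.IsSolvable (Subgroup.normalizer ((T : Subgroup H) : Set H)) := by
  haveI : Fact (Nat.Prime 2) := ⟨Nat.prime_two⟩
  set N := Subgroup.normalizer ((T : Subgroup H) : Set H)
  haveI : ((T : Subgroup H).subgroupOf N).Normal := Subgroup.normal_in_normalizer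
  haveI : Group.IsNilpotent ((T : Subgroup H).subgroupOf N) :=
    (T.isPGroup'.comap_of_injective N.subtype N.subtype_injective :
      IsPGroup 2 ((T : Subgroup H).subgroupOf N)).isNilpotent
  haveI : Group.IsSolvable ((T : Subgroup H).subgroupOf N) := inferInstance
  haveI : Group.IsSolvable (↥N ⧸ (T : Subgroup H).subgroupOf N) := by
    refine H16.FT.oddOrder (Nat.not_even_iff_odd.1 fun h2 => ?_)
    rw [even_iff_two_dvd, ← Subgroup.index_eq_card] at h2
    exact T.not_dvd_index (h2.trans (Subgroup.relIndex_dvd_index_of_le Subgroup.le_normalizer))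
  exact Group.isSolvable_of_ker_le_range ((T : Subgroup H).subgroupOf N).subtype
    (QuotientGroup.mk' ((T : Subgroup H).subgroupOf N)) (by simp)

theorem solvable_map {A B : Type*} [Group A] [Group B] (f : A →* B) (N : Subgroup A)
    [Group.IsSolvable N] : Group.IsSolvable (N.map f) :=
  Group.isSolvable_of_surjective (f := f.subgroupMap N) (f.subgroupMap_surjective N)

/-- Conjugation on `S` by an element of its normalizer, as a member of the range of `restrictAut`. -/
theorem normalizer_mem_range (S : Subgroup G) (n : Subgroup.normalizer (S : Set G)) :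
    S.normalizerMonoidHom n ∈ (restrictAut S).range :=
  ⟨⟨MulAut.conj (n : G), fun s => (Subgroup.mem_normalizer_iff.1 n.2 s).symm⟩,
    MulEquiv.ext fun _ => Subtype.ext rfl⟩

/-- The image of `N(S)` in the group induced on `S` is normal there. -/
theorem normal_image (S : Subgroup G) :
    (restrictAut S).range ≤
      Subgroup.normalizer (((S.normalizerMonoidHom).range : Subgroup (MulAut S)) : Set (MulAut S)) := by
  rintro _ ⟨α, rfl⟩
  have hstep : ∀ α : stabAut S, ∀ y ∈ (S.normalizerMonoidHom).range,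
      restrictAut S α * y * (restrictAut S α)⁻¹ ∈ (S.normalizerMonoidHom).range := by
    rintro α _ ⟨n, rfl⟩
    have hn : (α : MulAut G) (n : G) ∈ Subgroup.normalizer (S : Set G) := by
      refine Subgroup.mem_normalizer_iff.2 fun s => ?_
      obtain ⟨t, rfl⟩ := (α : MulAut G).surjective s
      rw [← map_inv, ← map_mul, ← map_mul, α.2, α.2]
      exact Subgroup.mem_normalizer_iff.1 n.2 t
    refine ⟨⟨_, hn⟩, MulEquiv.ext fun s => Subtype.ext ?_⟩
    show (α : MulAut G) (n : G) * (s : G) * ((α : MulAut G) (n : G))⁻¹ =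
      (α : MulAut G) ((n : G) * ((α⁻¹ : stabAut S).1 s) * (n : G)⁻¹)
    rw [map_mul, map_mul, map_inv, show (α : MulAut G) ((α⁻¹ : stabAut S).1 (s : G)) = s from
      MulAut.apply_inv_self G (α : MulAut G) _]
  refine Subgroup.mem_normalizer_iff.2 fun y => ⟨hstep α y, fun hy => ?_⟩
  have := hstep α⁻¹ _ hy
  simpa [map_inv, mul_assoc] using this

/-- Case (a): two generators. -/
theorem solvable_of_two {S : Subgroup G} (hS : IsPGroup 2 S)
    (h : ∃ a b : ↥S, Subgroup.closure ({a, b} : Set ↥S) = ⊤) :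
    Group.IsSolvable (MulAut S) := by
  classical
  haveI : Fact (Nat.Prime 2) := ⟨Nat.prime_two⟩
  obtain ⟨k, hk⟩ := IsPGroup.iff_card.1 hS
  obtain ⟨j, hj⟩ := hS.index (frattini S)
  obtain ⟨a, b, hab⟩ := h
  have hrank : Group.rank S ≤ 2 :=
    (Group.rank_le (S := ({a, b} : Finset S)) (by simpa using hab)).trans Finset.card_le_two
  have hj2 := (Cfsg.Agent.H29.le_rank_of_index_frattini hS hj).trans hrank
  have hd := Cfsg.Agent.H29.card_automorphisms_dvd hk hj
  refine H33.isSolvable_of_two_primes Nat.prime_two Nat.prime_three fun q hq hdvd => ?_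
  have h1 : (∏ i ∈ Finset.range j, (2 ^ j - 2 ^ i)) ∣ 2 * 3 := by interval_cases j <;> decide
  rcases hq.dvd_mul.1 (hdvd.trans hd) with h2 | h2
  · exact Or.inl ((Nat.prime_dvd_prime_iff_eq hq Nat.prime_two).1 (hq.dvd_of_dvd_pow h2))
  · exact (hq.dvd_mul.1 (h2.trans h1)).imp (Nat.prime_dvd_prime_iff_eq hq Nat.prime_two).1
      (Nat.prime_dvd_prime_iff_eq hq Nat.prime_three).1

/-- Case (b): three generators and a non-trivially acting element of odd order in the normalizer. -/
theorem solvable_of_three (S : Sylow 2 G)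
    (h : ∃ a b c : ↥S, Subgroup.closure ({a, b, c} : Set ↥S) = ⊤)
    (hg : ∃ g ∈ Subgroup.normalizer ((S : Subgroup G) : Set G), Odd (orderOf g) ∧
      g ∉ Subgroup.centralizer ((S : Subgroup G) : Set G)) :
    Group.IsSolvable (restrictAut (S : Subgroup G)).range := by
  classical
  haveI : Fact (Nat.Prime 2) := ⟨Nat.prime_two⟩
  have hS : IsPGroup 2 (S : Subgroup G) := S.isPGroup'
  obtain ⟨k, hk⟩ := IsPGroup.iff_card.1 hS
  obtain ⟨j, hj⟩ := hS.index (frattini (S : Subgroup G))
  obtain ⟨a, b, c, habc⟩ := h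
  have hrank : Group.rank (S : Subgroup G) ≤ 3 :=
    (Group.rank_le (S := ({a, b, c} : Finset _)) (by simpa using habc)).trans Finset.card_le_three
  have hj3 := (Cfsg.Agent.H29.le_rank_of_index_frattini hS hj).trans hrank
  have hd := Cfsg.Agent.H29.card_automorphisms_dvd hk hj
  have h1 : (∏ i ∈ Finset.range j, (2 ^ j - 2 ^ i)) ∣ 2 ^ 3 * 21 := by interval_cases j <;> decide
  obtain ⟨e, he⟩ : ∃ e, Nat.card (restrictAut (S : Subgroup G)).range ∣ 2 ^ e * 21 := by
    refine ⟨j * (k - j) + 3, (Subgroup.card_subgroup_dvd_card _).trans (hd.trans ((mul_dvd_mul_left _ h1).trans ?_))⟩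
    rw [← mul_assoc, ← pow_add]
  set R := (restrictAut (S : Subgroup G)).range
  set X := ((S : Subgroup G).normalizerMonoidHom).range.subgroupOf R with hX
  haveI hXn : X.Normal :=
    (Subgroup.normal_subgroupOf_iff_le_normalizer fun y hy => by
      obtain ⟨n, rfl⟩ := hy; exact normalizer_mem_range _ n).2 (normal_image _)
  haveI : Group.IsSolvable ((S : Subgroup G).normalizerMonoidHom).range := by
    haveI := sylow_normalizer_solvable S
    exact Group.isSolvable_of_surjective (MonoidHom.rangeRestrict_surjective _)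
  haveI : Group.IsSolvable X := by
    refine Group.isSolvable_of_isSolvable_injective (f :=
      MonoidHom.mk' (fun x : X => (⟨((x : R) : MulAut (S : Subgroup G)), x.2⟩ :
        ((S : Subgroup G).normalizerMonoidHom).range)) fun _ _ => rfl) ?_
    intro x y hxy
    exact Subtype.ext (Subtype.ext (congrArg (fun z : ((S : Subgroup G).normalizerMonoidHom).range =>
      (z : MulAut (S : Subgroup G))) hxy))
  -- an odd prime in `X`
  obtain ⟨g, hgN, hgodd, hgc⟩ := hg
  set x := (S : Subgroup G).normalizerMonoidHom ⟨g, hgN⟩ with hx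
  have hxX : x ∈ ((S : Subgroup G).normalizerMonoidHom).range := ⟨_, rfl⟩
  have hxord : orderOf x ≠ 1 := fun h1 => hgc (by
    rw [orderOf_eq_one_iff] at h1
    have h2 : (⟨g, hgN⟩ : Subgroup.normalizer ((S : Subgroup G) : Set G)) ∈
        ((S : Subgroup G).normalizerMonoidHom).ker := MonoidHom.mem_ker.2 h1
    rwa [Subgroup.normalizerMonoidHom_ker] at h2)
  obtain ⟨q, hq, hqx⟩ := Nat.exists_prime_and_dvd hxord
  have hqodd : q ≠ 2 := by
    rintro rfl
    have h1 : orderOf x ∣ orderOf g := by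
      rw [← Subgroup.orderOf_mk g hgN]; exact orderOf_map_dvd _ _
    exact (Nat.not_even_iff_odd.2 hgodd) (even_iff_two_dvd.2 (hqx.trans h1))
  have hqX : q ∣ Nat.card X := by
    refine hqx.trans ?_
    have h1 : orderOf (⟨⟨x, normalizer_mem_range _ _⟩, hxX⟩ : X) = orderOf x := by
      rw [← Subgroup.orderOf_coe (⟨⟨x, normalizer_mem_range _ _⟩, hxX⟩ : X), Subgroup.orderOf_mk]
    rw [← h1]
    exact orderOf_dvd_natCard _
  haveI : Group.IsSolvable (↥R ⧸ X) := by
    have hQdvd : q * Nat.card (↥R ⧸ X) ∣ 2 ^ e * 21 := by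
      refine dvd_trans ?_ he
      rw [Subgroup.card_eq_card_quotient_mul_card_subgroup X, mul_comm (Nat.card (↥R ⧸ X))]
      exact mul_dvd_mul_right hqX _
    have h37 : ∀ s, s.Prime → s ∣ 21 → s = 3 ∨ s = 7 := fun s hs h =>
      (hs.dvd_mul.1 (show s ∣ 3 * 7 from h)).imp (Nat.prime_dvd_prime_iff_eq hs Nat.prime_three).1
        (Nat.prime_dvd_prime_iff_eq hs (by norm_num)).1
    have hq21 : q ∣ 21 := ((hq.dvd_mul.1 ((dvd_mul_right q _).trans hQdvd)).resolve_left fun h =>
      hqodd ((Nat.prime_dvd_prime_iff_eq hq Nat.prime_two).1 (hq.dvd_of_dvd_pow h)))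
    obtain ⟨q', hq', heq⟩ : ∃ q', q'.Prime ∧ 21 = q * q' := by
      rcases h37 q hq hq21 with rfl | rfl
      · exact ⟨7, by norm_num, rfl⟩
      · exact ⟨3, by norm_num, rfl⟩
    rw [heq, mul_left_comm] at hQdvd
    have h2 := Nat.dvd_of_mul_dvd_mul_left hq.pos hQdvd
    refine H33.isSolvable_of_two_primes Nat.prime_two hq' fun s hs hsd => ?_
    exact (hs.dvd_mul.1 (hsd.trans h2)).imp
      (fun h => (Nat.prime_dvd_prime_iff_eq hs Nat.prime_two).1 (hs.dvd_of_dvd_pow h))
      (Nat.prime_dvd_prime_iff_eq hs hq').1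
  exact Group.isSolvable_of_ker_le_range X.subtype (QuotientGroup.mk' X) (by simp)

/-- Case (c): commuting, conjugate involutions. -/
theorem solvable_of_commuting (S : Sylow 2 G) (hS1 : (S : Subgroup G) ≠ ⊥)
    (hcomm : ∀ s ∈ S, ∀ t ∈ S, orderOf s = 2 → orderOf t = 2 → s * t = t * s)
    (hconj : ∀ s ∈ S, ∀ t ∈ S, orderOf s = 2 → orderOf t = 2 → ∃ g : G, g * s * g⁻¹ = t) :
    Group.IsSolvable (restrictAut (S : Subgroup G)).range := by
  classical
  haveI : Fact (Nat.Prime 2) := ⟨Nat.prime_two⟩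
  set SG : Subgroup G := (S : Subgroup G) with hSG
  have hord : ∀ x : G, x ≠ 1 → x * x = 1 → orderOf x = 2 := fun x hne h2 =>
    orderOf_eq_prime (by rw [pow_two, h2]) hne
  have hcomm' : ∀ a ∈ SG, ∀ b ∈ SG, a * a = 1 → b * b = 1 → a * b = b * a := by
    intro a ha b hb ha2 hb2
    by_cases ha1 : a = 1
    · rw [ha1, one_mul, mul_one]
    by_cases hb1 : b = 1
    · rw [hb1, one_mul, mul_one]
    exact hcomm a ha b hb (hord a ha1 ha2) (hord b hb1 hb2)
  let E : Subgroup G :=
    { carrier := {x | x ∈ SG ∧ x * x = 1}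
      one_mem' := ⟨one_mem _, one_mul 1⟩
      mul_mem' := fun {a b} ha hb => ⟨mul_mem ha.1 hb.1, by
        calc a * b * (a * b) = a * (b * a) * b := by group
          _ = a * (a * b) * b := by rw [hcomm' a ha.1 b hb.1 ha.2 hb.2]
          _ = (a * a) * (b * b) := by group
          _ = 1 := by rw [ha.2, hb.2, one_mul]⟩
      inv_mem' := fun {a} ha => ⟨inv_mem ha.1, by rw [← mul_inv_rev, ha.2, inv_one]⟩ }
  have hES : E ≤ SG := fun x hx => hx.1
  have hEmem : ∀ x, x ∈ E ↔ x ∈ SG ∧ x * x = 1 := fun _ => Iff.rfl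
  have hE2 : ∀ e : E, e * e = 1 := fun e => Subtype.ext e.2.2
  -- `|E| = 2 ^ n`
  obtain ⟨n, hn⟩ : ∃ n, Nat.card E = 2 ^ n :=
    IsPGroup.iff_card.1 (S.isPGroup'.to_le hES)
  have hn1 : 1 ≤ n := by
    by_contra h0
    haveI : Nontrivial SG := (Subgroup.nontrivial_iff_ne_bot _).2 hS1
    obtain ⟨z, hz⟩ := exists_prime_orderOf_dvd_card' (G := SG) 2 (by
      obtain ⟨k, hk0, hk⟩ := S.isPGroup'.nontrivial_iff_card.1 inferInstance
      exact hk ▸ dvd_pow_self 2 hk0.ne')
    have h1 : E = ⊥ := Subgroup.card_eq_one.1 (by rw [hn, show n = 0 by omega, pow_zero])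
    have hz2 : (z : G) ∈ E := ⟨z.2, by
      rw [← pow_two, ← Subgroup.coe_pow, ← hz, pow_orderOf_eq_one]; rfl⟩
    rw [h1, Subgroup.mem_bot] at hz2
    rw [show z = 1 from Subtype.ext hz2, orderOf_one] at hz
    omega
  -- transitivity
  set NE := Subgroup.normalizer (E : Set G) with hNE
  have hSNE : SG ≤ NE := by
    have hstep : ∀ s ∈ SG, ∀ x ∈ E, s * x * s⁻¹ ∈ E := fun s hs x hx =>
      ⟨mul_mem (mul_mem hs hx.1) (inv_mem hs), by
        calc s * x * s⁻¹ * (s * x * s⁻¹) = s * (x * x) * s⁻¹ := by group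
          _ = 1 := by rw [hx.2]; group⟩
    intro s hs
    refine Subgroup.mem_normalizer_iff.2 fun x => ⟨hstep s hs x, fun hx => ?_⟩
    simpa [mul_assoc] using hstep s⁻¹ (inv_mem hs) _ hx
  have htrans : ∀ x ∈ E, x ≠ 1 → ∀ y ∈ E, y ≠ 1 → ∃ g ∈ NE, g * x * g⁻¹ = y := by
    intro x hx hx1 y hy hy1
    obtain ⟨g, hg⟩ := hconj x hx.1 y hy.1 (hord x hx1 hx.2) (hord y hy1 hy.2)
    set C := Subgroup.centralizer ({y} : Set G) with hC
    have hEC : E ≤ C := fun e he => Subgroup.mem_centralizer_singleton_iff.2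
      (hcomm' e he.1 y hy.1 he.2 hy.2)
    set Eg := E.map (MulAut.conj g).toMonoidHom with hEg
    have hEgC : Eg ≤ C := by
      rintro _ ⟨e, he, rfl⟩
      refine Subgroup.mem_centralizer_singleton_iff.2 ?_
      show g * e * g⁻¹ * y = y * (g * e * g⁻¹)
      rw [← hg]
      calc g * e * g⁻¹ * (g * x * g⁻¹) = g * (e * x) * g⁻¹ := by group
        _ = g * (x * e) * g⁻¹ := by rw [hcomm' e he.1 x hx.1 he.2 hx.2]
        _ = _ := by group
    have hEp : IsPGroup 2 E := S.isPGroup'.to_le hES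
    obtain ⟨T, hT⟩ := (hEp.comap_of_injective C.subtype C.subtype_injective :
      IsPGroup 2 (E.subgroupOf C)).exists_le_sylow
    obtain ⟨T', hT'⟩ := ((hEp.map _).comap_of_injective C.subtype C.subtype_injective :
      IsPGroup 2 (Eg.subgroupOf C)).exists_le_sylow
    obtain ⟨c, hc⟩ := MulAction.exists_smul_eq C T' T
    set TG := (T : Subgroup C).map C.subtype with hTG
    obtain ⟨U, hU⟩ := (T.isPGroup'.map C.subtype : IsPGroup 2 TG).exists_le_sylow
    obtain ⟨h', hh⟩ := MulAction.exists_smul_eq G U S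
    have key : ∀ z ∈ TG, z * z = 1 → h' * z * h'⁻¹ ∈ E := fun z hz hz2 => ⟨by
      show h' * z * h'⁻¹ ∈ (S : Subgroup G)
      rw [← hh, Sylow.coe_subgroup_smul, Subgroup.mem_pointwise_smul_iff_inv_smul_mem]
      simpa [mul_assoc] using hU hz, by
        calc h' * z * h'⁻¹ * (h' * z * h'⁻¹) = h' * (z * z) * h'⁻¹ := by group
          _ = 1 := by rw [hz2]; group⟩
    have hEh : E.map (MulAut.conj h').toMonoidHom = E := by
      refine Subgroup.eq_of_le_of_card_ge ?_
        (Subgroup.card_map_of_injective (MulAut.conj h').injective).ge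
      rintro _ ⟨e, he, rfl⟩
      exact key e ⟨⟨e, hEC he⟩, hT he, rfl⟩ he.2
    have hstep : ∀ e ∈ E, (c : G) * g * e * ((c : G) * g)⁻¹ ∈ E := by
      intro e he
      have hmem : g * e * g⁻¹ ∈ Eg := ⟨e, he, rfl⟩
      have hz : (c : G) * g * e * ((c : G) * g)⁻¹ ∈ TG := by
        refine ⟨c * ⟨g * e * g⁻¹, hEgC hmem⟩ * c⁻¹, ?_, by simp [mul_assoc]⟩
        rw [← hc, Sylow.coe_subgroup_smul, SetLike.mem_coe,
          Subgroup.mem_pointwise_smul_iff_inv_smul_mem]
        simpa [mul_assoc] using hT' (show (⟨g * e * g⁻¹, hEgC hmem⟩ : C) ∈ Eg.subgroupOf C from hmem)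
      obtain ⟨e', he', hee⟩ := hEh.ge (key _ hz (by
        calc (c : G) * g * e * ((c : G) * g)⁻¹ * ((c : G) * g * e * ((c : G) * g)⁻¹)
            = (c : G) * g * (e * e) * ((c : G) * g)⁻¹ := by group
          _ = 1 := by rw [he.2]; group))
      exact (MulAut.conj h').injective hee ▸ he'
    refine ⟨(c : G) * g, ?_, ?_⟩
    · have heq : E.map (MulAut.conj ((c : G) * g)).toMonoidHom = E :=
        Subgroup.eq_of_le_of_card_ge (by rintro _ ⟨e, he, rfl⟩; exact hstep e he)
          (Subgroup.card_map_of_injective (MulAut.conj ((c : G) * g)).injective).ge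
      refine Subgroup.mem_normalizer_iff.2 fun e => ⟨hstep e, fun he => ?_⟩
      obtain ⟨e', he', hee⟩ := heq.ge he
      exact (MulAut.conj ((c : G) * g)).injective hee ▸ he'
    · calc (c : G) * g * x * ((c : G) * g)⁻¹ = (c : G) * (g * x * g⁻¹) * (c : G)⁻¹ := by group
        _ = y := by
          rw [hg, Subgroup.mem_centralizer_singleton_iff.1 c.2, mul_inv_cancel_right]
  set π := E.normalizerMonoidHom with hπ
  set X := π.range with hX
  -- orbits
  have horbX : ∀ e : E, e ≠ 1 → Nat.card (MulAction.orbit X e) = 2 ^ n - 1 := by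
    intro e he
    have h1 : MulAction.orbit X e = {f : E | f ≠ 1} := by
      ext f
      constructor
      · rintro ⟨k, rfl⟩
        exact fun h1 => he ((k : MulAut E).injective (h1.trans (map_one (k : MulAut E)).symm))
      · intro hf
        obtain ⟨g, hg, hge⟩ := htrans e e.2 (fun h => he (Subtype.ext h)) f f.2
          (fun h => hf (Subtype.ext h))
        exact ⟨⟨π ⟨g, hg⟩, ⟨_, rfl⟩⟩, Subtype.ext hge⟩
    rw [h1]
    haveI : Fintype E := Fintype.ofFinite E
    show Nat.card {f : E // f ≠ 1} = _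
    rw [Nat.card_eq_fintype_card, Fintype.card_subtype_compl, Fintype.card_subtype_eq,
      ← Nat.card_eq_fintype_card, hn]
  obtain ⟨r, a, hr, hr2, hdvd, hgood, hcase⟩ := OutArith.exists_good hn1
  haveI : Fact r.Prime := ⟨hr⟩
  -- a Sylow subgroup of `X`
  obtain ⟨Q₀⟩ : Nonempty (Sylow r ↥X) := inferInstance
  set Q := (Q₀ : Subgroup ↥X).map X.subtype with hQ
  have hQX : Q ≤ X := Subgroup.map_subtype_le _
  have hQp : IsPGroup r Q := Q₀.isPGroup'.map _
  have horbQ : ∀ e : E, e ≠ 1 → r ^ a ∣ Nat.card (MulAction.orbit Q e) := by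
    intro e he
    set StQ := MulAction.stabilizer Q e
    set StX := MulAction.stabilizer X e
    have hX1 : (2 ^ n - 1) * Nat.card StX = Nat.card X := by
      rw [← horbX e he, Nat.card_congr (MulAction.orbitEquivQuotientStabilizer X e),
        ← Subgroup.index_eq_card, Subgroup.index_mul_card]
    have hQ1 : Nat.card (MulAction.orbit Q e) * Nat.card StQ = Nat.card Q := by
      rw [Nat.card_congr (MulAction.orbitEquivQuotientStabilizer Q e),
        ← Subgroup.index_eq_card, Subgroup.index_mul_card]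
    have hle : Nat.card StQ ∣ Nat.card StX :=
      Subgroup.card_dvd_of_injective
        (f := MonoidHom.mk' (fun k : StQ => (⟨⟨((k : Q) : MulAut E), hQX (k : Q).2⟩, k.2⟩ : StX))
          fun _ _ => rfl)
        (fun k l h => Subtype.ext (Subtype.ext (congrArg (fun z : StX => ((z : X) : MulAut E)) h)))
    obtain ⟨v, hv⟩ := IsPGroup.iff_card.1 (hQp.to_subgroup StQ)
    have h1 : r ^ a * Nat.card StQ ∣ Nat.card X := hX1 ▸ mul_dvd_mul hdvd hle
    have h2 : r ^ a * Nat.card StQ ∣ Nat.card Q := by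
      rw [hv, ← pow_add] at h1 ⊢
      rw [hQ, Subgroup.card_map_of_injective X.subtype_injective, Q₀.card_eq_multiplicity]
      exact pow_dvd_pow r ((hr.pow_dvd_iff_le_factorization Nat.card_pos.ne').1 h1)
    rw [← hQ1] at h2
    exact Nat.dvd_of_mul_dvd_mul_right Nat.card_pos h2
  -- now the perfect subgroups of the induced group
  refine OutPerf.isSolvable_of_perfect_trivial _ fun P hPR hP => ?_
  have hEinv : ∀ (k : MulAut SG), ∀ x ∈ E.subgroupOf SG, k x ∈ E.subgroupOf SG := fun k x hx =>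
    ⟨(k x).2, congrArg Subtype.val (show k x * k x = 1 by
      rw [← map_mul, show x * x = 1 from Subtype.ext hx.2, map_one])⟩
  let rE : MulAut SG →* MulAut E :=
    { toFun := fun k =>
        { toFun := fun e => ⟨(k ⟨e, e.2.1⟩ : SG), hEinv k _ e.2⟩
          invFun := fun e => ⟨(k.symm ⟨e, e.2.1⟩ : SG), hEinv k⁻¹ _ e.2⟩
          left_inv := fun e => Subtype.ext (by simp)
          right_inv := fun e => Subtype.ext (by simp)
          map_mul' := fun e f => Subtype.ext (congrArg (fun v : SG => (v : G))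
            (map_mul k (⟨e, e.2.1⟩ : SG) ⟨f, f.2.1⟩)) }
      map_one' := rfl
      map_mul' := fun k l => rfl }
  have hext : ∀ p ∈ P, ∃ α : MulAut G, (∀ s : SG, α s = (p s : G)) ∧
      (∀ g, g ∈ SG ↔ α g ∈ SG) ∧ (∀ g, g ∈ E ↔ α g ∈ E) ∧ (∀ g, g ∈ NE ↔ α g ∈ NE) := by
    intro p hp
    obtain ⟨α, rfl⟩ := hPR hp
    have hαS : ∀ g, g ∈ SG ↔ (α : MulAut G) g ∈ SG := fun g => (α.2 g).symm
    have hαE : ∀ g, g ∈ E ↔ (α : MulAut G) g ∈ E := by
      intro g
      rw [hEmem, hEmem, ← hαS, ← map_mul, EmbeddingLike.map_eq_one_iff]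
    refine ⟨α, fun s => rfl, hαS, hαE, fun g => ?_⟩
    constructor
    · intro hg
      refine Subgroup.mem_normalizer_iff.2 fun x => ?_
      obtain ⟨t, rfl⟩ := (α : MulAut G).surjective x
      rw [← map_inv, ← map_mul, ← map_mul, ← hαE, ← hαE]
      exact Subgroup.mem_normalizer_iff.1 hg t
    · intro hg
      refine Subgroup.mem_normalizer_iff.2 fun x => ?_
      have := Subgroup.mem_normalizer_iff.1 hg ((α : MulAut G) x)
      rw [← map_inv, ← map_mul, ← map_mul, ← hαE, ← hαE] at this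
      exact this
  have hπrE : ∀ p ∈ P, ∀ g : NE, ∀ α : MulAut G, (∀ s : SG, α s = (p s : G)) →
      ∀ hαg : α g ∈ NE, π ⟨α g, hαg⟩ = rE p * π g * (rE p)⁻¹ := by
    intro p hp g α hα hαg
    rw [eq_mul_inv_iff_mul_eq]
    refine MulEquiv.ext fun e => Subtype.ext ?_
    show α (g : G) * (p ⟨e, e.2.1⟩ : G) * (α (g : G))⁻¹ = (p ⟨(g : G) * e * (g : G)⁻¹, _⟩ : G)
    rw [← hα, ← hα]
    simp
  set Pb := P.map rE with hPb
  have hPbp : ⁅Pb, Pb⁆ = Pb := OutPerf.map_perfect rE hP
  have hPbX : Pb ≤ Subgroup.normalizer (X : Set (MulAut E)) := by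
    rintro _ ⟨p, hp, rfl⟩
    have hstep : ∀ p ∈ P, ∀ y ∈ X, rE p * y * (rE p)⁻¹ ∈ X := by
      rintro p hp _ ⟨g, rfl⟩
      obtain ⟨α, hα, -, -, hαN⟩ := hext p hp
      exact ⟨⟨_, (hαN g).1 g.2⟩, hπrE p hp g α hα _⟩
    refine Subgroup.mem_normalizer_iff.2 fun y => ⟨hstep p hp y, fun hy => ?_⟩
    simpa [map_inv, mul_assoc] using hstep p⁻¹ (inv_mem hp) _ hy
  -- step 1: `Pb ≤ X`
  have hPbleX : Pb ≤ X := by
    set NX := Subgroup.normalizer (X : Set (MulAut E)) with hNX
    haveI hn' : (X.subgroupOf NX).Normal := Subgroup.normal_in_normalizer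
    let f := QuotientGroup.mk' (X.subgroupOf NX)
    have hP₀ : ⁅Pb.subgroupOf NX, Pb.subgroupOf NX⁆ = Pb.subgroupOf NX := by
      apply Subgroup.map_injective NX.subtype_injective
      rw [Subgroup.map_commutator, Subgroup.subgroupOf_map_subtype, inf_eq_left.2 hPbX, hPbp]
    have hcover : (Pb.subgroupOf NX).map f ≤
        ((Subgroup.normalizer (Q : Set (MulAut E))).subgroupOf NX).map f := by
      rintro _ ⟨p, hp, rfl⟩
      let ep : ↥X ≃* ↥X :=
        { toFun := fun x => ⟨(p : MulAut E) * x * (p : MulAut E)⁻¹,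
            (Subgroup.mem_normalizer_iff.1 p.2 _).1 x.2⟩
          invFun := fun x => ⟨(p : MulAut E)⁻¹ * x * (p : MulAut E), by
            simpa using (Subgroup.mem_normalizer_iff.1 (inv_mem p.2) _).1 x.2⟩
          left_inv := fun x => Subtype.ext (by simp [mul_assoc])
          right_inv := fun x => Subtype.ext (by simp [mul_assoc])
          map_mul' := fun x y => Subtype.ext (by simp [mul_assoc]) }
      let B : Sylow r ↥X := Q₀.mapSurjective (f := ep.toMonoidHom) ep.surjective
      obtain ⟨k, hk⟩ := MulAction.exists_smul_eq ↥X B Q₀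
      have hk' := congrArg (fun T : Sylow r ↥X => (T : Subgroup ↥X)) hk
      simp only [Sylow.coe_subgroup_smul] at hk'
      set w := (k : MulAut E) * p
      have hstep : ∀ y ∈ Q, w * y * w⁻¹ ∈ Q := by
        rintro _ ⟨y, hy, rfl⟩
        refine ⟨k * ep y * k⁻¹, hk'.le ?_, ?_⟩
        · rw [Subgroup.mem_pointwise_smul_iff_inv_smul_mem]
          refine ⟨y, hy, ?_⟩
          simp [mul_assoc]
        · simp [w, ep, mul_assoc]
      have hmem : w ∈ Subgroup.normalizer (Q : Set (MulAut E)) := by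
        have heq : Q.map (MulAut.conj w).toMonoidHom = Q :=
          Subgroup.eq_of_le_of_card_ge (by rintro _ ⟨y, hy, rfl⟩; exact hstep y hy)
            (Subgroup.card_map_of_injective (MulAut.conj w).injective).ge
        refine Subgroup.mem_normalizer_iff.2 fun y => ⟨hstep y, fun hy => ?_⟩
        obtain ⟨z, hz, hzy⟩ := heq.ge hy
        have : z = y := (MulAut.conj w).injective hzy
        exact this ▸ hz
      refine ⟨⟨w, mul_mem (Subgroup.le_normalizer k.2) p.2⟩, hmem, QuotientGroup.eq.2 ?_⟩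
      rw [Subgroup.mem_subgroupOf]
      simpa [w, mul_assoc] using (Subgroup.mem_normalizer_iff.1 (inv_mem p.2) _).1 (inv_mem k.2)
    obtain ⟨P', hP'N, hP', hP'cov⟩ := OutPerf.exists_perfect_lift f hP₀ hcover
    have h0 : P'.map NX.subtype = ⊥ :=
      OutTrans.perfect_eq_bot hE2 hn hgood hcase Q _ hQp horbQ (OutPerf.map_perfect _ hP')
        (by rintro _ ⟨x, hx, rfl⟩; exact hP'N hx)
    have h1 : P' = ⊥ := (Subgroup.map_eq_bot_iff_of_injective _ NX.subtype_injective).1 h0
    rw [h1, Subgroup.map_bot, le_bot_iff, Subgroup.map_eq_bot_iff, QuotientGroup.ker_mk'] at hP'cov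
    exact fun p hp => (hP'cov (x := ⟨p, hPbX hp⟩) hp : p ∈ X)
  -- step 2: `Pb = ⊥`
  have hPb1 : Pb = ⊥ := by
    have hSX : ∀ s ∈ SG.subgroupOf NE, π s ∈ X := fun s _ => ⟨s, rfl⟩
    let SN : Sylow 2 NE := S.subtype hSNE
    let SX : Sylow 2 X := SN.mapSurjective π.rangeRestrict_surjective
    haveI := sylow_normalizer_solvable SX
    haveI := solvable_map X.subtype (Subgroup.normalizer ((SX : Subgroup X) : Set X))
    refine OutPerf.eq_bot_of_le_solvable hPbp
      (M := (Subgroup.normalizer ((SX : Subgroup X) : Set X)).map X.subtype) fun p hp => ?_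
    refine ⟨⟨p, hPbleX hp⟩, ?_, rfl⟩
    have hstep : ∀ p ∈ P, ∀ (hpX : rE p ∈ X), ∀ y ∈ (SX : Subgroup X),
        (⟨rE p, hpX⟩ : X) * y * (⟨rE p, hpX⟩ : X)⁻¹ ∈ (SX : Subgroup X) := by
      rintro p hp hpX _ ⟨s, hs, rfl⟩
      obtain ⟨α, hα, hαS, -, hαN⟩ := hext p hp
      exact ⟨⟨_, (hαN s).1 s.2⟩, (hαS _).1 hs, Subtype.ext (hπrE p hp s α hα _)⟩
    obtain ⟨p₀, hp₀, rfl⟩ := hp
    refine Subgroup.mem_normalizer_iff.2 fun y => ⟨hstep p₀ hp₀ _ y, fun hy => ?_⟩
    have hq : rE p₀⁻¹ ∈ X := by rw [map_inv]; exact inv_mem (hPbleX ⟨p₀, hp₀, rfl⟩)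
    have := hstep p₀⁻¹ (inv_mem hp₀) hq _ hy
    convert this using 1
    exact Subtype.ext (by simp [map_inv, mul_assoc])
  have hPE : ∀ p ∈ P, ∀ x : SG, (x : G) ∈ E → p x = x := by
    intro p hp x hx
    have h1 : rE p = 1 := by
      have := (Subgroup.eq_bot_iff_forall _).1 hPb1 (rE p) ⟨p, hp, rfl⟩
      exact this
    exact Subtype.ext (congrArg (fun v : E => (v : G)) (DFunLike.congr_fun h1 ⟨x, hx⟩))
  -- step 3: on the centraliser of `E` in `S`
  set R₀ : Subgroup SG := (Subgroup.centralizer (E : Set G)).subgroupOf SG with hR₀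
  have hR₀inv : ∀ (k : MulAut SG), ∀ x ∈ R₀, k x ∈ R₀ := by
    intro k x hx
    refine Subgroup.mem_centralizer_iff.2 fun e he => ?_
    set e₀ := k⁻¹ (⟨e, hES he⟩ : SG)
    have he₀ : (e₀ : G) ∈ E := hEinv k⁻¹ ⟨e, hES he⟩ he
    have h1 : e₀ * x = x * e₀ := Subtype.ext (Subgroup.mem_centralizer_iff.1 hx _ he₀)
    have h2 := congrArg k h1
    rw [map_mul, map_mul, MulAut.apply_inv_self] at h2
    exact congrArg Subtype.val h2
  set rR := OutAut.charRes R₀ hR₀inv with hrR
  set E₀ : Subgroup R₀ := (E.subgroupOf SG).subgroupOf R₀ with hE₀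
  have hER : ∀ e ∈ E, ∀ h : e ∈ SG, (⟨e, h⟩ : SG) ∈ R₀ := fun e he h =>
    Subgroup.mem_centralizer_iff.2 fun f hf => hcomm' f hf.1 e he.1 hf.2 he.2
  let ιE : ∀ e : E, ↥R₀ := fun e => ⟨⟨e, e.2.1⟩, hER e e.2 e.2.1⟩
  have hE₀c : E₀ ≤ Subgroup.center R₀ := fun e he => Subgroup.mem_center_iff.2 fun x =>
    Subtype.ext (Subtype.ext (Subgroup.mem_centralizer_iff.1 x.2 _ he).symm)
  have hE₀iff : ∀ x : R₀, x * x = 1 ↔ x ∈ E₀ := fun x =>
    ⟨fun h => ⟨(x : SG).2, congrArg (fun v : R₀ => ((v : SG) : G)) h⟩,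
      fun h => Subtype.ext (Subtype.ext h.2)⟩
  have hE₀card : Nat.card E₀ = 2 ^ n := by
    rw [← hn]
    exact Nat.card_congr
      { toFun := fun e => ⟨(((e : R₀) : SG) : G), e.2⟩
        invFun := fun e => ⟨ιE e, e.2⟩
        left_inv := fun e => rfl
        right_inv := fun e => rfl }
  -- the operator group
  set CE := Subgroup.centralizer (E : Set G) with hCE
  set RG : Subgroup G := SG ⊓ CE with hRG
  set NR := NE ⊓ Subgroup.normalizer (RG : Set G) with hNR
  have hRmem : ∀ x : R₀, ((x : SG) : G) ∈ RG := fun x => ⟨(x : SG).2, x.2⟩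
  let ρ : NR →* MulAut R₀ :=
    { toFun := fun g =>
        { toFun := fun x => ⟨⟨(g : G) * x * (g : G)⁻¹,
            ((Subgroup.mem_normalizer_iff.1 g.2.2 _).1 (hRmem x)).1⟩,
            ((Subgroup.mem_normalizer_iff.1 g.2.2 _).1 (hRmem x)).2⟩
          invFun := fun x => ⟨⟨(g : G)⁻¹ * x * (g : G), by
            have := ((Subgroup.mem_normalizer_iff.1 (inv_mem g.2.2) _).1 (hRmem x)).1
            simpa using this⟩, by
            have := ((Subgroup.mem_normalizer_iff.1 (inv_mem g.2.2) _).1 (hRmem x)).2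
            show (g : G)⁻¹ * x * (g : G) ∈ CE
            simpa using this⟩
          left_inv := fun x => Subtype.ext (Subtype.ext (by simp [mul_assoc]))
          right_inv := fun x => Subtype.ext (Subtype.ext (by simp [mul_assoc]))
          map_mul' := fun x y => Subtype.ext (Subtype.ext (by simp [mul_assoc])) }
      map_one' := MulEquiv.ext fun x => Subtype.ext (Subtype.ext (by simp))
      map_mul' := fun g g' => MulEquiv.ext fun x => Subtype.ext (Subtype.ext (by simp [mul_assoc])) }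
  let πR : NR →* MulAut E := π.comp (Subgroup.inclusion inf_le_left)
  have hρπ : ∀ (g : NR) (e : E), ρ g (ιE e) = ιE (πR g e) := fun g e =>
    Subtype.ext (Subtype.ext rfl)
  set L := Q.comap πR with hL
  -- `C(E) ∩ N(R)` is solvable
  have hRsyl : ¬ 2 ∣ RG.relIndex CE := by
    intro h2
    have hCn : (CE.subgroupOf NE).Normal := by
      rw [hCE, ← Subgroup.normalizerMonoidHom_ker]; infer_instance
    haveI := hCn
    have h3 : (SG.subgroupOf NE).relIndex (CE.subgroupOf NE) ∣ (SG.subgroupOf NE).index :=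
      H71.relIndex_dvd_index_normal _ _
    rw [Subgroup.relIndex_subgroupOf (Subgroup.centralizer_le_normalizer _)] at h3
    rw [hRG, Subgroup.inf_relIndex_right] at h2
    exact (S.subtype hSNE).not_dvd_index (h2.trans h3)
  haveI hLsol : Group.IsSolvable L := by
    let f : L →* Q := MonoidHom.mk' (fun l => ⟨πR (l : NR), l.2⟩) fun a b => Subtype.ext (map_mul πR _ _)
    haveI : Group.IsSolvable Q := by
      haveI := hQp.isNilpotent
      infer_instance
    set CR := CE ⊓ Subgroup.normalizer (RG : Set G) with hCR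
    have hRGCR : RG ≤ CR := le_inf inf_le_right Subgroup.le_normalizer
    haveI : (RG.subgroupOf CR).Normal :=
      (Subgroup.normal_subgroupOf_iff_le_normalizer hRGCR).2 inf_le_right
    haveI : Group.IsNilpotent (RG.subgroupOf CR) :=
      ((S.isPGroup'.to_le inf_le_left : IsPGroup 2 RG).comap_of_injective CR.subtype
        CR.subtype_injective : IsPGroup 2 (RG.subgroupOf CR)).isNilpotent
    haveI : Group.IsSolvable (RG.subgroupOf CR) := inferInstance
    haveI : Group.IsSolvable (↥CR ⧸ RG.subgroupOf CR) := by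
      refine H16.FT.oddOrder (Nat.not_even_iff_odd.1 fun h2 => hRsyl ?_)
      rw [even_iff_two_dvd, ← Subgroup.index_eq_card] at h2
      have h3 := Subgroup.relIndex_mul_relIndex RG CR CE hRGCR inf_le_left
      exact (h2.trans (dvd_mul_right _ _)).trans h3.dvd
    haveI : Group.IsSolvable CR :=
      Group.isSolvable_of_ker_le_range (RG.subgroupOf CR).subtype
        (QuotientGroup.mk' (RG.subgroupOf CR)) (by simp)
    have hk : ∀ l : f.ker, (((l : L) : NR) : G) ∈ CR := by
      intro l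
      refine ⟨?_, ((l : L) : NR).2.2⟩
      have h1 : (Subgroup.inclusion inf_le_left ((l : L) : NR) : NE) ∈ π.ker :=
        MonoidHom.mem_ker.2 (congrArg Subtype.val (MonoidHom.mem_ker.1 l.2))
      rwa [hπ, Subgroup.normalizerMonoidHom_ker] at h1
    haveI : Group.IsSolvable f.ker := by
      refine Group.isSolvable_of_isSolvable_injective
        (f := MonoidHom.mk' (fun l : f.ker => (⟨(((l : L) : NR) : G), hk l⟩ : CR)) fun _ _ => rfl) ?_
      intro x y hxy
      exact Subtype.ext (Subtype.ext (Subtype.ext (congrArg (fun z : CR => (z : G)) hxy)))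
    exact Group.isSolvable_of_ker_le_range f.ker.subtype f (by simp)
  set M := L.map ρ with hM
  haveI : Group.IsSolvable M := solvable_map ρ L
  have hsurj : ∀ q ∈ Q, ∃ l ∈ L, πR l = q := by
    intro q hq
    obtain ⟨g, rfl⟩ := hQX hq
    have hcn : CE.subgroupOf NE = π.ker := (Subgroup.normalizerMonoidHom_ker E).symm
    let TC : Sylow 2 CE := ((S.isPGroup'.to_le inf_le_left : IsPGroup 2 RG).comap_of_injective
      CE.subtype CE.subtype_injective).toSylow hRsyl
    let ec : ↥CE ≃* ↥CE :=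
      { toFun := fun x => ⟨(g : G) * x * (g : G)⁻¹, by
          have hx' : (⟨(x : G), Subgroup.centralizer_le_normalizer _ x.2⟩ : NE) ∈ π.ker := by
            rw [← hcn]; exact x.2
          have h := Subgroup.Normal.conj_mem inferInstance _ hx' g
          rw [← hcn] at h; exact h⟩
        invFun := fun x => ⟨(g : G)⁻¹ * x * (g : G), by
          have hx' : (⟨(x : G), Subgroup.centralizer_le_normalizer _ x.2⟩ : NE) ∈ π.ker := by
            rw [← hcn]; exact x.2
          have h := Subgroup.Normal.conj_mem inferInstance _ hx' g⁻¹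
          rw [← hcn] at h; simpa [Subgroup.mem_subgroupOf] using h⟩
        left_inv := fun x => Subtype.ext (by simp [mul_assoc])
        right_inv := fun x => Subtype.ext (by simp [mul_assoc])
        map_mul' := fun x y => Subtype.ext (by simp [mul_assoc]) }
    let B : Sylow 2 CE := TC.mapSurjective (f := ec.toMonoidHom) ec.surjective
    obtain ⟨c, hc⟩ := MulAction.exists_smul_eq CE B TC
    have hc' := congrArg (fun T : Sylow 2 CE => (T : Subgroup CE)) hc
    simp only [Sylow.coe_subgroup_smul] at hc'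
    set w := (c : G) * g
    have hwNE : w ∈ NE := mul_mem (Subgroup.centralizer_le_normalizer _ c.2) g.2
    have hstep : ∀ y ∈ RG, w * y * w⁻¹ ∈ RG := by
      intro y hy
      have h1 : c * ec ⟨y, hy.2⟩ * c⁻¹ ∈ (TC : Subgroup CE) := hc'.le (by
        rw [Subgroup.mem_pointwise_smul_iff_inv_smul_mem]
        exact ⟨⟨y, hy.2⟩, hy, by simp [mul_assoc]⟩)
      have h2 : ((c * ec ⟨y, hy.2⟩ * c⁻¹ : CE) : G) ∈ RG := h1
      simpa [w, ec, mul_assoc] using h2
    have hwN : w ∈ Subgroup.normalizer (RG : Set G) := by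
      have heq : RG.map (MulAut.conj w).toMonoidHom = RG :=
        Subgroup.eq_of_le_of_card_ge (by rintro _ ⟨y, hy, rfl⟩; exact hstep y hy)
          (Subgroup.card_map_of_injective (MulAut.conj w).injective).ge
      refine Subgroup.mem_normalizer_iff.2 fun y => ⟨hstep y, fun hy => ?_⟩
      obtain ⟨z, hz, hzy⟩ := heq.ge hy
      have : z = y := (MulAut.conj w).injective hzy
      exact this ▸ hz
    have hπw : π ⟨w, hwNE⟩ = π g := by
      have h1 : (⟨(c : G), Subgroup.centralizer_le_normalizer _ c.2⟩ : NE) ∈ π.ker := by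
        rw [← hcn]; exact c.2
      rw [show (⟨w, hwNE⟩ : NE) = ⟨(c : G), Subgroup.centralizer_le_normalizer _ c.2⟩ * g from rfl,
        map_mul, MonoidHom.mem_ker.1 h1, one_mul]
    refine ⟨⟨w, hwNE, hwN⟩, ?_, hπw⟩
    show πR ⟨w, hwNE, hwN⟩ ∈ Q
    exact hπw ▸ hq
  have hmain : P.map rR = ⊥ := by
    refine OutAut.perfect_eq_bot (S.isPGroup'.to_subgroup R₀) E₀ hE₀c hE₀iff M (P.map rR)
      (OutPerf.map_perfect rR hP) ?_ ?_ hr2 ?_ (r ^ a) ?_ ?_
    · have hstep : ∀ p ∈ P, ∀ y ∈ M, rR p * y * (rR p)⁻¹ ∈ M := by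
        rintro p hp _ ⟨l, hl, rfl⟩
        obtain ⟨α, hα, hαS, hαE, hαN⟩ := hext p hp
        have hαC : ∀ x, x ∈ CE ↔ α x ∈ CE := by
          intro x
          constructor
          · intro hx
            refine Subgroup.mem_centralizer_iff.2 fun e he => ?_
            obtain ⟨t, rfl⟩ := α.surjective e
            rw [← map_mul, ← map_mul, Subgroup.mem_centralizer_iff.1 hx t ((hαE t).2 he)]
          · intro hx
            refine Subgroup.mem_centralizer_iff.2 fun e he => α.injective ?_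
            rw [map_mul, map_mul, Subgroup.mem_centralizer_iff.1 hx _ ((hαE e).1 he)]
        have hαR : ∀ x, x ∈ RG ↔ α x ∈ RG := fun x => by
          rw [hRG, Subgroup.mem_inf, Subgroup.mem_inf, ← hαS, ← hαC]
        have hαl : α (l : G) ∈ NR := ⟨(hαN _).1 l.2.1, by
          refine Subgroup.mem_normalizer_iff.2 fun x => ?_
          obtain ⟨t, rfl⟩ := α.surjective x
          rw [← map_inv, ← map_mul, ← map_mul, ← hαR, ← hαR]
          exact Subgroup.mem_normalizer_iff.1 l.2.2 t⟩
        refine ⟨⟨_, hαl⟩, ?_, ?_⟩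
        · show π ⟨α (l : G), _⟩ ∈ Q
          have e := hπrE p hp ⟨(l : G), l.2.1⟩ α hα ((hαN _).1 l.2.1)
          rw [show (⟨α (l : G), hαl.1⟩ : NE) = ⟨α (l : G), (hαN _).1 l.2.1⟩ from rfl, e,
            show rE p = 1 from (Subgroup.eq_bot_iff_forall _).1 hPb1 _ ⟨p, hp, rfl⟩, one_mul,
            inv_one, mul_one]
          exact hl
        · rw [eq_mul_inv_iff_mul_eq]
          refine MulEquiv.ext fun x => Subtype.ext (Subtype.ext ?_)
          show α (l : G) * (p (x : SG) : G) * (α (l : G))⁻¹ = (p ⟨(l : G) * x * (l : G)⁻¹, _⟩ : G)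
          rw [← hα, ← hα]
          simp
      rintro _ ⟨p, hp, rfl⟩
      refine Subgroup.mem_normalizer_iff.2 fun y => ⟨hstep p hp y, fun hy => ?_⟩
      simpa [map_inv, mul_assoc] using hstep p⁻¹ (inv_mem hp) _ hy
    · rintro _ ⟨p, hp, rfl⟩ e he
      exact Subtype.ext (hPE p hp _ he)
    · rintro _ ⟨l, hl, rfl⟩
      obtain ⟨j, hj⟩ := hQp (⟨πR l, hl⟩ : Q)
      refine ⟨j, fun e he => ?_⟩
      have h1 : πR (l ^ r ^ j) = 1 := by rw [map_pow]; exact congrArg Subtype.val hj
      have h2 := hρπ (l ^ r ^ j) ⟨((e : SG) : G), he⟩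
      rw [h1] at h2
      rw [← map_pow]
      exact h2
    · intro e he hne
      set e' : E := ⟨((e : SG) : G), he⟩
      have hne' : e' ≠ 1 := fun h =>
        hne (Subtype.ext (Subtype.ext (congrArg (fun v : E => (v : G)) h)))
      have h1 : MulAction.orbit M e = ιE '' (MulAction.orbit Q e') := by
        ext v
        constructor
        · rintro ⟨⟨_, l, hl, rfl⟩, rfl⟩
          exact ⟨πR l e', ⟨⟨_, hl⟩, rfl⟩, (hρπ l e').symm⟩
        · rintro ⟨_, ⟨q, rfl⟩, rfl⟩
          obtain ⟨l, hl, hlq⟩ := hsurj q q.2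
          refine ⟨⟨ρ l, l, hl, rfl⟩, ?_⟩
          show ρ l (ιE e') = ιE ((q : MulAut E) e')
          rw [hρπ, hlq]
      rw [h1, Nat.card_image_of_injective (fun x y h => Subtype.ext
        (congrArg (fun v : R₀ => ((v : SG) : G)) h))]
      exact horbQ e' hne'
    · intro d hd hdd
      rw [hE₀card]
      exact Nat.pow_le_pow_right two_pos (Nat.le_of_dvd hd (hgood d hd hdd))
  -- step 4: chain
  refine (Subgroup.eq_bot_iff_forall _).2 fun p hp => MulEquiv.ext fun s => ?_
  refine OutAut.fixed_of_chain hP (S := ⊤) (D := R₀) (fun p hp s _ => ?_) (fun p hp x hx => ?_)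
    (fun s _ x hx => ?_) p hp s (Subgroup.mem_top s)
  · refine Subgroup.mem_centralizer_iff.2 fun e he => ?_
    set e₁ : SG := s⁻¹ * ⟨e, hES he⟩ * s
    have he₁ : (e₁ : G) ∈ E := by
      have := (Subgroup.mem_normalizer_iff.1 (hSNE (inv_mem s.2)) e).1 he
      simpa [e₁] using this
    have h1 : p (s * e₁ * s⁻¹) = s * e₁ * s⁻¹ :=
      hPE p hp _ ((Subgroup.mem_normalizer_iff.1 (hSNE s.2) _).1 he₁)
    rw [map_mul, map_mul, map_inv, hPE p hp _ he₁] at h1
    have h2 : (⟨e, hES he⟩ : SG) * (p s * s⁻¹) = p s * s⁻¹ * ⟨e, hES he⟩ := by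
      calc (⟨e, hES he⟩ : SG) * (p s * s⁻¹) = (s * e₁ * s⁻¹) * (p s * s⁻¹) := by
            simp [e₁, mul_assoc]
        _ = (p s * e₁ * (p s)⁻¹) * (p s * s⁻¹) := by rw [h1]
        _ = _ := by simp [e₁, mul_assoc]
    exact congrArg Subtype.val h2
  · have := (Subgroup.eq_bot_iff_forall _).1 hmain (rR p) ⟨p, hp, rfl⟩
    exact congrArg (fun v : R₀ => (v : SG)) (DFunLike.congr_fun this ⟨x, hx⟩)
  · refine Subgroup.mem_centralizer_iff.2 fun e he => ?_
    have he' := (Subgroup.mem_normalizer_iff.1 (hSNE (inv_mem s.2)) e).1 he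
    rw [inv_inv] at he'
    have h1 := Subgroup.mem_centralizer_iff.1 hx _ he'
    show e * ((s : G) * x * (s : G)⁻¹) = (s : G) * x * (s : G)⁻¹ * e
    calc e * ((s : G) * x * (s : G)⁻¹) = s * ((s : G)⁻¹ * e * s * x) * (s : G)⁻¹ := by group
      _ = s * (x * ((s : G)⁻¹ * e * s)) * (s : G)⁻¹ := congrArg (fun w => (s : G) * w * (s : G)⁻¹) h1
      _ = _ := by group

/-- **Glauberman's criteria.** -/
theorem out_solvable [IsSimpleGroup G] (hG : ¬ IsMulCommutative G) (S : Sylow 2 G)
    (hS1 : (S : Subgroup G) ≠ ⊥)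
    (h : (∃ a b : ↥S, Subgroup.closure ({a, b} : Set ↥S) = ⊤) ∨
      ((∃ a b c : ↥S, Subgroup.closure ({a, b, c} : Set ↥S) = ⊤) ∧
        ∃ g ∈ Subgroup.normalizer ((S : Subgroup G) : Set G), Odd (orderOf g) ∧
          g ∉ Subgroup.centralizer ((S : Subgroup G) : Set G)) ∨
      ((∀ s ∈ S, ∀ t ∈ S, orderOf s = 2 → orderOf t = 2 → s * t = t * s) ∧
        (∀ s ∈ S, ∀ t ∈ S, orderOf s = 2 → orderOf t = 2 → ∃ g : G, g * s * g⁻¹ = t))) :
    Group.IsSolvable (Cfsg.Out G) := by
  haveI : Fact (Nat.Prime 2) := ⟨Nat.prime_two⟩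
  have hO : Cfsg.pPrimeCore 2 G = ⊥ := by
    refine (IsSimpleGroup.eq_bot_or_eq_top_of_normal _ inferInstance).resolve_right fun htop => ?_
    apply Cfsg.Comp.not_dvd_card_pPrimeCore (G := G) 2
    rw [htop, Subgroup.card_top]
    haveI : Nontrivial (S : Subgroup G) := (Subgroup.nontrivial_iff_ne_bot _).2 hS1
    obtain ⟨k, hk0, hk⟩ := S.isPGroup'.nontrivial_iff_card.1 inferInstance
    exact ((hk ▸ dvd_pow_self 2 hk0.ne' : 2 ∣ Nat.card (S : Subgroup G))).trans
      (Subgroup.card_subgroup_dvd_card _)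
  have hZ : Subgroup.center G = ⊥ := by
    refine (IsSimpleGroup.eq_bot_or_eq_top_of_normal _ inferInstance).resolve_right fun htop => hG ?_
    exact ⟨⟨fun x y => (Subgroup.mem_center_iff.1 (htop ▸ Subgroup.mem_top y) x)⟩⟩
  refine H3.AutFixSylow.out_solvable H3.oddOrderSolvable hO hZ S ?_
  rcases h with h2 | ⟨h3, hg⟩ | ⟨hc, hj⟩
  · haveI := solvable_of_two S.isPGroup' h2
    infer_instance
  · exact solvable_of_three S h3 hg
  · exact solvable_of_commuting S hS1 hc hj

end H73.OutSol
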