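import Cfsg.Agent.H73.OutQuad
import Cfsg.Agent.H73.OutPerfect
import Cfsg.Agent.H6.Basic
import Cfsg.Agent.H84.Invariant
import Cfsg.Agent.H16.OddOrder

/-!
Automorphisms of a 2-group `R` whose involutions are central, centralising them: there is no
perfect group of these normalised by a group acting on the involutions with big orbits.
-/

set_option autoImplicit false
set_option linter.unusedSectionVars false
set_option linter.style.haveILetI false

namespace H73.OutAut

open Subgroup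
open scoped commutatorElement

variable {R : Type*} [Group R]

theorem disp_comm {P : Subgroup (MulAut R)} {S N : Subgroup R}
    (hN : ∀ p ∈ P, ∀ n ∈ N, p n = n) (hnorm : ∀ x ∈ S, ∀ n ∈ N, x * n * x⁻¹ ∈ N)
    {p : MulAut R} (hp : p ∈ P) {x : R} (hx : x ∈ S) {n : R} (hn : n ∈ N) :
    p x * x⁻¹ * n = n * (p x * x⁻¹) := by
  have hm : x⁻¹ * n * x ∈ N := by simpa using hnorm x⁻¹ (inv_mem hx) n hn
  have e : p (x * (x⁻¹ * n * x) * x⁻¹) = x * (x⁻¹ * n * x) * x⁻¹ :=
    hN p hp _ (by simpa [mul_assoc] using hn)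
  rw [map_mul, map_mul, map_inv, hN p hp _ hm] at e
  calc p x * x⁻¹ * n = p x * (x⁻¹ * n * x) * (p x)⁻¹ * (p x * x⁻¹) := by group
    _ = x * (x⁻¹ * n * x) * x⁻¹ * (p x * x⁻¹) := by rw [e]
    _ = n * (p x * x⁻¹) := by group

/-- A perfect group of automorphisms stabilizing `S ≥ D ≥ 1` fixes `S`. -/
theorem fixed_of_chain {P : Subgroup (MulAut R)} (hP : ⁅P, P⁆ = P) {S D : Subgroup R}
    (hd : ∀ p ∈ P, ∀ x ∈ S, p x * x⁻¹ ∈ D) (hD : ∀ p ∈ P, ∀ n ∈ D, p n = n)
    (hnorm : ∀ x ∈ S, ∀ n ∈ D, x * n * x⁻¹ ∈ D) :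
    ∀ p ∈ P, ∀ x ∈ S, p x = x := by
  intro p hp x hx
  have key : ∀ u ∈ P, ∀ v ∈ P, u (v x) = v (u x) := by
    intro u hu v hv
    have h1 : ∀ a ∈ P, ∀ b ∈ P, a (b x) = (b x * x⁻¹) * (a x * x⁻¹) * x := by
      intro a ha b hb
      conv_lhs => rw [show b x = (b x * x⁻¹) * x by group]
      rw [map_mul, hD a ha _ (hd b hb x hx)]
      group
    rw [h1 u hu v hv, h1 v hv u hu, disp_comm hD hnorm hv hx (hd u hu x hx)]
  have hle : P ≤ MulAction.stabilizer (MulAut R) x := by
    refine hP.ge.trans (commutator_le.2 fun a ha b hb => ?_)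
    rw [MulAction.mem_stabilizer_iff, MulAut.smul_def, commutatorElement_def, MulAut.mul_apply,
      MulAut.mul_apply, MulAut.mul_apply, key a⁻¹ (inv_mem ha) b⁻¹ (inv_mem hb),
      MulAut.apply_inv_self, MulAut.apply_inv_self]
  exact hle hp

/-- The action on a section. -/
theorem exists_restrict {S : Subgroup R} (k : MulAut R) (hk : ∀ x, k x ∈ S ↔ x ∈ S) :
    ∃ e : ↥S ≃* ↥S, ∀ x : ↥S, (e x : R) = k x :=
  ⟨{ toFun := fun x => ⟨k x, (hk _).2 x.2⟩
     invFun := fun x => ⟨k.symm x, (hk _).1 (by rw [MulEquiv.apply_symm_apply]; exact x.2)⟩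
     left_inv := fun x => Subtype.ext (k.symm_apply_apply _)
     right_inv := fun x => Subtype.ext (k.apply_symm_apply _)
     map_mul' := fun x y => Subtype.ext (map_mul k _ _) }, fun _ => rfl⟩

/-- A group with a Sylow 2-subgroup of order at most two is solvable. -/
theorem isSolvable_of_sylow_le_two {H : Type*} [Group H] [Finite H] (T : Sylow 2 H)
    (hT : Nat.card T ≤ 2) : Group.IsSolvable H := by
  by_cases hodd : Odd (Nat.card H)
  · exact H16.FT.oddOrder hodd
  haveI : Fact (Nat.Prime 2) := ⟨Nat.prime_two⟩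
  rw [Nat.not_odd_iff_even, even_iff_two_dvd] at hodd
  have hmin : (Nat.card H).minFac = 2 :=
    le_antisymm (Nat.minFac_le_of_dvd le_rfl hodd) (Nat.minFac_prime (fun h => by
      rw [h] at hodd; omega)).two_le
  haveI hcyc : IsCyclic T := by
    rcases Nat.eq_or_lt_of_le hT with h2 | h2
    · exact isCyclic_of_prime_card h2
    · haveI : Subsingleton T := (Nat.card_eq_one_iff_unique.1 (by
        have := Nat.card_pos (α := T); omega)).1
      infer_instance
  have hcomp := hcyc.isComplement' hmin (P := T)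
  set f := MonoidHom.transferSylow T (hcyc.normalizer_le_centralizer hmin)
  haveI : Group.IsSolvable f.ker := by
    refine H16.FT.oddOrder (Nat.not_even_iff_odd.1 fun h2 => ?_)
    rw [even_iff_two_dvd, ← hcomp.index_eq_card] at h2
    exact T.not_dvd_index h2
  haveI : Group.IsSolvable T := by
    haveI := T.isPGroup'.isNilpotent
    infer_instance
  exact Group.isSolvable_of_ker_le_range f.ker.subtype f (by simp)

section Section

variable (E S : Subgroup R)

theorem exists_mk [(E.subgroupOf S).Normal] (u : Additive (↥S ⧸ E.subgroupOf S)) :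
    ∃ x : ↥S, Additive.ofMul (QuotientGroup.mk x) = u :=
  QuotientGroup.mk_surjective (Additive.toMul u)

/-- The action of `K` on `S / S ∩ E`. -/
@[reducible]
def sectionAction [(E.subgroupOf S).Normal] (K : Subgroup (MulAut R))
    (hS : ∀ k ∈ K, ∀ x ∈ S, k x ∈ S) (hE : ∀ k ∈ K, ∀ x ∈ E, k x ∈ E) :
    DistribMulAction K (Additive (↥S ⧸ E.subgroupOf S)) :=
  let res : K → (↥S →* ↥S) := fun k =>
    { toFun := fun x => ⟨(k : MulAut R) x, hS k k.2 x x.2⟩
      map_one' := Subtype.ext (map_one (k : MulAut R))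
      map_mul' := fun x y => Subtype.ext (map_mul (k : MulAut R) _ _) }
  let act : K → (↥S ⧸ E.subgroupOf S →* ↥S ⧸ E.subgroupOf S) := fun k =>
    QuotientGroup.map _ _ (res k) (fun x hx => hE k k.2 _ hx)
  { smul := fun k u => Additive.ofMul (act k (Additive.toMul u))
    one_smul := fun u => by
      obtain ⟨x, rfl⟩ := exists_mk E S u
      rfl
    mul_smul := fun k l u => by
      obtain ⟨x, rfl⟩ := exists_mk E S u
      rfl
    smul_zero := fun k => congrArg Additive.ofMul (map_one (act k))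
    smul_add := fun k u v => congrArg Additive.ofMul (map_mul (act k) _ _) }

/-- Squares, as a map on `S / S ∩ E`. -/
def sqMap (hsq : ∀ x ∈ S, x * x ∈ E) (hc : E ≤ Subgroup.center R) (he : ∀ e ∈ E, e * e = 1)
    (u : Additive (↥S ⧸ E.subgroupOf S)) : Additive ↥E :=
  Quotient.liftOn' (Additive.toMul u)
    (fun x => Additive.ofMul (⟨(x : R) * x, hsq _ x.2⟩ : ↥E))
    (fun x y hxy => by
      refine congrArg Additive.ofMul (Subtype.ext ?_)
      rw [QuotientGroup.leftRel_apply, Subgroup.mem_subgroupOf] at hxy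
      show (x : R) * x = (y : R) * y
      set e := ((x⁻¹ * y : ↥S) : R) with hedef
      have hy : (y : R) = x * e := by rw [hedef]; simp
      have hce : e * (x : R) = x * e := (Subgroup.mem_center_iff.1 (hc hxy) x).symm
      rw [hy]
      calc (x : R) * x = x * x * (e * e) := by rw [he e hxy, mul_one]
        _ = x * (x * e) * e := by group
        _ = x * (e * x) * e := by rw [hce]
        _ = x * e * (x * e) := by group)

end Section

variable [Finite R]

theorem core_of_group (hR : IsPGroup 2 R) (E : Subgroup R) (hEc : E ≤ Subgroup.center R)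
    (hEiff : ∀ x : R, x * x = 1 ↔ x ∈ E) (A P : Subgroup (MulAut R))
    (hP : ⁅P, P⁆ = P) (hPA : P ≤ Subgroup.normalizer (A : Set (MulAut R)))
    (hAP : A ≤ Subgroup.normalizer (P : Set (MulAut R)))
    (hPE : ∀ p ∈ P, ∀ e ∈ E, p e = e) {r : ℕ} [Fact r.Prime] (hr2 : r ≠ 2) (hA : IsPGroup r A)
    (m : ℕ) (horb : ∀ e ∈ E, e ≠ 1 → m ∣ Nat.card (MulAction.orbit A e))
    (hm : ∀ d, 0 < d → m ∣ 2 ^ d - 1 → Nat.card E ≤ 2 ^ d) :
    ∀ p ∈ P, ∀ x : R, p x = x := by
  classical
  haveI : Fact (Nat.Prime 2) := ⟨Nat.prime_two⟩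
  have hEinv : ∀ (k : MulAut R), ∀ e ∈ E, k e ∈ E := fun k e he => by
    rw [← hEiff, ← map_mul, (hEiff e).2 he, map_one]
  by_contra hcon
  push Not at hcon
  set K := A ⊔ P with hK
  have hKP : K ≤ Subgroup.normalizer (P : Set (MulAut R)) := sup_le hAP Subgroup.le_normalizer
  -- a smallest moved invariant subgroup
  have hex : ∃ n, ∃ S : Subgroup R, Nat.card S = n ∧ (∀ k ∈ K, ∀ x ∈ S, k x ∈ S) ∧
      ∃ p ∈ P, ∃ x ∈ S, p x ≠ x := by
    obtain ⟨p, hp, x, hx⟩ := hcon
    exact ⟨_, ⊤, rfl, fun _ _ _ _ => Subgroup.mem_top _, p, hp, x, Subgroup.mem_top x, hx⟩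
  obtain ⟨n, ⟨S, hSn, hSinv, hmove⟩, hmin⟩ :
      ∃ n, (∃ S : Subgroup R, Nat.card S = n ∧ (∀ k ∈ K, ∀ x ∈ S, k x ∈ S) ∧
        ∃ p ∈ P, ∃ x ∈ S, p x ≠ x) ∧ ∀ S' : Subgroup R, Nat.card S' < n →
        (∀ k ∈ K, ∀ x ∈ S', k x ∈ S') → ∀ p ∈ P, ∀ x ∈ S', p x = x :=
    ⟨Nat.find hex, Nat.find_spec hex, fun S' hlt hinv p hp x hx => by
      by_contra hne
      exact Nat.find_min hex hlt ⟨S', rfl, hinv, p, hp, x, hx, hne⟩⟩
  have hproper : ∀ S' : Subgroup R, S' ≤ S → S' ≠ S → (∀ k ∈ K, ∀ x ∈ S', k x ∈ S') →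
      ∀ p ∈ P, ∀ x ∈ S', p x = x := fun S' hle hne hinv => hmin S' (by
    rw [← hSn]
    exact lt_of_not_ge fun hge => hne (Subgroup.eq_of_le_of_card_ge hle hge)) hinv
  have hfalse : (∀ p ∈ P, ∀ x ∈ S, p x = x) → False := fun h => by
    obtain ⟨p, hp, x, hx, hne⟩ := hmove
    exact hne (h p hp x hx)
  have hPK : ∀ p ∈ P, p ∈ K := fun p hp => Subgroup.mem_sup_right hp
  -- the Frattini subgroup is fixed
  have hSne : Nontrivial S := by
    obtain ⟨p, hp, x, hx, hne⟩ := hmove
    refine ⟨⟨⟨x, hx⟩, 1, fun e => hne ?_⟩⟩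
    rw [show x = 1 from congrArg Subtype.val e, map_one]
  have hSp : IsPGroup 2 S := hR.to_subgroup S
  set Φ := (frattini S).map S.subtype with hΦ
  have hΦS : Φ ≤ S := Subgroup.map_subtype_le _
  have hΦinv : ∀ k ∈ K, ∀ x ∈ Φ, k x ∈ Φ := by
    rintro k hk _ ⟨x, hx, rfl⟩
    obtain ⟨e, he⟩ := exists_restrict (S := S) k (fun y => ⟨fun hy => by
      have := hSinv k⁻¹ (inv_mem hk) _ hy
      rwa [MulAut.inv_apply_self] at this, hSinv k hk y⟩)
    exact ⟨e x, by
      have h1 : (frattini S).comap e.toMonoidHom = frattini S :=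
        Subgroup.characteristic_iff_comap_eq.1 inferInstance e
      exact (h1.ge hx : x ∈ (frattini S).comap e.toMonoidHom), he x⟩
  have hΦne : Φ ≠ S := by
    intro e
    obtain ⟨M, hM, -⟩ :=
      (eq_top_or_exists_le_coatom (⊥ : Subgroup S)).resolve_left bot_ne_top
    refine hM.1 (top_le_iff.1 fun x _ => frattini_le_coatom hM ?_)
    obtain ⟨y, hy, hyx⟩ := e.ge x.2
    exact (Subtype.ext hyx : y = x) ▸ hy
  have hΦfix := hproper Φ hΦS hΦne hΦinv
  have hΦnorm : ∀ x ∈ S, ∀ y ∈ Φ, x * y * x⁻¹ ∈ Φ := by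
    rintro x hx _ ⟨y, hy, rfl⟩
    exact ⟨⟨x, hx⟩ * y * ⟨x, hx⟩⁻¹, Subgroup.Normal.conj_mem inferInstance y hy _, rfl⟩
  -- the displacements generate `S`
  set D := Subgroup.closure {z : R | ∃ p ∈ P, ∃ x ∈ S, p x * x⁻¹ = z} with hD
  have hdD : ∀ p ∈ P, ∀ x ∈ S, p x * x⁻¹ ∈ D := fun p hp x hx =>
    Subgroup.subset_closure ⟨p, hp, x, hx, rfl⟩
  have hDS : D ≤ S := by
    rw [hD, Subgroup.closure_le]
    rintro _ ⟨p, hp, x, hx, rfl⟩
    exact mul_mem (hSinv p (hPK p hp) x hx) (inv_mem hx)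
  have hDnorm : ∀ y ∈ S, ∀ z ∈ D, y * z * y⁻¹ ∈ D := by
    intro y hy z hz
    have hle : D ≤ D.comap (MulAut.conj y).toMonoidHom := by
      rw [hD, Subgroup.closure_le]
      rintro _ ⟨p, hp, x, hx, rfl⟩
      show y * (p x * x⁻¹) * y⁻¹ ∈ D
      have h1 : y * (p x * x⁻¹) * y⁻¹ = (p y * y⁻¹)⁻¹ * (p (y * x) * (y * x)⁻¹) := by
        rw [map_mul]; group
      rw [h1]
      exact mul_mem (inv_mem (hdD p hp y hy)) (hdD p hp _ (mul_mem hy hx))
    exact hle hz
  have hDinv : ∀ k ∈ K, ∀ z ∈ D, k z ∈ D := by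
    intro k hk z hz
    have hgen : ∀ q ∈ K, D ≤ D.comap (q : MulAut R).toMonoidHom := by
      intro q hq
      rw [hD, Subgroup.closure_le]
      rintro _ ⟨p, hp, x, hx, rfl⟩
      show q (p x * x⁻¹) ∈ D
      have e : q (p x * x⁻¹) = (q * p * q⁻¹) (q x) * (q x)⁻¹ := by
        simp [MulAut.mul_apply, map_mul]
      rw [e]
      exact hdD _ ((Subgroup.mem_normalizer_iff.1 (hKP hq) _).1 hp) _ (hSinv q hq x hx)
    exact hgen k hk hz
  have hDeq : D = S := by
    by_contra hne
    have h1 := hproper D hDS hne hDinv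
    exact hfalse (fixed_of_chain hP hdD h1 hDnorm)
  -- `Φ` is central in `S`
  have hΦc : ∀ y ∈ Φ, ∀ x ∈ S, x * y = y * x := by
    intro y hy x hx
    have hle : D ≤ Subgroup.centralizer ({y} : Set R) := by
      rw [hD, Subgroup.closure_le]
      rintro _ ⟨p, hp, z, hz, rfl⟩
      exact Subgroup.mem_centralizer_singleton_iff.2 (disp_comm hΦfix hΦnorm hp hz hy)
    exact Subgroup.mem_centralizer_singleton_iff.1 (hle (hDeq.ge hx))
  have hsqΦ : ∀ x ∈ S, x * x ∈ Φ := fun x hx =>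
    ⟨(⟨x, hx⟩ : S) ^ 2, H6.pow_prime_mem_frattini hSp _, by simp [pow_two]⟩
  have hcomΦ : ∀ x ∈ S, ∀ y ∈ S, x * y * x⁻¹ * y⁻¹ ∈ Φ := fun x hx y hy =>
    ⟨⁅(⟨x, hx⟩ : S), ⟨y, hy⟩⁆, H6.commutator_le_frattini hSp
      (Subgroup.commutator_mem_commutator (Subgroup.mem_top _) (Subgroup.mem_top _)), rfl⟩
  -- commutators have order two
  have hcom2 : ∀ x ∈ S, ∀ y ∈ S, (x * y * x⁻¹ * y⁻¹) * (x * y * x⁻¹ * y⁻¹) = 1 := by
    intro x hx y hy
    set c := x * y * x⁻¹ * y⁻¹ with hcdef
    have h1 : c * x = x * c := (hΦc c (hcomΦ x hx y hy) x hx).symm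
    have h2 : x * x * y = y * (x * x) := (hΦc _ (hsqΦ x hx) y hy).symm
    calc c * c = c * (x * y * x⁻¹ * y⁻¹) := by rw [← hcdef]
      _ = c * x * (y * x⁻¹ * y⁻¹) := by group
      _ = x * c * (y * x⁻¹ * y⁻¹) := by rw [h1]
      _ = x * x * y * (x * x)⁻¹ * y⁻¹ := by rw [hcdef]; group
      _ = y * (x * x) * (x * x)⁻¹ * y⁻¹ := by rw [h2]
      _ = 1 := by group
  -- exponent four
  have hexp : ∀ x ∈ S, x * x * (x * x) = 1 := by
    have hsqmul : ∀ x ∈ S, ∀ y ∈ S,
        x * y * (x * y) = x * x * (y * y) * (y⁻¹ * x⁻¹ * y⁻¹⁻¹ * x⁻¹⁻¹) := by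
      intro x hx y hy
      set c := y⁻¹ * x⁻¹ * y⁻¹⁻¹ * x⁻¹⁻¹ with hcdef
      have hc : c ∈ Φ := hcomΦ _ (inv_mem hy) _ (inv_mem hx)
      have h1 : y * c = c * y := hΦc c hc y hy
      calc x * y * (x * y) = x * (x * y * c) * y := by rw [hcdef]; group
        _ = x * x * y * (c * y) := by group
        _ = x * x * (y * y) * c := by rw [← h1]; group
    let F : Subgroup R :=
      { carrier := {x | x ∈ S ∧ x * x * (x * x) = 1}
        one_mem' := ⟨one_mem _, by simp⟩
        mul_mem' := by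
          rintro x y ⟨hx, hx4⟩ ⟨hy, hy4⟩
          refine ⟨mul_mem hx hy, ?_⟩
          rw [hsqmul x hx y hy]
          set c := y⁻¹ * x⁻¹ * y⁻¹⁻¹ * x⁻¹⁻¹ with hcdef
          have hc2 : c * c = 1 := hcom2 _ (inv_mem hy) _ (inv_mem hx)
          have hxc : x * x * c = c * (x * x) :=
            hΦc c (hcomΦ _ (inv_mem hy) _ (inv_mem hx)) _ (mul_mem hx hx)
          have hyc : y * y * c = c * (y * y) :=
            hΦc c (hcomΦ _ (inv_mem hy) _ (inv_mem hx)) _ (mul_mem hy hy)
          have hxy : y * y * (x * x) = x * x * (y * y) :=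
            hΦc _ (hsqΦ x hx) _ (mul_mem hy hy)
          calc x * x * (y * y) * c * (x * x * (y * y) * c)
              = x * x * (y * y) * (c * (x * x)) * ((y * y) * c) := by group
            _ = x * x * (y * y) * ((x * x) * c) * (c * (y * y)) := by rw [← hxc, hyc]
            _ = x * x * ((y * y) * (x * x)) * (c * c) * (y * y) := by group
            _ = (x * x * (x * x)) * (y * y * (y * y)) := by rw [hxy, hc2]; group
            _ = 1 := by rw [hx4, hy4, one_mul]
        inv_mem' := by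
          rintro x ⟨hx, hx4⟩
          exact ⟨inv_mem hx, by
            rw [← mul_inv_rev, ← mul_inv_rev, hx4, inv_one]⟩ }
    have hDF : D ≤ F := by
      rw [hD, Subgroup.closure_le]
      rintro _ ⟨p, hp, x, hx, rfl⟩
      set d := p x * x⁻¹ with hddef
      have hd : d ∈ S := mul_mem (hSinv p (hPK p hp) x hx) (inv_mem hx)
      refine ⟨hd, ?_⟩
      have hpx : p x = d * x := by rw [hddef]; group
      have h1 : d * x * (d * x) = x * x := by
        rw [← hpx, ← map_mul]; exact hΦfix p hp _ (hsqΦ x hx)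
      rw [hsqmul d hd x hx] at h1
      set c := x⁻¹ * d⁻¹ * x⁻¹⁻¹ * d⁻¹⁻¹ with hcdef
      have hcm := hcomΦ _ (inv_mem hx) _ (inv_mem hd)
      have hc2 : c * c = 1 := hcom2 _ (inv_mem hx) _ (inv_mem hd)
      have hxc : x * x * c = c * (x * x) := hΦc c hcm _ (mul_mem hx hx)
      have h2 : d * d * c = 1 := mul_right_cancel (b := x * x) (by
        calc d * d * c * (x * x) = d * d * (x * x * c) := by rw [hxc]; group
          _ = d * d * (x * x) * c := by group
          _ = x * x := h1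
          _ = 1 * (x * x) := (one_mul _).symm)
      have h3 : d * d = c⁻¹ := eq_inv_of_mul_eq_one_left h2
      rw [h3, ← mul_inv_rev, hc2, inv_one]
    exact fun x hx => (hDF (hDeq.ge hx)).2
  have hsqE : ∀ x ∈ S, x * x ∈ E := fun x hx => (hEiff _).1 (hexp x hx)
  -- the section `S / S ∩ E` and its square map
  haveI hnormal : (E.subgroupOf S).Normal := ⟨fun e he g => by
    rw [Subgroup.mem_subgroupOf] at he ⊢
    have h1 : (g : R) * e = e * g := Subgroup.mem_center_iff.1 (hEc he) g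
    simpa [h1] using he⟩
  have hEcomm : ∀ a ∈ E, ∀ b ∈ E, a * b = b * a := fun a ha b _ =>
    (Subgroup.mem_center_iff.1 (hEc ha) b).symm
  letI : CommGroup ↥E :=
    { (inferInstance : Group ↥E) with mul_comm := fun a b => Subtype.ext (hEcomm _ a.2 _ b.2) }
  have hsq1 : ∀ v : ↥S ⧸ E.subgroupOf S, v * v = 1 := by
    intro v
    obtain ⟨x, rfl⟩ := QuotientGroup.mk_surjective v
    rw [← QuotientGroup.mk_mul, QuotientGroup.eq_one_iff]
    exact hsqE _ x.2
  letI : CommGroup (↥S ⧸ E.subgroupOf S) :=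
    { (inferInstance : Group (↥S ⧸ E.subgroupOf S)) with
      mul_comm := fun a b => by
        have inv_self : ∀ v : ↥S ⧸ E.subgroupOf S, v⁻¹ = v := fun v =>
          inv_eq_of_mul_eq_one_right (hsq1 v)
        calc a * b = (a * b)⁻¹ := (inv_self _).symm
          _ = b * a := by rw [mul_inv_rev, inv_self, inv_self] }
  obtain ⟨T₀⟩ : Nonempty (Sylow 2 ↥P) := inferInstance
  set T := (T₀ : Subgroup ↥P).map P.subtype with hTdef
  have hTP : T ≤ P := Subgroup.map_subtype_le _
  have hT2 : IsPGroup 2 T := T₀.isPGroup'.map _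
  set C := A ⊓ Subgroup.centralizer (T : Set (MulAut R)) with hC
  have hCK : C ≤ K := inf_le_left.trans le_sup_left
  have hTK : T ≤ K := hTP.trans le_sup_right
  -- fixed lifts
  have hlift : ∀ a ∈ A, ∃ c ∈ C, ∀ e ∈ E, c e = a e := by
    intro a ha
    let N : Subgroup (MulAut R) :=
      { carrier := {k | k ∈ A ∧ ∀ e ∈ E, k e = e}
        one_mem' := ⟨one_mem _, fun _ _ => rfl⟩
        mul_mem' := fun {k l} hk hl => ⟨mul_mem hk.1 hl.1, fun e he => by
          rw [MulAut.mul_apply, hl.2 e he, hk.2 e he]⟩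
        inv_mem' := fun {k} hk => ⟨inv_mem hk.1, fun e he => by
          conv_lhs => rw [← hk.2 e he]
          exact MulAut.inv_apply_self R k e⟩ }
    have hN2 : ¬ 2 ∣ Nat.card N := by
      intro h2
      obtain ⟨j, hj⟩ := IsPGroup.iff_card.1 (hA.to_le (fun k hk => hk.1 : N ≤ A))
      rw [hj] at h2
      exact hr2 ((Nat.prime_dvd_prime_iff_eq Nat.prime_two Fact.out).1
        (Nat.prime_two.dvd_of_dvd_pow h2)).symm
    have hTN : T ≤ Subgroup.normalizer (N : Set (MulAut R)) := by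
      have hstep : ∀ t ∈ T, ∀ k ∈ N, t * k * t⁻¹ ∈ N := fun t ht k hk =>
        ⟨(Subgroup.mem_normalizer_iff.1 (hPA (hTP ht)) k).1 hk.1, fun e he => by
          rw [MulAut.mul_apply, MulAut.mul_apply, hPE t⁻¹ (inv_mem (hTP ht)) e he, hk.2 e he,
            hPE t (hTP ht) e he]⟩
      intro t ht
      refine Subgroup.mem_normalizer_iff.2 fun k => ⟨hstep t ht k, fun hk => ?_⟩
      simpa [mul_assoc] using hstep t⁻¹ (inv_mem ht) _ hk
    obtain ⟨k, hk, hkc⟩ := H84.exists_fixed_in_coset hT2 hN2 hTN a fun t ht =>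
      ⟨mul_mem (inv_mem ha) ((Subgroup.mem_normalizer_iff.1 (hPA (hTP ht)) a).1 ha), fun e he => by
        rw [MulAut.mul_apply, MulAut.mul_apply, MulAut.mul_apply, hPE t⁻¹ (inv_mem (hTP ht)) e he,
          hPE t (hTP ht) _ (hEinv a e he), MulAut.inv_apply_self]⟩
    exact ⟨a * k, ⟨mul_mem ha hk.1, hkc⟩, fun e he => by rw [MulAut.mul_apply, hk.2 e he]⟩
  let actC := sectionAction E S C (fun k hk => hSinv k (hCK hk)) (fun k _ => hEinv k)
  let actT := sectionAction E S T (fun k hk => hSinv k (hTK hk)) (fun k _ => hEinv k)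
  letI := actC
  letI := actT
  let q := sqMap E S hsqE hEc (fun e he => (hEiff e).2 he)
  have qmk : ∀ x : S, (q (Additive.ofMul (QuotientGroup.mk x))).toMul = (⟨(x : R) * x, hsqE _ x.2⟩ : ↥E) :=
    fun x => rfl
  have hset : H73.OutQuad.Setting T C q := by
    refine
      { two := fun u => ?_
        twoV := fun v => Subtype.ext ((hEiff _).2 (Additive.toMul v).2)
        add_left := fun x y z => ?_
        zero := Subtype.ext (by show (1 : R) * 1 = 1; simp)
        aniso := fun u hu => ?_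
        inv := fun t u => ?_
        comm := fun c t u => ?_
        big := fun W hW hWne => ?_
        pgroup := hT2 }
    · exact hsq1 (Additive.toMul u)
    · obtain ⟨x, rfl⟩ := exists_mk E S x
      obtain ⟨y, rfl⟩ := exists_mk E S y
      obtain ⟨z, rfl⟩ := exists_mk E S z
      -- the polar map is the commutator
      have hpol : ∀ a b : S,
          q (Additive.ofMul (QuotientGroup.mk (a * b))) + q (Additive.ofMul (QuotientGroup.mk a)) +
            q (Additive.ofMul (QuotientGroup.mk b)) =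
          Additive.ofMul (⟨(b : R)⁻¹ * (a : R)⁻¹ * ((b : R)⁻¹)⁻¹ * ((a : R)⁻¹)⁻¹,
            (hEiff _).1 (hcom2 _ (inv_mem b.2) _ (inv_mem a.2))⟩ : ↥E) := by
        intro a b
        refine Subtype.ext ?_
        show (a : R) * b * (a * b) * (a * a) * (b * b) = _
        set c := (b : R)⁻¹ * (a : R)⁻¹ * ((b : R)⁻¹)⁻¹ * ((a : R)⁻¹)⁻¹ with hcdef
        have hc : c ∈ Φ := hcomΦ _ (inv_mem b.2) _ (inv_mem a.2)
        have hb : (b : R) * c = c * b := hΦc c hc b b.2
        have ha : (a : R) * a * c = c * (a * a) := hΦc c hc _ (mul_mem a.2 a.2)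
        have hbb : (b : R) * b * (a * a) = a * a * (b * b) := hΦc _ (hsqΦ a a.2) _ (mul_mem b.2 b.2)
        calc (a : R) * b * (a * b) * (a * a) * (b * b)
            = a * (a * b * c) * b * (a * a) * (b * b) := by rw [hcdef]; group
          _ = a * a * b * (c * b) * (a * a) * (b * b) := by group
          _ = a * a * (b * b) * (c * (a * a)) * (b * b) := by rw [← hb]; group
          _ = a * a * ((b * b) * (a * a)) * (c * (b * b)) := by rw [← ha]; group
          _ = (a * a * (a * a)) * ((b * b) * (c * (b * b))) := by rw [hbb]; group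
          _ = c := by
            rw [hexp _ a.2, one_mul, ← hΦc c hc _ (mul_mem b.2 b.2), ← mul_assoc, hexp _ b.2,
              one_mul]
      set X := Additive.ofMul (QuotientGroup.mk x : ↥S ⧸ E.subgroupOf S)
      set Y := Additive.ofMul (QuotientGroup.mk y : ↥S ⧸ E.subgroupOf S)
      set Z := Additive.ofMul (QuotientGroup.mk z : ↥S ⧸ E.subgroupOf S)
      have h1 : q (X + Y + Z) + q (X + Y) + q Z = _ := hpol (x * y) z
      have h2 : q (X + Z) + q X + q Z = _ := hpol x z
      have h3 : q (Y + Z) + q Y + q Z = _ := hpol y z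
      rw [h1, h2, h3]
      refine Subtype.ext ?_
      show (z : R)⁻¹ * (x * y : R)⁻¹ * ((z : R)⁻¹)⁻¹ * ((x * y : R)⁻¹)⁻¹ =
        (z : R)⁻¹ * (x : R)⁻¹ * ((z : R)⁻¹)⁻¹ * ((x : R)⁻¹)⁻¹ *
        ((z : R)⁻¹ * (y : R)⁻¹ * ((z : R)⁻¹)⁻¹ * ((y : R)⁻¹)⁻¹)
      set c₁ := (z : R)⁻¹ * (x : R)⁻¹ * ((z : R)⁻¹)⁻¹ * ((x : R)⁻¹)⁻¹ with hc₁
      set c₂ := (z : R)⁻¹ * (y : R)⁻¹ * ((z : R)⁻¹)⁻¹ * ((y : R)⁻¹)⁻¹ with hc₂
      have h4 : (x : R) * c₂ = c₂ * x :=
        hΦc c₂ (hcomΦ _ (inv_mem z.2) _ (inv_mem y.2)) x x.2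
      have h5 : c₂ * c₁ = c₁ * c₂ := (hΦc c₂ (hcomΦ _ (inv_mem z.2) _ (inv_mem y.2)) c₁
        (mul_mem (mul_mem (mul_mem (inv_mem z.2) (inv_mem x.2)) (inv_mem (inv_mem z.2)))
          (inv_mem (inv_mem x.2)))).symm
      have h6 : c₁ * y = y * c₁ :=
        (hΦc c₁ (hcomΦ _ (inv_mem z.2) _ (inv_mem x.2)) y y.2).symm
      rw [← h5]
      calc (z : R)⁻¹ * ((x : R) * y)⁻¹ * ((z : R)⁻¹)⁻¹ * (((x : R) * y)⁻¹)⁻¹
          = (z : R)⁻¹ * (y : R)⁻¹ * z * (c₁ * y) := by rw [hc₁]; group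
        _ = c₂ * c₁ := by rw [h6, hc₂]; group
    · obtain ⟨x, rfl⟩ := exists_mk E S u
      have h1 : (x : R) * x = 1 := congrArg (fun v : Additive ↥E => ((Additive.toMul v : ↥E) : R)) hu
      show Additive.ofMul (QuotientGroup.mk x) = Additive.ofMul 1
      exact congrArg Additive.ofMul ((QuotientGroup.eq_one_iff x).2 ((hEiff _).1 h1))
    · obtain ⟨x, rfl⟩ := exists_mk E S u
      refine Subtype.ext ?_
      show (t : MulAut R) x * (t : MulAut R) x = (x : R) * x
      rw [← map_mul]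
      exact hPE _ (hTP t.2) _ (hsqE _ x.2)
    · obtain ⟨x, rfl⟩ := exists_mk E S u
      refine congrArg (fun s : S => Additive.ofMul (QuotientGroup.mk s : ↥S ⧸ E.subgroupOf S))
        (Subtype.ext ?_)
      show (c : MulAut R) ((t : MulAut R) x) = (t : MulAut R) ((c : MulAut R) x)
      rw [← MulAut.mul_apply, ← MulAut.mul_apply,
        (Subgroup.mem_centralizer_iff.1 c.2.2 t t.2).symm]
    · -- every orbit on `W` has length divisible by `m`
      let X := {w : W // w ≠ 0}
      letI : MulAction C X :=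
        { smul := fun c w => ⟨⟨c • ((w : W) : Additive (↥S ⧸ E.subgroupOf S)), hW c _ (w : W).2⟩,
            fun e => w.2 (Subtype.ext ((smul_eq_zero_iff_eq c).1 (congrArg Subtype.val e)))⟩
          one_smul := fun w => Subtype.ext (Subtype.ext (one_smul C _))
          mul_smul := fun c d w => Subtype.ext (Subtype.ext (mul_smul c d _)) }
      have horbW : ∀ w : X, m ∣ Nat.card (MulAction.orbit C w) := by
        intro w
        obtain ⟨x, hx⟩ := exists_mk E S ((w : W) : Additive (↥S ⧸ E.subgroupOf S))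
        have hxe : (x : R) * x ∈ E := hsqE _ x.2
        have hne : (x : R) * x ≠ 1 := fun h1 => w.2 (Subtype.ext (by
          rw [← hx]
          exact congrArg Additive.ofMul ((QuotientGroup.eq_one_iff x).2 ((hEiff _).1 h1))))
        have hle : MulAction.stabilizer C w ≤ MulAction.stabilizer C ((x : R) * x) := by
          intro c hc
          rw [MulAction.mem_stabilizer_iff] at hc ⊢
          have h1 : c • ((w : W) : Additive (↥S ⧸ E.subgroupOf S)) = (w : W) :=
            congrArg (fun v : X => ((v : W) : Additive (↥S ⧸ E.subgroupOf S))) hc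
          rw [← hx] at h1
          have h2 := congrArg (fun v => ((q v).toMul : R)) h1
          show (c : MulAut R) ((x : R) * x) = (x : R) * x
          rw [map_mul]
          exact h2
        have h3 : MulAction.orbit C ((x : R) * x) = MulAction.orbit A ((x : R) * x) := by
          ext v
          constructor
          · rintro ⟨c, rfl⟩; exact ⟨⟨c, c.2.1⟩, rfl⟩
          · rintro ⟨a, rfl⟩
            obtain ⟨c, hc, hce⟩ := hlift a a.2
            exact ⟨⟨c, hc⟩, hce _ hxe⟩
        rw [Nat.card_congr (MulAction.orbitEquivQuotientStabilizer C w)]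
        refine dvd_trans ?_ (Subgroup.index_dvd_of_le hle)
        rw [Subgroup.index_eq_card, ← Nat.card_congr (MulAction.orbitEquivQuotientStabilizer C _), h3]
        exact horb _ hxe hne
      have hcardX : m ∣ Nat.card X := by
        haveI : Fintype (MulAction.orbitRel.Quotient C X) := Fintype.ofFinite _
        rw [Nat.card_congr (MulAction.selfEquivSigmaOrbits C X), Nat.card_sigma]
        exact Finset.dvd_sum fun i _ => horbW _
      have hX : Nat.card X = Nat.card W - 1 := by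
        haveI : Fintype W := Fintype.ofFinite W
        rw [Nat.card_eq_fintype_card, Nat.card_eq_fintype_card, Fintype.card_subtype_compl,
          Fintype.card_subtype_eq]
      obtain ⟨d, hd⟩ : ∃ d, Nat.card W = 2 ^ d := by
        refine (IsPGroup.iff_card (G := Multiplicative W) (p := 2)).1 fun v => ⟨1, ?_⟩
        refine congrArg Multiplicative.ofAdd (Subtype.ext ?_)
        show (2 ^ 1) • ((Multiplicative.toAdd v : W) : Additive (↥S ⧸ E.subgroupOf S)) = 0
        rw [pow_one, two_nsmul]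
        exact hsq1 _
      have hd0 : 0 < d := by
        rcases Nat.eq_zero_or_pos d with rfl | h0
        · exact absurd (AddSubgroup.card_eq_one.1 (by rw [hd, pow_zero])) hWne
        · exact h0
      rw [hX, hd] at hcardX
      show Nat.card (Additive ↥E) ≤ _
      rw [hd]
      exact hm d hd0 hcardX
  -- the image of `T` has order at most two
  let actP := sectionAction E S P (fun k hk => hSinv k (hPK k hk)) (fun k _ => hEinv k)
  letI := actP
  let ρ := MulAction.toPermHom P (Additive (↥S ⧸ E.subgroupOf S))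
  let TI : Sylow 2 ρ.range := T₀.mapSurjective ρ.rangeRestrict_surjective
  have hTI : Nat.card TI ≤ 2 := by
    by_contra hgt
    push Not at hgt
    haveI : Fintype TI := Fintype.ofFinite TI
    rw [Nat.card_eq_fintype_card] at hgt
    obtain ⟨a, b, c, hab, hac, hbc⟩ := Fintype.two_lt_card_iff.1 hgt
    have huniq : ∀ u v : TI, u ≠ 1 → v ≠ 1 → u = v := by
      intro u v hu hv
      obtain ⟨s, hs, hsu⟩ : (u : ρ.range) ∈ (T₀ : Subgroup ↥P).map ρ.rangeRestrict := u.2
      obtain ⟨t, ht, htv⟩ : (v : ρ.range) ∈ (T₀ : Subgroup ↥P).map ρ.rangeRestrict := v.2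
      have hsm : ∀ (k : ↥P) (hk : (k : MulAut R) ∈ T) (w : Additive (↥S ⧸ E.subgroupOf S)),
          (⟨(k : MulAut R), hk⟩ : T) • w = k • w := fun k hk w => rfl
      have hnt : ∀ (k : ↥P) (hk : (k : MulAut R) ∈ T) (w : TI), w ≠ 1 →
          ρ.rangeRestrict k = (w : ρ.range) →
          ∃ z, H73.OutQuad.f (U := Additive (↥S ⧸ E.subgroupOf S)) (⟨(k : MulAut R), hk⟩ : T) z ≠ 0 := by
        intro k hk w hw hkw
        by_contra hall
        push Not at hall
        refine hw (Subtype.ext (hkw.symm.trans (Subtype.ext (Equiv.ext fun z => ?_))))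
        exact (hset.smul_eq_iff _ z).1 (hall z)
      have hsT : (s : MulAut R) ∈ T := ⟨s, hs, rfl⟩
      have htT : (t : MulAut R) ∈ T := ⟨t, ht, rfl⟩
      refine Subtype.ext (hsu.symm.trans (Eq.trans (Subtype.ext (Equiv.ext fun z => ?_)) htv))
      exact hset.unique (hnt s hsT u hu hsu) (hnt t htT v hv htv) z
    by_cases ha : a = 1
    · exact hbc (huniq b c (fun h => hab (ha.trans h.symm)) (fun h => hac (ha.trans h.symm)))
    · by_cases hb : b = 1
      · exact hac (huniq a c ha (fun h => hbc (hb.trans h.symm)))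
      · exact hab (huniq a b ha hb)
  haveI : Group.IsSolvable ρ.range := isSolvable_of_sylow_le_two TI hTI
  have hPtop : ⁅(⊤ : Subgroup ↥P), (⊤ : Subgroup ↥P)⁆ = (⊤ : Subgroup ↥P) := by
    apply Subgroup.map_injective P.subtype_injective
    rw [Subgroup.map_commutator, ← MonoidHom.range_eq_map, P.range_subtype, hP]
  have htriv : (⊤ : Subgroup ↥P) ≤ ρ.ker :=
    OutPerf.le_ker_of_solvable ρ hPtop (M := ρ.range) (by rw [MonoidHom.range_eq_map])
  refine hfalse (fixed_of_chain hP (D := E ⊓ S) (fun p hp x hx => ?_)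
    (fun p hp e he => hPE p hp e (Subgroup.mem_inf.1 he).1) (fun x hx e he => ?_))
  · have h1 : ρ ⟨p, hp⟩ = 1 := MonoidHom.mem_ker.1 (htriv (Subgroup.mem_top _))
    have h2 := Equiv.congr_fun h1 (Additive.ofMul (QuotientGroup.mk (⟨x, hx⟩ : S)))
    have hpx : p x ∈ S := hSinv p (hPK p hp) x hx
    have h3 : ((⟨p x, hpx⟩ : S) : ↥S ⧸ E.subgroupOf S) = ((⟨x, hx⟩ : S) : ↥S ⧸ E.subgroupOf S) :=
      congrArg Additive.toMul h2
    have h4 : x⁻¹ * p x ∈ E := Subgroup.mem_subgroupOf.1 (QuotientGroup.eq.1 h3.symm)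
    refine Subgroup.mem_inf.2 ⟨?_, mul_mem hpx (inv_mem hx)⟩
    have h5 : p x * x⁻¹ = x * (x⁻¹ * p x) * x⁻¹ := by group
    rw [h5, Subgroup.mem_center_iff.1 (hEc h4) x]
    simpa using h4
  · rw [Subgroup.mem_center_iff.1 (hEc (Subgroup.mem_inf.1 he).1) x]
    simpa using he

end H73.OutAut
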