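import Cfsg.Agent.H73.OutTwoAut

/-!
`H73.OutAut.perfect_eq_bot`: the form of `core_of_group` for a solvable operator group.
-/

set_option autoImplicit false
set_option linter.unusedSectionVars false
set_option linter.style.haveILetI false

namespace H73.OutAut

open Subgroup

variable {R : Type*} [Group R] [Finite R]

/-- Restriction to a subgroup invariant under all automorphisms. -/
def charRes (K : Subgroup R) (hK : ∀ (k : MulAut R), ∀ x ∈ K, k x ∈ K) : MulAut R →* MulAut K where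
  toFun k :=
    { toFun := fun x => ⟨k x, hK k x x.2⟩
      invFun := fun x => ⟨k.symm x, hK k⁻¹ x x.2⟩
      left_inv := fun x => Subtype.ext (k.symm_apply_apply _)
      right_inv := fun x => Subtype.ext (k.apply_symm_apply _)
      map_mul' := fun x y => Subtype.ext (map_mul k _ _) }
  map_one' := rfl
  map_mul' _ _ := rfl

theorem derSub_le_normalizer {G : Type*} [Group G] (N : Subgroup G) :
    ∀ k, N ≤ Subgroup.normalizer (OutPerf.derSub N k : Set G) := by
  intro k g hg
  have hstep : ∀ g ∈ N, (OutPerf.derSub N k).map (MulAut.conj g).toMonoidHom = OutPerf.derSub N k := by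
    intro g hg
    rw [OutPerf.map_derSub]
    congr 1
    ext x
    constructor
    · rintro ⟨y, hy, rfl⟩
      exact mul_mem (mul_mem hg hy) (inv_mem hg)
    · intro hx
      exact ⟨g⁻¹ * x * g, mul_mem (mul_mem (inv_mem hg) hx) hg, by simp [mul_assoc]⟩
  refine Subgroup.mem_normalizer_iff.2 fun x => ⟨fun hx => ?_, fun hx => ?_⟩
  · exact (hstep g hg).le ⟨x, hx, rfl⟩
  · have := (hstep g⁻¹ (inv_mem hg)).le ⟨_, hx, rfl⟩
    simpa [mul_assoc] using this

theorem perfect_eq_bot (hR : IsPGroup 2 R) (E : Subgroup R) (hEc : E ≤ Subgroup.center R)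
    (hEiff : ∀ x : R, x * x = 1 ↔ x ∈ E) (M P : Subgroup (MulAut R)) [Group.IsSolvable M]
    (hP : ⁅P, P⁆ = P) (hPM : P ≤ Subgroup.normalizer (M : Set (MulAut R)))
    (hPE : ∀ p ∈ P, ∀ e ∈ E, p e = e) {r : ℕ} [Fact r.Prime] (hr2 : r ≠ 2)
    (hMr : ∀ k ∈ M, ∃ j, ∀ e ∈ E, (k ^ r ^ j) e = e)
    (m : ℕ) (horb : ∀ e ∈ E, e ≠ 1 → m ∣ Nat.card (MulAction.orbit M e))
    (hm : ∀ d, 0 < d → m ∣ 2 ^ d - 1 → Nat.card E ≤ 2 ^ d) : P = ⊥ := by
  classical
  have hEinv : ∀ (k : MulAut R), ∀ e ∈ E, k e ∈ E := fun k e he => by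
    rw [← hEiff, ← map_mul, (hEiff e).2 he, map_one]
  set res := charRes E hEinv
  have hresker : ∀ k : MulAut R, k ∈ res.ker ↔ ∀ e ∈ E, k e = e := fun k =>
    ⟨fun h e he => congrArg (fun v : MulAut ↥E => ((v ⟨e, he⟩ : ↥E) : R)) (MonoidHom.mem_ker.1 h),
      fun h => MonoidHom.mem_ker.2 (MulEquiv.ext fun e => Subtype.ext (h e e.2))⟩
  have hMimg : IsPGroup r (M.map res) := by
    rintro ⟨_, k, hk, rfl⟩
    obtain ⟨j, hj⟩ := hMr k hk
    refine ⟨j, Subtype.ext ?_⟩
    show res k ^ r ^ j = 1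
    rw [← map_pow]
    exact MonoidHom.mem_ker.1 ((hresker _).2 hj)
  haveI : Group.IsSolvable (M.map res) := by
    haveI := hMimg.isNilpotent
    infer_instance
  -- a Sylow subgroup of `M` and its image
  obtain ⟨A₀⟩ : Nonempty (Sylow r ↥M) := inferInstance
  set A := (A₀ : Subgroup ↥M).map M.subtype with hA
  have hAM : A ≤ M := Subgroup.map_subtype_le _
  have hAp : IsPGroup r A := A₀.isPGroup'.map _
  have hAlift : ∀ k ∈ M, ∃ a ∈ A, ∀ e ∈ E, a e = k e := by
    intro k hk
    set f := (res.comp M.subtype).rangeRestrict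
    have hrange : IsPGroup r (res.comp M.subtype).range := by
      rw [MonoidHom.range_comp, M.range_subtype]; exact hMimg
    have htop : ((A₀.mapSurjective (res.comp M.subtype).rangeRestrict_surjective) :
        Subgroup (res.comp M.subtype).range) = ⊤ :=
      ((A₀.mapSurjective (res.comp M.subtype).rangeRestrict_surjective).is_maximal'
        (hrange.to_subgroup ⊤) le_top).symm
    obtain ⟨a, ha, hae⟩ := htop.ge (Subgroup.mem_top (f ⟨k, hk⟩))
    refine ⟨a, ⟨a, ha, rfl⟩, fun e he => ?_⟩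
    exact congrArg Subtype.val
      (DFunLike.congr_fun (congrArg Subtype.val hae) ⟨e, he⟩)
  have horbA : ∀ e ∈ E, e ≠ 1 → m ∣ Nat.card (MulAction.orbit A e) := by
    intro e he hne
    have h1 : MulAction.orbit A e = MulAction.orbit M e := by
      ext v
      constructor
      · rintro ⟨a, rfl⟩; exact ⟨⟨a, hAM a.2⟩, rfl⟩
      · rintro ⟨k, rfl⟩
        obtain ⟨a, ha, hae⟩ := hAlift k k.2
        exact ⟨⟨a, ha⟩, hae e he⟩
    rw [h1]; exact horb e he hne
  -- perfect subgroups of `M ⊔ P` fix `E`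
  have hfix : ∀ P' : Subgroup (MulAut R), ⁅P', P'⁆ = P' → P' ≤ M ⊔ P →
      ∀ p ∈ P', ∀ e ∈ E, p e = e := by
    intro P' hP' hle p hp
    refine (hresker p).1 (OutPerf.le_ker_of_solvable res hP' (M := M.map res) ?_ hp)
    refine (Subgroup.map_mono hle).trans ?_
    rw [Subgroup.map_sup]
    refine sup_le le_rfl ?_
    rintro _ ⟨k, hk, rfl⟩
    rw [MonoidHom.mem_ker.1 ((hresker k).2 (hPE k hk))]
    exact one_mem _
  -- Frattini argument
  set NM := Subgroup.normalizer (M : Set (MulAut R)) with hNM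
  haveI hnorm : (M.subgroupOf NM).Normal := Subgroup.normal_in_normalizer
  let f := QuotientGroup.mk' (M.subgroupOf NM)
  set N₀ := Subgroup.normalizer (A : Set (MulAut R)) ⊓ (M ⊔ P) with hN₀
  have hP₀ : ⁅P.subgroupOf NM, P.subgroupOf NM⁆ = P.subgroupOf NM := by
    apply Subgroup.map_injective NM.subtype_injective
    rw [Subgroup.map_commutator, Subgroup.subgroupOf_map_subtype, inf_eq_left.2 hPM, hP]
  have hMP : M ⊔ P ≤ NM := sup_le Subgroup.le_normalizer hPM
  have hcover : (P.subgroupOf NM).map f ≤ (N₀.subgroupOf NM).map f := by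
    rintro _ ⟨p, hp, rfl⟩
    have hp' : (p : MulAut R) ∈ P := hp
    -- conjugate the Sylow subgroup back
    let e : ↥M ≃* ↥M :=
      { toFun := fun x => ⟨(p : MulAut R) * x * (p : MulAut R)⁻¹,
          (Subgroup.mem_normalizer_iff.1 p.2 _).1 x.2⟩
        invFun := fun x => ⟨(p : MulAut R)⁻¹ * x * (p : MulAut R), by
          simpa using (Subgroup.mem_normalizer_iff.1 (inv_mem p.2) _).1 x.2⟩
        left_inv := fun x => Subtype.ext (by simp [mul_assoc])
        right_inv := fun x => Subtype.ext (by simp [mul_assoc])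
        map_mul' := fun x y => Subtype.ext (by simp [mul_assoc]) }
    let B : Sylow r ↥M := A₀.mapSurjective (f := e.toMonoidHom) e.surjective
    obtain ⟨k, hk⟩ := MulAction.exists_smul_eq ↥M B A₀
    have hmem : (k : MulAut R) * p ∈ Subgroup.normalizer (A : Set (MulAut R)) := by
      have hk' := congrArg (fun S : Sylow r ↥M => (S : Subgroup ↥M)) hk
      simp only [Sylow.coe_subgroup_smul] at hk'
      have hstep : ∀ y ∈ A, (k : MulAut R) * p * y * ((k : MulAut R) * p)⁻¹ ∈ A := by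
        rintro _ ⟨y, hy, rfl⟩
        refine ⟨k * e y * k⁻¹, hk'.le ?_, ?_⟩
        · rw [Subgroup.mem_pointwise_smul_iff_inv_smul_mem]
          refine ⟨y, hy, ?_⟩
          simp [mul_assoc]
        · simp [e, mul_assoc]
      set g := (k : MulAut R) * p
      have heq : A.map (MulAut.conj g).toMonoidHom = A :=
        Subgroup.eq_of_le_of_card_ge (by rintro _ ⟨y, hy, rfl⟩; exact hstep y hy)
          (Subgroup.card_map_of_injective (MulAut.conj g).injective).ge
      refine Subgroup.mem_normalizer_iff.2 fun y => ⟨hstep y, fun hy => ?_⟩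
      obtain ⟨z, hz, hzy⟩ := heq.ge hy
      have : z = y := (MulAut.conj g).injective hzy
      exact this ▸ hz
    have hkp : (k : MulAut R) * p ∈ NM := mul_mem (Subgroup.le_normalizer k.2) p.2
    refine ⟨⟨_, hkp⟩, ⟨hmem, mul_mem (mem_sup_left k.2) (mem_sup_right hp')⟩, ?_⟩
    refine QuotientGroup.eq.2 ?_
    rw [Subgroup.mem_subgroupOf]
    simpa [mul_assoc] using (Subgroup.mem_normalizer_iff.1 (inv_mem p.2) _).1 (inv_mem k.2)
  obtain ⟨P', hP'N, hP', hP'cov⟩ := OutPerf.exists_perfect_lift f hP₀ hcover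
  set P₁ := P'.map NM.subtype with hP₁
  have hP₁p : ⁅P₁, P₁⁆ = P₁ := OutPerf.map_perfect _ hP'
  have hP₁N : P₁ ≤ N₀ := by
    rintro _ ⟨x, hx, rfl⟩; exact hP'N hx
  suffices hbot : P₁ = ⊥ by
    have h1 : P' = ⊥ := (Subgroup.map_eq_bot_iff_of_injective _ NM.subtype_injective).1 hbot
    rw [h1, Subgroup.map_bot, le_bot_iff, Subgroup.map_eq_bot_iff, QuotientGroup.ker_mk'] at hP'cov
    exact OutPerf.eq_bot_of_le_solvable hP fun p hp => (hP'cov (x := ⟨p, hPM hp⟩) hp : p ∈ M)
  -- make it normal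
  obtain ⟨j, hj⟩ := OutPerf.exists_derSub_stable (A ⊔ P₁)
  set P₂ := OutPerf.derSub (A ⊔ P₁) j with hP₂
  have hKNA : A ⊔ P₁ ≤ Subgroup.normalizer (A : Set (MulAut R)) :=
    sup_le Subgroup.le_normalizer (hP₁N.trans inf_le_left)
  have hP₂le : P₂ ≤ A ⊔ P₁ := OutPerf.derSub_le _ _
  have hle12 : P₁ ≤ P₂ := OutPerf.le_derSub hP₁p le_sup_right j
  refine le_bot_iff.1 (hle12.trans ?_)
  intro p hp
  rw [Subgroup.mem_bot]
  refine MulEquiv.ext fun x => ?_
  refine core_of_group hR E hEc hEiff A P₂ hj (hP₂le.trans hKNA)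
    (le_sup_left.trans (derSub_le_normalizer _ j)) (hfix P₂ hj ?_) hr2 hAp m horbA hm p hp x
  exact hP₂le.trans (sup_le (hAM.trans le_sup_left) (hP₁N.trans inf_le_right))

end H73.OutAut
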