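import Cfsg.Agent.H73.Sections
import Cfsg.Agent.H73.NonStable
import Cfsg.Agent.H73.KCritical
import Cfsg.Agent.H73.NormalSylow
import Cfsg.Agent.H73.Derivation
import Cfsg.Agent.S0072
import Cfsg.Agent.H79.GlaubermanThompson

/-!
Normal p-complements from isomorphism-invariant functors (helper73).
-/

set_option autoImplicit false

namespace H73

open Subgroup
open scoped commutatorElement

universe u

variable {p : ℕ} [Fact p.Prime]

/-- The hypothesis on `N(W(T))` is independent of the Sylow subgroup. -/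
theorem pnil_normalizer_conj {Y : Type u} [Group Y] [Finite Y] {W : ∀ (Q : Type u) [Group Q], Subgroup Q}
    (hW : Cfsg.IsCharPFunctor.{u} p W) (T T' : Sylow p Y)
    (h : Cfsg.HasNormalPComplement p
      ↥(Subgroup.normalizer ((Cfsg.inducedFunctor W (T : Subgroup Y) : Subgroup Y) : Set Y))) :
    Cfsg.HasNormalPComplement p
      ↥(Subgroup.normalizer ((Cfsg.inducedFunctor W (T' : Subgroup Y) : Subgroup Y) : Set Y)) := by
  obtain ⟨x, -, hx⟩ := (sylIn_top T).exists_conj (sylIn_top T')
  rw [← hx, cj_functor (isConjugacyFunctor_inducedFunctor hW Y) T.2, ← cj_normalizer]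
  exact (H5.hasNormalPComplement_congr
    ((Subgroup.normalizer ((Cfsg.inducedFunctor W (T : Subgroup Y) : Subgroup Y) : Set Y)).equivMapOfInjective
      (MulAut.conj x).toMonoidHom (MulAut.conj x).injective)).mp h

/-- A minimal counterexample to the functor criterion is constrained with maximal Sylow subgroup. -/
theorem pnil_of_functor {G : Type u} [Group G] [Finite G] {W : ∀ (Q : Type u) [Group Q], Subgroup Q}
    (hW : Cfsg.IsCharPFunctor.{u} p W)
    (hcore : ∀ (X : Type u) [Group X] [Finite X], IsSectionOf X G →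
      Subgroup.centralizer ((Cfsg.pCore p X : Subgroup X) : Set X) ≤ Cfsg.pCore p X →
      (haveI := H1.pCore_normal' p X; Cfsg.HasNormalPComplement p (X ⧸ Cfsg.pCore p X)) →
      ∀ T : Sylow p X, IsCoatom (T : Subgroup X) → (Cfsg.inducedFunctor W (T : Subgroup X)).Normal)
    (S : Sylow p G)
    (hN : Cfsg.HasNormalPComplement p
      ↥(Subgroup.normalizer ((Cfsg.inducedFunctor W (S : Subgroup G) : Subgroup G) : Set G))) :
    Cfsg.HasNormalPComplement p G := by
  suffices key : ∀ n, ∀ (Y : Type u) [Group Y] [Finite Y], Nat.card Y = n → IsSectionOf Y G →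
      ∀ T : Sylow p Y, Cfsg.HasNormalPComplement p
        ↥(Subgroup.normalizer ((Cfsg.inducedFunctor W (T : Subgroup Y) : Subgroup Y) : Set Y)) →
      Cfsg.HasNormalPComplement p Y from key _ G rfl (IsSectionOf.refl G) S hN
  intro n
  induction n using Nat.strong_induction_on with
  | _ n ih =>
  intro Y _ _ hn hY T hT
  by_contra hG
  have hW' := isConjugacyFunctor_inducedFunctor hW Y
  have hTtop : (T : Subgroup Y) ≠ ⊤ := fun e =>
    hG (H5.hasNormalPComplement_of_isPGroup (IsPGroup.of_equiv (e ▸ T.2) Subgroup.topEquiv))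
  have hTbot : (T : Subgroup Y) ≠ ⊥ := fun e =>
    hG (H5.hasNormalPComplement_of_not_dvd fun hd => T.ne_bot_of_dvd_card hd e)
  have hlt : ∀ M : Subgroup Y, M ≠ ⊤ → Nat.card M < n := fun M hM =>
    hn ▸ lt_of_le_of_ne (Subgroup.card_le_card_group M) (fun e => hM (Subgroup.eq_top_of_card_eq M e))
  have hover : ∀ (T' : Sylow p Y) (M : Subgroup Y), M ≠ ⊤ → (T' : Subgroup Y) ≤ M →
      Cfsg.HasNormalPComplement p M := by
    intro T' M hM hTM
    refine ih _ (hlt M hM) M rfl (hY.subgroup M) (T'.subtype hTM) ?_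
    refine H79.pnil_normalizer_of_map _ M.subtype_injective _ ?_
    rw [map_inducedFunctor hW M.subtype M.subtype_injective (T'.subtype hTM).2, Sylow.coe_subtype,
      Subgroup.map_subgroupOf_eq_of_le hTM]
    exact pnil_normalizer_conj hW T T' hT
  haveI := H1.pPrimeCore_normal' p Y
  have hqlt : ∀ (N : Subgroup Y) [N.Normal], N ≠ ⊥ → Nat.card (Y ⧸ N) < n := by
    intro N _ hN
    rw [← hn, Subgroup.card_eq_card_quotient_mul_card_subgroup N]
    exact lt_mul_of_one_lt_right Nat.card_pos (Subgroup.one_lt_card_iff_ne_bot _ |>.mpr hN)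
  have hK : Cfsg.pPrimeCore p Y = ⊥ := by
    by_contra hK
    set K := Cfsg.pPrimeCore p Y with hKdef
    have hKc : (Nat.card K).Coprime p := H1.card_pPrimeCore_coprime p Y
    set π := QuotientGroup.mk' K with hπ
    have hπs : Function.Surjective π := QuotientGroup.mk'_surjective K
    have hTK : (T : Subgroup Y) ⊓ K = ⊥ := by
      refine Subgroup.inf_eq_bot_of_coprime ?_
      obtain ⟨a, ha⟩ := IsPGroup.iff_card.mp T.2
      rw [ha]
      exact (hKc.symm).pow_left a
    have hq : Cfsg.HasNormalPComplement p (Y ⧸ K) := by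
      refine ih _ (hqlt K hK) _ rfl (hY.quotient K) (T.mapSurjective hπs) ?_
      rw [Sylow.coe_mapSurjective, ← map_inducedFunctor_of_disjoint hW π T.2
        (by rw [hπ, QuotientGroup.ker_mk', hTK]),
        ← H11.map_normalizer_eq π hπs (by rw [hπ, QuotientGroup.ker_mk']; exact hKc) _
          (T.2.to_le (inducedFunctor_le _))]
      exact H5.hasNormalPComplement_of_surjective
        (π.subgroupMap (Subgroup.normalizer
          ((Cfsg.inducedFunctor W (T : Subgroup Y) : Subgroup Y) : Set Y)))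
        (π.subgroupMap_surjective _) hT
    apply hG
    rw [H5.hasNormalPComplement_iff_inf_eq_bot T, eq_bot_iff]
    rintro x ⟨hx, hxT⟩
    refine hTK.le ⟨hxT, ?_⟩
    have h1 : π x ∈ Cfsg.pResidual p (Y ⧸ K) ⊓ (T.mapSurjective hπs : Subgroup (Y ⧸ K)) :=
      ⟨H5.pResidual_map_le π ⟨x, hx, rfl⟩, by rw [Sylow.coe_mapSurjective]; exact ⟨x, hxT, rfl⟩⟩
    rw [(H5.hasNormalPComplement_iff_inf_eq_bot _).mp hq, Subgroup.mem_bot] at h1
    exact (QuotientGroup.eq_one_iff x).mp h1
  set Q := Cfsg.pCore p Y with hQdef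
  haveI hQn : Q.Normal := H1.pCore_normal' p Y
  have hQp : IsPGroup p Q := H1.isPGroup_pCore p Y
  have hQT : Q ≤ (T : Subgroup Y) := H1.pCore_le_sylow T
  have hQ0 : Q ≠ ⊥ := by
    intro hQ0
    have hNU : ∀ U : Subgroup Y, IsPGroup p U → U ≠ ⊥ →
        Subgroup.normalizer (U : Set Y) ≠ ⊤ := fun U hU hU0 e => hU0 (le_bot_iff.mp (hQ0 ▸
      (haveI := Subgroup.normalizer_eq_top_iff.mp e; H1.le_pCore hU)))
    apply hG
    rw [Cfsg.Agent.S0072.result p]
    intro U hU hU0
    have hind : ∀ m, ∀ U : Subgroup Y, IsPGroup p U → U ≠ ⊥ →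
        ∀ P : Subgroup Y, SylIn p P (Subgroup.normalizer (U : Set Y)) →
        Nat.card Y - Nat.card P = m → Cfsg.HasNormalPComplement p (Subgroup.normalizer (U : Set Y)) := by
      intro m
      induction m using Nat.strong_induction_on with
      | _ m ihm =>
      intro U hU hU0 P hP hm
      set N := Subgroup.normalizer (U : Set Y) with hNdef
      obtain ⟨S', hS', hPS⟩ := exists_sylIn_ge (p := p) hP.isPGroup (le_top (a := P))
      rcases hPS.eq_or_lt with e | hlt'
      · have hS'd : ¬ p ∣ S'.index := by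
          have := hS'.not_dvd
          rwa [Subgroup.relIndex_top_right] at this
        exact hover (hS'.isPGroup.toSylow hS'd) N (hNU U hU hU0) (e ▸ hP.le)
      · have hUP : U ≤ P := by
          obtain ⟨x, hx, hle⟩ := hP.exists_conj_le hU Subgroup.le_normalizer
          rwa [mem_normalizer_iff_cj.mp hx] at hle
        have hP0 : P ≠ ⊥ := fun e => hU0 (le_bot_iff.mp (e ▸ hUP))
        obtain ⟨P', hP'⟩ := hP.exists_sylow
        refine ih _ (hlt N (hNU U hU hU0)) N rfl (hY.subgroup N) P' ?_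
        refine H79.pnil_normalizer_of_map _ N.subtype_injective _ ?_
        rw [map_inducedFunctor hW N.subtype N.subtype_injective P'.2, hP']
        have hWP : IsPGroup p (Cfsg.inducedFunctor W P) := hP.isPGroup.to_le (inducedFunctor_le _)
        have hWP0 : Cfsg.inducedFunctor W P ≠ ⊥ := (hW' P hP.isPGroup).2.1 hP0
        obtain ⟨R, hR, hle⟩ := exists_sylIn_ge (p := p) (hS'.isPGroup.to_le
          (inf_le_left (b := Subgroup.normalizer ((Cfsg.inducedFunctor W P : Subgroup Y) : Set Y))))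
          (inf_le_right (a := S'))
        refine ihm _ ?_ _ hWP hWP0 R hR rfl
        have h1 := (lt_inf_normalizer hS'.isPGroup hlt').trans_le
          ((inf_le_inf le_rfl (normalizer_le_normalizer_functor hW' hP.isPGroup)).trans hle)
        have h2 : Nat.card P < Nat.card R := lt_of_le_of_ne (Subgroup.card_le_of_le h1.le)
          fun e => h1.ne (Subgroup.eq_of_le_of_card_ge h1.le e.ge)
        have h3 := Subgroup.card_le_card_group R
        omega
    obtain ⟨P, hP, -⟩ := exists_sylIn_ge (p := p) hU (Subgroup.le_normalizer (H := U))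
    exact hind _ U hU hU0 P hP rfl
  set π := QuotientGroup.mk' Q with hπ
  have hπs : Function.Surjective π := QuotientGroup.mk'_surjective Q
  have hq : Cfsg.HasNormalPComplement p (Y ⧸ Q) := by
    refine ih _ (hqlt Q hQ0) _ rfl (hY.quotient Q) (T.mapSurjective hπs) ?_
    set Z := Cfsg.inducedFunctor W (T.mapSurjective hπs : Subgroup (Y ⧸ Q)) with hZ
    set M := (Subgroup.normalizer (Z : Set (Y ⧸ Q))).comap π with hM
    have hTM : (T : Subgroup Y) ≤ M := by
      refine Subgroup.map_le_iff_le_comap.mp ?_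
      rw [← Sylow.coe_mapSurjective hπs T]
      exact le_normalizer_functor (isConjugacyFunctor_inducedFunctor hW _) (T.mapSurjective hπs).2
    have hMt : M = ⊤ → Cfsg.HasNormalPComplement p (Y ⧸ Q) := by
      intro e
      haveI : Z.Normal := Subgroup.normalizer_eq_top_iff.mp (by
        rw [← Subgroup.map_comap_eq_self_of_surjective hπs (Subgroup.normalizer (Z : Set (Y ⧸ Q))),
          ← hM, e, ← MonoidHom.range_eq_map]
        exact MonoidHom.range_eq_top.mpr hπs)
      have h1 : Z = ⊥ := le_bot_iff.mp (by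
        rw [← H1.pCore_quotient_pCore p Y]
        exact H1.le_pCore ((T.mapSurjective hπs).2.to_le (inducedFunctor_le _)))
      refine H5.hasNormalPComplement_of_not_dvd fun hd => ?_
      exact (isConjugacyFunctor_inducedFunctor hW _ _ (T.mapSurjective hπs).2).2.1
        ((T.mapSurjective hπs).ne_bot_of_dvd_card hd) h1
    by_cases hMtop : M = ⊤
    · exact H5.hasNormalPComplement_subgroup _ (hMt hMtop)
    rw [← Subgroup.map_comap_eq_self_of_surjective hπs (Subgroup.normalizer (Z : Set (Y ⧸ Q))), ← hM]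
    exact H5.hasNormalPComplement_of_surjective (π.subgroupMap M) (π.subgroupMap_surjective _)
      (hover T M hMtop hTM)
  have hc : Subgroup.centralizer (Q : Set Y) ≤ Q := by
    refine H10.centralizer_pCore_le (H10.isPSolvable_of_normal Q ?_
      (H33.isPSolvable_of_hasNormalPComplement hq)) hK
    haveI := H79.isSolvable_pGroup hQp
    exact H10.isPSolvable_of_isSolvable
  have hmax : IsCoatom (T : Subgroup Y) := by
    refine ⟨hTtop, fun M hTM => ?_⟩
    by_contra hM
    have hMn := hover T M hM hTM.le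
    have hMp : IsPGroup p M := H11.isPGroup_of_forall_coprime fun v hv hvo => by
      have hvQ : v ∈ Q := hc (H79.centralizes_of_pnil hMn hQp (hQT.trans hTM.le) hv
        (Subgroup.normalizer_eq_top (H := Q) ▸ Subgroup.mem_top v) hvo)
      exact H11.eq_one_of_mem_pGroup_coprime hQp hvQ hvo
    exact hTM.ne (T.3 hMp hTM.le).symm
  have hn' := hcore Y hY hc hq T hmax
  have htop := Subgroup.normalizer_eq_top_iff.mpr hn'
  exact hG (H79.pnil_of_top (htop ▸ hT))

section Engel

/-- An element with `(γ - 1)^(p-1) = 0` centralizes every abelian `p'`-group it normalizes. -/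
theorem commute_of_norm_eq_one {M : Type*} [CommGroup M] (hpow : ∀ v : M, v ^ p = 1)
    (A : Subgroup (MulAut M)) [Finite A] (hAc : ∀ a ∈ A, ∀ b ∈ A, a * b = b * a)
    (hA : (Nat.card A).Coprime p) {γ : MulAut M} (hγA : ∀ a ∈ A, γ * a * γ⁻¹ ∈ A)
    (hnorm : ∀ v : M, ∏ r ∈ Finset.range p, (γ ^ r) v = 1) : ∀ a ∈ A, γ * a = a * γ := by
  have hp : p.Prime := Fact.out
  haveI : Fintype A := Fintype.ofFinite A
  have hγp : γ ^ p = 1 := by
    ext v
    have h1 : (∏ r ∈ Finset.range p, (γ ^ (r + 1)) v) * v =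
        (γ ^ p) v * ∏ r ∈ Finset.range p, (γ ^ r) v := by
      have e := (Finset.prod_range_succ' (fun r => (γ ^ r) v) p).symm.trans
        (Finset.prod_range_succ (fun r => (γ ^ r) v) p)
      simpa [mul_comm] using e
    have h2 : ∏ r ∈ Finset.range p, (γ ^ (r + 1)) v = 1 := by
      have h3 : ∀ r, (γ ^ (r + 1)) v = γ ((γ ^ r) v) := fun r => by rw [pow_succ', MulAut.mul_apply]
      simp only [h3]
      rw [← map_prod, hnorm, map_one]
    rw [h2, hnorm, one_mul, mul_one] at h1
    simpa using h1.symm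
  set d : ℕ → MulAut M → MulAut M := fun r a => a * γ ^ r * a⁻¹ * (γ ^ r)⁻¹ with hd
  have hpowA : ∀ (r : ℕ), ∀ a ∈ A, γ ^ r * a * (γ ^ r)⁻¹ ∈ A := by
    intro r
    induction r with
    | zero => simp
    | succ r ihr =>
      intro a ha
      have := hγA _ (ihr a ha)
      rwa [show γ * (γ ^ r * a * (γ ^ r)⁻¹) * γ⁻¹ = γ ^ (r + 1) * a * (γ ^ (r + 1))⁻¹ by
        rw [pow_succ']; group] at this
  have hdA : ∀ r, ∀ a ∈ A, d r a ∈ A := by
    intro r a ha
    have := A.mul_mem ha (hpowA r _ (A.inv_mem ha))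
    rwa [show a * (γ ^ r * a⁻¹ * (γ ^ r)⁻¹) = d r a by simp only [hd]; group] at this
  have hdhom : ∀ r, ∀ a ∈ A, ∀ b ∈ A, d r (a * b) = d r a * d r b := by
    intro r a ha b hb
    have h1 := hAc a ha _ (hdA r b hb)
    calc d r (a * b) = a * d r b * (γ ^ r * a⁻¹ * (γ ^ r)⁻¹) := by simp only [hd]; group
      _ = d r b * a * (γ ^ r * a⁻¹ * (γ ^ r)⁻¹) := by rw [h1]
      _ = d r b * d r a := by simp only [hd]; group
      _ = d r a * d r b := hAc _ (hdA r b hb) _ (hdA r a ha)
  have hdmul : ∀ r, ∀ a ∈ A, ∀ s : ℕ, ∃ a' ∈ A, d (r * s) a = d r a' := by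
    intro r a ha s
    induction s with
    | zero => exact ⟨1, A.one_mem, by simp [hd]⟩
    | succ s ihs =>
      obtain ⟨a', ha', e⟩ := ihs
      refine ⟨a' * (γ ^ (r * s) * a * (γ ^ (r * s))⁻¹), A.mul_mem ha' (hpowA _ _ ha), ?_⟩
      rw [hdhom r _ ha' _ (hpowA _ _ ha), ← e, Nat.mul_succ]
      simp only [hd]
      rw [pow_add]
      group
  have hfix : ∀ a₀ ∈ A, ∀ w : M, d 1 a₀ w = w := by
    intro a₀ ha₀ w
    have h1 : ∏ a : A, ∏ r ∈ Finset.range p, d r a ((γ ^ r) w) = 1 := by
      refine Finset.prod_eq_one fun a _ => ?_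
      have h2 := congrArg (a : MulAut M) (hnorm ((a : MulAut M)⁻¹ w))
      rw [map_prod, map_one] at h2
      rw [← h2]
      refine Finset.prod_congr rfl fun r _ => ?_
      simp only [hd, MulAut.mul_apply, MulAut.inv_apply_self]
    rw [Finset.prod_comm] at h1
    obtain ⟨k, hk⟩ : ∃ k, p = k + 1 := ⟨p - 1, by have := hp.pos; omega⟩
    rw [hk, Finset.prod_range_succ'] at h1
    set P := ∏ i ∈ Finset.range k, ∏ a : A, d (i + 1) a ((γ ^ (i + 1)) w) with hP
    have hPfix : d 1 a₀ P = P := by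
      rw [hP, map_prod]
      refine Finset.prod_congr rfl fun i hi => ?_
      rw [Finset.mem_range] at hi
      obtain ⟨s, -, hs⟩ := Nat.exists_mul_mod_eq_one_of_coprime
        ((hp.coprime_iff_not_dvd.mpr (Nat.not_dvd_of_pos_of_lt (Nat.succ_pos i) (by omega))).symm)
        hp.one_lt
      obtain ⟨a', ha', e⟩ := hdmul (i + 1) a₀ ha₀ s
      have e1 : d ((i + 1) * s) a₀ = d 1 a₀ := by
        have hmod : γ ^ ((i + 1) * s) = γ ^ 1 := by
          rw [← Nat.mod_add_div ((i + 1) * s) p, hs, pow_add, pow_mul, hγp, one_pow, mul_one]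
        simp only [hd, hmod]
      rw [e1] at e
      rw [e, map_prod, ← Equiv.prod_comp (Equiv.mulLeft (⟨a', ha'⟩ : A))
        (fun a : A => d (i + 1) a ((γ ^ (i + 1)) w))]
      refine Finset.prod_congr rfl fun a _ => ?_
      show d (i + 1) a' (d (i + 1) a _) = d (i + 1) ((⟨a', ha'⟩ * a : A) : MulAut M) _
      rw [Subgroup.coe_mul, hdhom _ _ ha' _ a.2]
      rfl
    have h0 : ∏ a : A, d 0 a ((γ ^ 0) w) = w ^ Nat.card A := by
      rw [Nat.card_eq_fintype_card, ← Finset.card_univ, ← Finset.prod_const]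
      exact Finset.prod_congr rfl fun a _ => by simp [hd]
    rw [h0] at h1
    have hwfix : d 1 a₀ (w ^ Nat.card A) = w ^ Nat.card A := by
      rw [eq_inv_of_mul_eq_one_right h1, map_inv, hPfix]
    rw [map_pow, ← mul_inv_eq_one, ← inv_pow, ← mul_pow] at hwfix
    have h3 : d 1 a₀ w * w⁻¹ = 1 := by
      refine eq_one_of_pow_of_coprime (p := p) (n := p ^ 1) (by rw [pow_one]; exact hpow _) ⟨1, rfl⟩
        (hA.coprime_dvd_left (orderOf_dvd_of_pow_eq_one hwfix))
    exact mul_inv_eq_one.mp h3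
  intro a ha
  have h4 : d 1 a = 1 := by
    ext w
    exact hfix a ha w
  simp only [hd, pow_one, mul_inv_eq_one] at h4
  rw [mul_inv_eq_iff_eq_mul] at h4
  exact h4.symm

end Engel

end H73
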