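import Cfsg.Agent.H74.Kieler
import Cfsg.Agent.H78.SubnormalSylow

/-!
Point stabilisers of joins of subnormal subgroups in groups of local characteristic `p` (helper73).
-/

set_option autoImplicit false

namespace H73.PointStab

open Subgroup

universe u

variable {G : Type u} [Group G] [Finite G] {p : ℕ} [hp : Fact p.Prime]

theorem omegaZ_ne_bot {R : Subgroup G} (hR : IsPGroup p R) (hR0 : R ≠ ⊥) : H74.omegaZ p R ≠ ⊥ := by
  haveI : Nontrivial R := (Subgroup.nontrivial_iff_ne_bot R).2 hR0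
  haveI := hR.center_nontrivial
  obtain ⟨z, hz⟩ := exists_prime_orderOf_dvd_card' (G := Subgroup.center R) p
    (by
      obtain ⟨k, hk⟩ := (hR.to_subgroup (Subgroup.center R)).exists_card_eq
      have h1 := Finite.one_lt_card (α := Subgroup.center R)
      rw [hk] at h1 ⊢
      exact dvd_pow_self p (by rintro rfl; simp at h1))
  intro h0
  have hmem : ((z : R) : G) ∈ H74.omegaZ p R := subset_closure
    ⟨⟨(z : R).2, fun y hy => congrArg Subtype.val (mem_center_iff.1 z.2 ⟨y, hy⟩)⟩, by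
      have h2 := pow_orderOf_eq_one z
      rw [hz] at h2
      simpa using congrArg (fun w : Subgroup.center R => ((w : R) : G)) h2⟩
  rw [h0, mem_bot, OneMemClass.coe_eq_one, OneMemClass.coe_eq_one] at hmem
  rw [hmem, orderOf_one] at hz
  exact hp.out.one_lt.ne hz

theorem isPGroup_omegaZ {R : Subgroup G} (hR : IsPGroup p R) : IsPGroup p (H74.omegaZ p R) :=
  hR.to_le ((H74.omegaOne_le _).trans inf_le_left)

omit [Finite G] hp in
theorem le_normalizer_omegaZ {U R : Subgroup G} (h : U ≤ normalizer (R : Set G)) :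
    U ≤ normalizer (H74.omegaZ p R : Set G) := fun g hg =>
  H74.mem_normalizer_of_map_conj (by
    rw [← H74.omegaZ_map _ _ (MulAut.conj g).injective, H74.map_conj_eq_self (h hg)])

theorem charPIn_inf {M L : Subgroup G} (hM : H76.CharPIn p M) (hL : L.IsSubnormal) :
    H76.CharPIn p (L ⊓ M) := by
  induction hL with
  | top => rwa [top_inf_eq]
  | step A B hAB _ hA ih =>
    exact ih.normal (inf_le_inf_right M hAB) ((inf_le_inf
      ((normal_subgroupOf_iff_le_normalizer hAB).mp hA) le_normalizer).trans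
        (H75.normalizer_inf_le_normalizer_inf A M))

/-- Kieler's lemma in a group of local characteristic `p`. -/
theorem kieler_local (hG : Cfsg.IsOfLocalCharacteristic p G) (T : Sylow p G) {L : Subgroup G}
    (hL : L.IsSubnormal) :
    H74.IsSylIn p ((T : Subgroup G) ⊓ L) L ∧ ((T : Subgroup G) ⊓ L ≠ ⊥ →
      L ⊓ centralizer (H74.omegaZ p (T : Subgroup G) : Set G) =
        L ⊓ centralizer (H74.omegaZ p ((T : Subgroup G) ⊓ L) : Set G)) := by
  induction hL with
  | top =>
    refine ⟨⟨inf_le_right, ?_⟩, fun _ => by rw [inf_top_eq]⟩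
    rw [inf_top_eq, card_top]
    exact T.card_eq_multiplicity
  | step A B hAB hB hA ih =>
    have hBA := (normal_subgroupOf_iff_le_normalizer hAB).mp hA
    obtain ⟨hTB, heq⟩ := ih
    have hTA := H74.Kieler.sylIn_inf hAB hBA hTB
    rw [inf_assoc, inf_eq_right.mpr hAB] at hTA
    refine ⟨hTA, fun hne => ?_⟩
    have hneB : (T : Subgroup G) ⊓ B ≠ ⊥ := fun h =>
      hne (le_bot_iff.1 ((inf_le_inf_left _ hAB).trans h.le))
    have hTTA : (T : Subgroup G) ⊓ B ≤ normalizer (((T : Subgroup G) ⊓ A : Subgroup G) : Set G) :=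
      (inf_le_inf le_normalizer hBA).trans (H75.normalizer_inf_le_normalizer_inf _ _)
    -- inside a `p`-local containing `T ⊓ B`
    have key : ∀ R : Subgroup G, IsPGroup p R → R ≠ ⊥ →
        (T : Subgroup G) ⊓ B ≤ normalizer (R : Set G) →
        A ⊓ normalizer (R : Set G) ⊓ centralizer (H74.omegaZ p ((T : Subgroup G) ⊓ B) : Set G) =
        A ⊓ normalizer (R : Set G) ⊓ centralizer (H74.omegaZ p ((T : Subgroup G) ⊓ A) : Set G) := by
      intro R h1 h2 h3
      have hM : H76.CharPIn p (normalizer (R : Set G)) := (H76.charPIn_iff _).2 (hG.2 R h1 h2)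
      have hstep := H74.Kieler.kieler_step (inf_le_inf_right (normalizer (R : Set G)) hAB)
        ((inf_le_inf hBA le_normalizer).trans (H75.normalizer_inf_le_normalizer_inf _ _))
        (charPIn_inf hM hB) (hTB.of_le (le_inf inf_le_right h3) inf_le_left)
      have he : (T : Subgroup G) ⊓ B ⊓ (A ⊓ normalizer (R : Set G)) = (T : Subgroup G) ⊓ A := by
        refine le_antisymm (le_inf (inf_le_left.trans inf_le_left) (inf_le_right.trans inf_le_left))
          (le_inf (inf_le_inf_left _ hAB) (le_inf inf_le_right ((inf_le_inf_left _ hAB).trans h3)))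
      rwa [he] at hstep
    rw [← inf_eq_left.mpr hAB, inf_assoc, heq hneB, ← inf_assoc, inf_eq_left.mpr hAB]
    have hpB : IsPGroup p ((T : Subgroup G) ⊓ B : Subgroup G) := T.isPGroup'.to_le inf_le_left
    have hpA : IsPGroup p ((T : Subgroup G) ⊓ A : Subgroup G) := T.isPGroup'.to_le inf_le_left
    refine le_antisymm (fun x hx => ?_) (fun x hx => ?_)
    · have h1 := key _ (isPGroup_omegaZ hpB) (omegaZ_ne_bot hpB hneB)
        (le_normalizer_omegaZ le_normalizer)
      exact ⟨hx.1, (h1.le ⟨⟨hx.1, centralizer_le_normalizer _ hx.2⟩, hx.2⟩).2⟩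
    · have h1 := key _ (isPGroup_omegaZ hpA) (omegaZ_ne_bot hpA hne) (le_normalizer_omegaZ hTTA)
      exact ⟨hx.1, (h1.ge ⟨⟨hx.1, centralizer_le_normalizer _ hx.2⟩, hx.2⟩).2⟩

/-- A point stabiliser in a subnormal subgroup is generated by the `p`-elements centralising
`Ω₁(Z(T))`. -/
theorem pointStabilizer_eq (hG : Cfsg.IsOfLocalCharacteristic p G) (T : Sylow p G) {X : Subgroup G}
    (hX : X.IsSubnormal) :
    Cfsg.pointStabilizer p X ((T : Subgroup G) ⊓ X) =
      closure {x : G | x ∈ X ⊓ centralizer (H74.omegaZ p (T : Subgroup G) : Set G) ∧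
        ∃ k : ℕ, orderOf x = p ^ k} := by
  obtain ⟨hsyl, heq⟩ := kieler_local hG T hX
  rcases eq_or_ne ((T : Subgroup G) ⊓ X) ⊥ with h | h
  · have h1 : ∀ x ∈ X, ∀ k : ℕ, orderOf x = p ^ k → x = 1 := by
      intro x hx k hk
      have hcard := hsyl.2
      rw [h, card_bot] at hcard
      have hv : (Nat.card X).factorization p = 0 :=
        (Nat.pow_eq_one.1 hcard.symm).resolve_left hp.out.ne_one
      have h2 : orderOf x ∣ Nat.card X := orderOf_mk x hx ▸ orderOf_dvd_natCard (⟨x, hx⟩ : X)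
      rw [hk, hp.out.pow_dvd_iff_le_factorization Nat.card_pos.ne', hv, Nat.le_zero] at h2
      subst h2
      exact orderOf_eq_one_iff.1 (by simpa using hk)
    refine le_antisymm ((closure_le _).2 ?_) ((closure_le _).2 ?_) <;> rintro x ⟨hx, k, hk⟩ <;>
      rw [h1 x hx.1 k hk] <;> exact one_mem _
  · unfold Cfsg.pointStabilizer
    rw [show X ⊓ centralizer (Cfsg.omegaOne p (((T : Subgroup G) ⊓ X) ⊓
      centralizer ((((T : Subgroup G) ⊓ X) : Subgroup G) : Set G)) : Set G) = _ from (heq h).symm]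

/-- The point stabiliser of a join of subnormal subgroups is the join of the point stabilisers. -/
theorem pointStabilizer_sup (hG : Cfsg.IsOfLocalCharacteristic p G) (T : Sylow p G)
    {A B : Subgroup G} (hA : A.IsSubnormal) (hB : B.IsSubnormal) :
    Cfsg.pointStabilizer p (A ⊔ B) ((T : Subgroup G) ⊓ (A ⊔ B)) =
      Cfsg.pointStabilizer p A ((T : Subgroup G) ⊓ A) ⊔
        Cfsg.pointStabilizer p B ((T : Subgroup G) ⊓ B) := by
  have hL := H3.subnormal_sup hA hB
  rw [pointStabilizer_eq hG T hL, pointStabilizer_eq hG T hA, pointStabilizer_eq hG T hB]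
  set Z := H74.omegaZ p (T : Subgroup G) with hZ
  set PA := closure {x : G | x ∈ A ⊓ centralizer (Z : Set G) ∧ ∃ k : ℕ, orderOf x = p ^ k} with hPA
  set PB := closure {x : G | x ∈ B ⊓ centralizer (Z : Set G) ∧ ∃ k : ℕ, orderOf x = p ^ k} with hPB
  refine le_antisymm ?_ (sup_le
    (closure_mono fun x hx => ⟨⟨(le_sup_left : A ≤ A ⊔ B) hx.1.1, hx.1.2⟩, hx.2⟩)
    (closure_mono fun x hx => ⟨⟨(le_sup_right : B ≤ A ⊔ B) hx.1.1, hx.1.2⟩, hx.2⟩))
  set D := (A ⊔ B) ⊓ centralizer (Z : Set G) with hD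
  have hTC : (T : Subgroup G) ≤ centralizer (Z : Set G) := fun t ht => fun z hz =>
    (((H74.omegaOne_le _).trans inf_le_right) hz t ht).symm
  have hsub : ∀ {X : Subgroup G}, X.IsSubnormal → X ≤ A ⊔ B →
      closure {x : G | x ∈ X ⊓ centralizer (Z : Set G) ∧ ∃ k : ℕ, orderOf x = p ^ k} ≤ D ∧
      ((closure {x : G | x ∈ X ⊓ centralizer (Z : Set G) ∧
        ∃ k : ℕ, orderOf x = p ^ k}).subgroupOf D).IsSubnormal ∧
      (T : Subgroup G) ⊓ X ≤
        closure {x : G | x ∈ X ⊓ centralizer (Z : Set G) ∧ ∃ k : ℕ, orderOf x = p ^ k} := by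
    intro X hX hXL
    have hle : closure {x : G | x ∈ X ⊓ centralizer (Z : Set G) ∧ ∃ k : ℕ, orderOf x = p ^ k} ≤
        X ⊓ centralizer (Z : Set G) := (closure_le _).2 fun x hx => hx.1
    refine ⟨hle.trans (inf_le_inf_right _ hXL), ?_, ?_⟩
    · have h1 : ((X ⊓ centralizer (Z : Set G)).subgroupOf D).IsSubnormal := by
        have h2 := hX.subgroupOf (K := D)
        convert h2 using 1
        ext x
        exact ⟨fun h => h.1, fun h => ⟨h, x.2.2⟩⟩
      refine IsSubnormal.step _ _ (Subgroup.comap_mono hle) h1 ?_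
      refine (normal_subgroupOf_iff_le_normalizer (Subgroup.comap_mono hle)).2 ?_
      refine fun x hx => Subgroup.mem_normalizer_iff.2 fun y => ?_
      have hn : (x : G) ∈ normalizer ((closure {x : G | x ∈ X ⊓ centralizer (Z : Set G) ∧
          ∃ k : ℕ, orderOf x = p ^ k} : Subgroup G) : Set G) := by
        refine H74.mem_normalizer_of_map_conj ?_
        rw [MonoidHom.map_closure]
        congr 1
        ext y
        constructor
        · rintro ⟨w, ⟨hw, k, hk⟩, rfl⟩
          refine ⟨mul_mem (mul_mem hx hw) (inv_mem hx), k, ?_⟩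
          rw [← hk]
          exact (MulAut.conj (x : G)).orderOf_eq w
        · rintro ⟨hy, k, hk⟩
          refine ⟨(MulAut.conj (x : G)).symm y, ⟨?_, k, ?_⟩, by simp [mul_assoc]⟩
          · rw [MulAut.conj_symm_apply]
            exact mul_mem (mul_mem (inv_mem hx) hy) hx
          · rw [← hk]
            exact (MulAut.conj (x : G)).symm.orderOf_eq y
      exact Subgroup.mem_normalizer_iff.1 hn (y : G)
    · intro t ht
      obtain ⟨k, hk⟩ := IsPGroup.iff_orderOf.1 T.isPGroup' ⟨t, ht.1⟩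
      exact subset_closure ⟨⟨ht.2, hTC ht.1⟩, k, by rw [← hk, orderOf_mk]⟩
  obtain ⟨hA1, hA2, hA3⟩ := hsub hA le_sup_left
  obtain ⟨hB1, hB2, hB3⟩ := hsub hB le_sup_right
  set Q := PA ⊔ PB with hQ
  have hQsub : (Q.subgroupOf D).IsSubnormal := by
    rw [hQ, subgroupOf_sup hA1 hB1]
    exact H3.subnormal_sup hA2 hB2
  have hTD : (T : Subgroup G) ⊓ (A ⊔ B) ≤ Q := by
    rw [inf_comm]
    refine (H78.sylow_sup _ G le_rfl p T A B hA hB).trans ?_
    rw [inf_comm A, inf_comm B]
    exact sup_le_sup hA3 hB3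
  have hsylD : H74.IsSylIn p ((T : Subgroup G) ⊓ (A ⊔ B)) D :=
    (kieler_local hG T hL).1.of_le (le_inf inf_le_right (inf_le_left.trans hTC)) inf_le_left
  obtain ⟨S, hS⟩ := hsylD.exists_sylow
  have hidx : ¬ p ∣ (Q.subgroupOf D).index := by
    intro hdvd
    refine S.not_dvd_index (hdvd.trans (Subgroup.index_dvd_of_le fun x hx => ?_))
    exact hTD (hS ▸ ⟨x, hx, rfl⟩ : (x : G) ∈ (T : Subgroup G) ⊓ (A ⊔ B))
  rw [closure_le]
  rintro x ⟨hx, k, hk⟩
  have hpx : IsPGroup p (Subgroup.zpowers (⟨x, hx⟩ : D)) := by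
    refine IsPGroup.of_card (n := k) ?_
    rw [Nat.card_zpowers, orderOf_mk, hk]
  obtain ⟨R, hR⟩ := hpx.exists_le_sylow
  have hRQ : (R : Subgroup D) ≤ Q.subgroupOf D := by
    rw [← Subgroup.relIndex_eq_one]
    obtain ⟨R', hR'⟩ := H3.subnormal_inf_sylow hQsub R
    have h1 : (R' : Subgroup ↥(Q.subgroupOf D)).index * (Q.subgroupOf D).index =
        (R : Subgroup D).index * (Q.subgroupOf D).relIndex (R : Subgroup D) := by
      rw [hR']
      show (R : Subgroup D).relIndex _ * _ = _
      rw [← Subgroup.inf_relIndex_right, ← Subgroup.inf_relIndex_right (Q.subgroupOf D),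
        Subgroup.relIndex_mul_index inf_le_right, inf_comm, mul_comm,
        Subgroup.relIndex_mul_index inf_le_right]
    obtain ⟨j, hj⟩ := R.isPGroup'.index (((Q.subgroupOf D)).subgroupOf (R : Subgroup D))
    rcases Nat.eq_zero_or_pos j with h0 | h0
    · rw [Subgroup.relIndex, hj, h0, pow_zero]
    · exfalso
      have h2 : p ∣ (R' : Subgroup ↥(Q.subgroupOf D)).index * (Q.subgroupOf D).index := by
        rw [h1, Subgroup.relIndex, hj]
        exact dvd_mul_of_dvd_right (dvd_pow_self p h0.ne') _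
      rcases hp.out.dvd_mul.1 h2 with h3 | h3
      · exact R'.not_dvd_index h3
      · exact hidx h3
  exact hRQ (hR (Subgroup.mem_zpowers _))

end H73.PointStab
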