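import Cfsg.Agent.H73.ShiftGenerators

/-!
The bound `t ≤ 3n`, `t ≠ 3n - 1` from the first non-commuting distance of the generators.
-/

set_option autoImplicit false
set_option linter.unusedSectionVars false
set_option linter.style.haveILetI false

namespace H73.Shift

open scoped commutatorElement

variable {G : Type*} [Group G]

/-- Consecutive generators. -/
def Sp (y : ℤ → G) (a b : ℤ) : Subgroup G := Subgroup.closure (y '' Set.Icc a b)

theorem mem_Sp (y : ℤ → G) {a b i : ℤ} (h1 : a ≤ i) (h2 : i ≤ b) : y i ∈ Sp y a b :=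
  Subgroup.subset_closure ⟨i, ⟨h1, h2⟩, rfl⟩

theorem Sp_mono (y : ℤ → G) {a b a' b' : ℤ} (h1 : a' ≤ a) (h2 : b ≤ b') :
    Sp y a b ≤ Sp y a' b' :=
  Subgroup.closure_mono (Set.image_mono (Set.Icc_subset_Icc h1 h2))

theorem Sp_empty (y : ℤ → G) {a b : ℤ} (h : b < a) : Sp y a b = ⊥ := by
  rw [Sp, Set.Icc_eq_empty (not_le.2 h), Set.image_empty, Subgroup.closure_empty]

theorem Sp_commute (y : ℤ → G) {a b : ℤ} {z : G} (h : ∀ i, a ≤ i → i ≤ b → Commute (y i) z) :
    ∀ u ∈ Sp y a b, Commute u z := by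
  intro u hu
  have hle : Sp y a b ≤ Subgroup.centralizer {z} :=
    (Subgroup.closure_le _).2 fun _ ⟨i, hi, e⟩ =>
      Subgroup.mem_centralizer_singleton_iff.2 (e ▸ (h i hi.1 hi.2).eq)
  exact Subgroup.mem_centralizer_singleton_iff.1 (hle hu)

theorem cz_Sp (c : MulAut G) (y : ℤ → G) (hy : ∀ k i, (c ^ k) (y i) = y (k + i)) (k a b : ℤ) :
    cz c k (Sp y a b) = Sp y (k + a) (k + b) := by
  rw [cz, Sp, MonoidHom.map_closure, Sp, ← Set.image_comp]
  congr 1
  ext g
  simp only [Set.mem_image, Set.mem_Icc, Function.comp_apply]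
  constructor
  · rintro ⟨i, hi, rfl⟩
    exact ⟨k + i, ⟨by linarith [hi.1], by linarith [hi.2]⟩, (hy k i).symm⟩
  · rintro ⟨i, hi, rfl⟩
    refine ⟨i - k, ⟨by linarith [hi.1], by linarith [hi.2]⟩, ?_⟩
    show (c ^ k) (y (i - k)) = y i
    rw [hy, add_sub_cancel]

variable [Finite G] {c : MulAut G} {P : Subgroup G} {p : ℕ} [hp : Fact p.Prime]

/-- The shifted generators. -/
structure Gens (c : MulAut G) (P : Subgroup G) (p t : ℕ) (y : ℤ → G) : Prop where
  pgroup : IsPGroup p P
  shift : ∀ k i, (c ^ k) (y i) = y (k + i)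
  top : P = Sp y 1 t
  card : ∀ (a : ℤ) (l : ℕ), l ≤ t → Nat.card (Sp y a (a + l - 1)) = p ^ l

theorem exists_gens (d : Data c P p) : ∃ (t : ℕ) (y : ℤ → G), 1 ≤ t ∧ Nat.card P = p ^ t ∧
    Gens c P p t y := by
  obtain ⟨t, ht, hP, hcard, hsup⟩ := exists_chain d
  obtain ⟨x, hx⟩ : ∃ x, Subgroup.zpowers x = R c P (t - 1) := by
    have h := hcard (t - 1) (by omega)
    rw [show t - (t - 1) = 1 by omega, pow_one] at h
    haveI : IsCyclic (R c P (t - 1)) := isCyclic_of_prime_card h
    exact (Subgroup.isCyclic_iff_exists_zpowers_eq_top _).1 inferInstance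
  set y : ℤ → G := fun i => (c ^ (i - t)) x with hy
  have hshift : ∀ k i, (c ^ k) (y i) = y (k + i) := fun k i => by
    show (c ^ k) ((c ^ (i - t)) x) = (c ^ (k + i - t)) x
    rw [show k + i - (t : ℤ) = k + (i - t) by ring, zpow_add, MulAut.mul_apply]
  have hS : ∀ l : ℕ, 1 ≤ l → l ≤ t → Sp y 1 l = cz c ((l : ℤ) - t) (R c P (t - l)) := by
    intro l hl
    induction l, hl using Nat.le_induction with
    | base =>
      intro _
      rw [← hx, cz, MonoidHom.map_zpowers, Sp, Nat.cast_one, Set.Icc_self, Set.image_singleton,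
        Subgroup.zpowers_eq_closure]
      rfl
    | succ l hl ih =>
      intro hlt
      have e := hsup (t - (l + 1)) (by omega)
      rw [show t - (l + 1) + 1 = t - l by omega] at e
      rw [e, cz_sup, cz_cz, Nat.cast_succ, show (l : ℤ) + 1 - t + -1 = l - t by ring,
        show (l : ℤ) + 1 - t = 1 + (l - t) by ring, ← cz_cz, ← ih (by omega), cz_Sp c y hshift]
      rw [Sp, Sp, Sp, ← Subgroup.closure_union, ← Set.image_union]
      congr 2
      ext i
      simp only [Set.mem_Icc, Set.mem_union]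
      omega
  have hcardS : ∀ (a : ℤ) (l : ℕ), l ≤ t → Nat.card (Sp y a (a + l - 1)) = p ^ l := by
    intro a l hl
    rcases Nat.eq_zero_or_pos l with rfl | hl0
    · rw [Sp_empty y (by simp), Subgroup.card_bot, pow_zero]
    · rw [show Sp y a (a + l - 1) = cz c (a - 1) (Sp y 1 l) by
        rw [cz_Sp c y hshift, show a - 1 + 1 = a by ring, show a - 1 + (l : ℤ) = a + l - 1 by ring],
        card_cz, hS l hl0 hl, card_cz,
        hcard (t - l) (by omega), show t - (t - l) = l by omega]
  refine ⟨t, y, ht, hP, isPGroup d, hshift, ?_, hcardS⟩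
  rw [hS t ht le_rfl, Nat.sub_self, sub_self, cz_zero]
  rfl

variable {t : ℕ} {y : ℤ → G} (g : Gens c P p t y)
include g

theorem Gens.isPGroup_Sp {a b : ℤ} (h : b - a < t) : IsPGroup p (Sp y a b) := by
  rcases lt_or_ge b a with h' | h'
  · rw [Sp_empty y h']
    exact IsPGroup.of_bot
  · obtain ⟨l, hl⟩ : ∃ l : ℕ, (l : ℤ) = b - a + 1 := ⟨(b - a + 1).toNat, by omega⟩
    rw [show b = a + l - 1 by omega]
    exact IsPGroup.of_card (g.card a l (by omega))

theorem Gens.card_succ {a b : ℤ} (h1 : a ≤ b) (h2 : b - a < t) :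
    Nat.card (Sp y a b) = p * Nat.card (Sp y a (b - 1)) ∧
      Nat.card (Sp y a b) = p * Nat.card (Sp y (a + 1) b) := by
  obtain ⟨l, hl⟩ : ∃ l : ℕ, (l : ℤ) = b - a := ⟨(b - a).toNat, by omega⟩
  obtain rfl : b = a + l := by omega
  have e1 : Nat.card (Sp y a (a + l)) = p ^ (l + 1) := by
    rw [← g.card a (l + 1) (by omega)]
    congr 3
    push_cast
    ring
  have e2 : Nat.card (Sp y (a + 1) (a + l)) = p ^ l := by
    rw [← g.card (a + 1) l (by omega)]
    congr 3
    ring
  rw [e1, g.card a l (by omega), e2, pow_succ']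
  exact ⟨rfl, rfl⟩

/-- Commutators fall inside. -/
theorem Gens.commutator_mem {a b : ℤ} (hab : a < b) (hbt : b - a < t) {u v : G}
    (hu : u ∈ Sp y a b) (hv : v ∈ Sp y a b) : ⁅u, v⁆ ∈ Sp y (a + 1) (b - 1) := by
  obtain ⟨h1, h2⟩ := g.card_succ hab.le hbt
  have m1 := commutator_mem_of_card (g.isPGroup_Sp hbt) (Sp_mono y le_rfl (by omega)) h1 hu hv
  have m2 := commutator_mem_of_card (g.isPGroup_Sp hbt) (Sp_mono y (by omega) le_rfl) h2 hu hv
  have h3 := (g.card_succ (a := a) (b := b - 1) (by omega) (by omega)).2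
  rcases eq_or_eq_of_card
    (le_inf (Sp_mono y (by omega) le_rfl) (Sp_mono y le_rfl (by omega)) :
      Sp y (a + 1) (b - 1) ≤ Sp y a (b - 1) ⊓ Sp y (a + 1) b) inf_le_left h3 with e | e
  · exact e.le ⟨m1, m2⟩
  · exfalso
    have hsub : Sp y a (b - 1) ≤ Sp y (a + 1) b := e.ge.trans inf_le_right
    have hle : Sp y a b ≤ Sp y (a + 1) b := by
      refine (Subgroup.closure_le _).2 ?_
      rintro _ ⟨i, hi, rfl⟩
      rcases eq_or_lt_of_le hi.1 with he | he
      · exact hsub (mem_Sp y (by omega) (by omega))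
      · exact mem_Sp y he hi.2
    exact not_eq_of_card h2 (le_antisymm hle (Sp_mono y (by omega) le_rfl))

theorem Gens.commute_shift {i j : ℤ} (h : Commute (y i) (y j)) (k : ℤ) :
    Commute (y (k + i)) (y (k + j)) := by
  rw [← g.shift, ← g.shift]
  exact h.map (c ^ k : MulAut G).toMonoidHom

theorem Gens.commute_of_lt {s : ℕ} (hs : ∀ e : ℕ, e < s → Commute (y 1) (y (1 + e))) {i j : ℤ}
    (h1 : i - j < s) (h2 : j - i < s) : Commute (y i) (y j) := by
  rcases le_total i j with h | h
  · obtain ⟨e, he⟩ : ∃ e : ℕ, (e : ℤ) = j - i := ⟨(j - i).toNat, by omega⟩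
    have := g.commute_shift (hs e (by omega)) (i - 1)
    rwa [show i - 1 + 1 = i by ring, show i - 1 + (1 + (e : ℤ)) = j by omega] at this
  · obtain ⟨e, he⟩ : ∃ e : ℕ, (e : ℤ) = i - j := ⟨(i - j).toNat, by omega⟩
    have := g.commute_shift (hs e (by omega)) (j - 1)
    rw [show j - 1 + 1 = j by ring, show j - 1 + (1 + (e : ℤ)) = i by omega] at this
    exact this.symm

/-- Peel the first generator. -/
theorem Gens.peel_left {s : ℕ} (hs : ∀ e : ℕ, e < s → Commute (y 1) (y (1 + e)))
    (hns : ¬ Commute (y 1) (y (1 + s))) {a b : ℤ} (hab : a ≤ b) (hbt : b - a < t)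
    (hb : b < a + 2 * s) {w : G} (hw : w ∈ Sp y a b) (hwz : Commute w (y (a + s))) :
    w ∈ Sp y (a + 1) b := by
  refine mem_of_commute (Sp_mono y (by omega) le_rfl) (g.card_succ hab hbt).2
    (Sp_commute y fun i h1 h2 => g.commute_of_lt hs (by omega) (by omega))
    (mem_Sp y le_rfl hab) (fun h => hns ?_) hw hwz
  have := g.commute_shift h (1 - a)
  rwa [show 1 - a + a = 1 by ring, show 1 - a + (a + s) = 1 + (s : ℤ) by ring] at this

/-- Peel the last generator. -/
theorem Gens.peel_right {s : ℕ} (hs : ∀ e : ℕ, e < s → Commute (y 1) (y (1 + e)))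
    (hns : ¬ Commute (y 1) (y (1 + s))) {a b : ℤ} (hab : a ≤ b) (hbt : b - a < t)
    (ha : b - 2 * s < a) {w : G} (hw : w ∈ Sp y a b) (hwz : Commute w (y (b - s))) :
    w ∈ Sp y a (b - 1) := by
  refine mem_of_commute (Sp_mono y le_rfl (by omega)) (g.card_succ hab hbt).1
    (Sp_commute y fun i h1 h2 => g.commute_of_lt hs (by omega) (by omega))
    (mem_Sp y hab le_rfl) (fun h => hns ?_) hw hwz
  have := g.commute_shift h.symm (1 - (b - s))
  rwa [show 1 - (b - s) + (b - (s : ℤ)) = 1 by ring, show 1 - (b - s) + b = 1 + (s : ℤ) by ring]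
    at this

/-- An element commuting with a range is supported away from it. -/
theorem Gens.shrink_left {s : ℕ} (hs : ∀ e : ℕ, e < s → Commute (y 1) (y (1 + e)))
    (hns : ¬ Commute (y 1) (y (1 + s))) {a b : ℤ} (hbt : b - a < t) (hb : b < a + 2 * s)
    {w : G} (hw : w ∈ Sp y a b) (e : ℕ)
    (hwz : ∀ i, a + s ≤ i → i < a + e + s → Commute w (y i)) : w ∈ Sp y (a + e) b := by
  induction e with
  | zero => simpa using hw
  | succ e ih =>
    have h := ih fun i h1 h2 => hwz i h1 (by push_cast; omega)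
    rcases lt_or_ge b (a + e) with h' | h'
    · rw [Sp_empty y h', Subgroup.mem_bot] at h
      subst h
      exact Subgroup.one_mem _
    · have := g.peel_left hs hns h' (by omega) (by omega) h
        (hwz _ (by omega) (by push_cast; omega))
      rwa [Nat.cast_succ, ← add_assoc]

theorem Gens.shrink_right {s : ℕ} (hs : ∀ e : ℕ, e < s → Commute (y 1) (y (1 + e)))
    (hns : ¬ Commute (y 1) (y (1 + s))) {a b : ℤ} (hbt : b - a < t) (ha : b - 2 * s < a)
    {w : G} (hw : w ∈ Sp y a b) (e : ℕ)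
    (hwz : ∀ i, b - e - s < i → i ≤ b - s → Commute w (y i)) : w ∈ Sp y a (b - e) := by
  induction e with
  | zero => simpa using hw
  | succ e ih =>
    have h := ih fun i h1 h2 => hwz i (by push_cast; omega) h2
    rcases lt_or_ge (b - e) a with h' | h'
    · rw [Sp_empty y h', Subgroup.mem_bot] at h
      subst h
      exact Subgroup.one_mem _
    · have := g.peel_right hs hns h' (by omega) (by omega) h
        (hwz _ (by push_cast; omega) (by omega))
      rwa [Nat.cast_succ, show b - ((e : ℤ) + 1) = b - e - 1 by ring]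

theorem Gens.ne_one (ht : 1 ≤ t) (i : ℤ) : y i ≠ 1 := by
  intro h
  have h1 : Nat.card (Sp y i i) = p ^ 1 := by
    have := g.card i 1 ht
    rwa [Nat.cast_one, show i + 1 - 1 = i by ring] at this
  rw [Sp, Set.Icc_self, Set.image_singleton, h, Subgroup.closure_singleton_one,
    Subgroup.card_bot, pow_one] at h1
  exact hp.out.one_lt.ne h1

/-- The key estimate. -/
theorem Gens.two_mul_le {s : ℕ} (h1 : 1 ≤ s) (hst : s < t)
    (hs : ∀ e : ℕ, e < s → Commute (y 1) (y (1 + e))) (hns : ¬ Commute (y 1) (y (1 + s))) :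
    2 * t ≤ 3 * s := by
  have ht2 : t < 2 * s := by
    by_contra hcon
    haveI : Nontrivial (Sp y 1 (2 * s)) := by
      rw [Subgroup.nontrivial_iff_ne_bot]
      intro e
      exact g.ne_one (by omega) 1 (Subgroup.mem_bot.1 (e ▸ mem_Sp y le_rfl (by omega)))
    haveI : Nontrivial (Subgroup.center (Sp y 1 (2 * s))) :=
      (g.isPGroup_Sp (by omega)).center_nontrivial
    obtain ⟨⟨⟨z, hz⟩, hzc⟩, hz1⟩ := exists_ne (1 : Subgroup.center (Sp y 1 (2 * s)))
    have hcom : ∀ i : ℤ, 1 ≤ i → i ≤ 2 * s → Commute z (y i) := fun i hi hi' =>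
      (congrArg (fun w : Sp y 1 (2 * s) => (w : G))
        (Subgroup.mem_center_iff.1 hzc ⟨y i, mem_Sp y hi hi'⟩)).symm
    have a1 := g.shrink_left hs hns (by omega) (by omega) hz s
      (fun i hi hi' => hcom i (by omega) (by omega))
    have a2 := g.shrink_right hs hns (by omega) (by omega) a1 s
      (fun i hi hi' => hcom i (by omega) (by omega))
    rw [Sp_empty y (by omega), Subgroup.mem_bot] at a2
    exact hz1 (Subtype.ext (Subtype.ext a2))
  set w := ⁅y 1, y (1 + s)⁆ with hw
  have hw1 : w ≠ 1 := fun h => hns (commutatorElement_eq_one_iff_commute.1 h)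
  have hwS : w ∈ Sp y 2 s := by
    have := g.commutator_mem (a := 1) (b := 1 + s) (by omega) (by omega)
      (mem_Sp y le_rfl (by omega)) (mem_Sp y (by omega) le_rfl)
    rwa [show (1 : ℤ) + 1 = 2 by norm_num, show (1 : ℤ) + s - 1 = s by ring] at this
  have hwP : ∀ j : ℤ, 1 ≤ j → j ≤ t → Commute w (y j) := by
    intro j hj hjt
    rcases le_or_gt j (s + 1) with hj' | hj'
    · exact Sp_commute y (fun i h1 h2 => g.commute_of_lt hs (by omega) (by omega)) w hwS
    · set u := (y 1)⁻¹ * y j * y 1 * (y j)⁻¹ with hu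
      have huS : u ∈ Sp y 2 (j - 1) := by
        have := g.commutator_mem (a := 1) (b := j) (by omega) (by omega)
          (Subgroup.inv_mem _ (mem_Sp y le_rfl (by omega))) (mem_Sp y (by omega) le_rfl)
        rwa [show (1 : ℤ) + 1 = 2 by norm_num,
          show ⁅(y 1)⁻¹, y j⁆ = u by rw [hu, commutatorElement_def, inv_inv]] at this
      have huz : Commute u (y (1 + s)) :=
        Sp_commute y (fun i h1 h2 => g.commute_of_lt hs (by omega) (by omega)) u huS
      have hzj : Commute (y j) (y (1 + s)) := g.commute_of_lt hs (by omega) (by omega)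
      have h2 : y j * w * (y j)⁻¹ = w :=
        calc y j * w * (y j)⁻¹ = y j * y 1 * (y j)⁻¹ * (y j * y (1 + s) * (y j)⁻¹) *
              (y j * y 1 * (y j)⁻¹)⁻¹ * (y j * y (1 + s) * (y j)⁻¹)⁻¹ := by
              rw [hw, commutatorElement_def]; group
          _ = y 1 * u * y (1 + s) * (y 1 * u)⁻¹ * (y (1 + s))⁻¹ := by
              rw [hzj.eq, mul_inv_cancel_right, show y j * y 1 * (y j)⁻¹ = y 1 * u by
                rw [hu]; group]
          _ = y 1 * (u * y (1 + s) * u⁻¹) * (y 1)⁻¹ * (y (1 + s))⁻¹ := by group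
          _ = w := by rw [huz.eq, mul_inv_cancel_right, hw, commutatorElement_def]
      exact ((mul_inv_eq_iff_eq_mul.1 h2).symm : w * y j = y j * w)
  have hwQ0 : ∀ m : ℕ, ∀ j : ℤ, 1 - m ≤ j → s + 2 - t ≤ j → j ≤ 1 + s → Commute w (y j) := by
    intro m
    induction m with
    | zero => intro j hm hj hj'; exact hwP j (by omega) (by omega)
    | succ m ih =>
    intro j hm hj hj'
    rcases le_or_gt (1 - (m : ℤ)) j with hj1 | hj1
    · exact ih j hj1 hj hj'
    · set v := y j * y (1 + s) * (y j)⁻¹ * (y (1 + s))⁻¹ with hv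
      have hvS : v ∈ Sp y (j + 1) s := by
        have := g.commutator_mem (a := j) (b := 1 + s) (by omega) (by omega)
          (mem_Sp y le_rfl (by omega)) (mem_Sp y (by omega) le_rfl)
        rwa [show (1 : ℤ) + s - 1 = s by ring,
          show ⁅y j, y (1 + s)⁆ = v from rfl] at this
      have hvx : Commute v (y 1) :=
        Sp_commute y (fun i h1 h2 => g.commute_of_lt hs (by omega) (by omega)) v hvS
      have hxj : Commute (y j) (y 1) := g.commute_of_lt hs (by omega) (by omega)
      have h2 : y j * w * (y j)⁻¹ = w :=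
        calc y j * w * (y j)⁻¹ = (y j * y 1 * (y j)⁻¹) * (y j * y (1 + s) * (y j)⁻¹) *
              (y j * y 1 * (y j)⁻¹)⁻¹ * (y j * y (1 + s) * (y j)⁻¹)⁻¹ := by
              rw [hw, commutatorElement_def]; group
          _ = y 1 * (v * y (1 + s)) * (y 1)⁻¹ * (v * y (1 + s))⁻¹ := by
              rw [hxj.eq, mul_inv_cancel_right, show y j * y (1 + s) * (y j)⁻¹ = v * y (1 + s) by
                rw [hv]; group]
          _ = (y 1 * v) * y (1 + s) * (y 1)⁻¹ * (y (1 + s))⁻¹ * v⁻¹ := by group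
          _ = v * w * v⁻¹ := by rw [← hvx.eq, hw, commutatorElement_def]; group
          _ = w := by
              have hvw : Commute v w := by
                refine Sp_commute y (fun i h1 h2 => ?_) v hvS
                exact (ih i (by omega) (by omega) (by omega)).symm
              rw [hvw.eq, mul_inv_cancel_right]
      exact ((mul_inv_eq_iff_eq_mul.1 h2).symm : w * y j = y j * w)
  have hwQ : ∀ j : ℤ, s + 2 - t ≤ j → j ≤ 1 + s → Commute w (y j) :=
    fun j hj hj' => hwQ0 t j (by omega) hj hj'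
  by_contra hcon
  have a1 := g.shrink_left hs hns (by omega) (by omega) hwS (t - s - 1)
    (fun i hi hi' => hwP i (by omega) (by omega))
  have a2 := g.shrink_right hs hns (by omega) (by omega) a1 (t - s - 1)
    (fun i hi hi' => hwQ i (by omega) (by omega))
  rw [Sp_empty y (by omega), Subgroup.mem_bot] at a2
  exact hw1 a2

/-- The bound. -/
theorem Gens.bound {n : ℕ} (hn : 1 ≤ n) (ht : 1 ≤ t)
    (hZ : ∀ w ∈ P, (∀ i : ℕ, i ≤ n → ∀ u ∈ cz c i P, w * u = u * w) → w = 1) :
    t ≤ 3 * n ∧ t ≠ 3 * n - 1 := by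
  have key : ∀ s : ℕ, 1 ≤ s → s ≤ t → (∀ e : ℕ, e < s → Commute (y 1) (y (1 + e))) →
      2 * s ≤ t + n := by
    intro s hs1 hst hs
    by_contra hcon
    refine g.ne_one ht s (hZ (y s) ?_ fun i hi u hu => ?_)
    · rw [g.top]
      exact mem_Sp y (by omega) (by omega)
    · rw [g.top, cz_Sp c y g.shift] at hu
      exact (Sp_commute y (fun j h1 h2 => g.commute_of_lt hs (by omega) (by omega)) u hu).eq.symm
  by_cases hall : ∀ e : ℕ, e < t → Commute (y 1) (y (1 + e))
  · have := key t ht le_rfl hall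
    omega
  · classical
    simp only [not_forall] at hall
    obtain ⟨e, he, hne⟩ := hall
    have hex : ∃ s : ℕ, ¬ Commute (y 1) (y (1 + s)) := ⟨e, hne⟩
    set s := Nat.find hex with hs_def
    have hse : s ≤ e := Nat.find_min' hex hne
    have hns : ¬ Commute (y 1) (y (1 + s)) := Nat.find_spec hex
    have hs : ∀ k : ℕ, k < s → Commute (y 1) (y (1 + k)) := fun k hk =>
      not_not.1 (Nat.find_min hex hk)
    have hs1 : 1 ≤ s := by
      by_contra h0
      apply hns
      rw [show s = 0 by omega]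
      simp
    have h1 := key s hs1 (by omega) hs
    have h2 := g.two_mul_le hs1 (by omega) hs hns
    omega

end H73.Shift
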