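import Cfsg.Agent.H6.Basic

/-!
Glauberman: a subgroup `P` and an automorphism `c` with `P ⊓ c P` normal of index `p` in `c P`,
with no nontrivial invariant normal subgroup. Then `P` is a `p`-group with shifted generators,
and if the first `n+1` shifts generate a group whose centre meets `P` trivially then
`|P| = p^t` with `t ≤ 3n`, `t ≠ 3n - 1`.
-/

set_option autoImplicit false
set_option linter.unusedSectionVars false
set_option linter.style.haveILetI false

namespace H73.Shift

open scoped commutatorElement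

variable {G : Type*} [Group G]

/-- The image of a subgroup under the `k`-th power of an automorphism. -/
def cz (c : MulAut G) (k : ℤ) (H : Subgroup G) : Subgroup G := H.map (c ^ k : MulAut G).toMonoidHom

theorem mem_cz {c : MulAut G} {k : ℤ} {H : Subgroup G} {x : G} :
    x ∈ cz c k H ↔ ∃ y ∈ H, (c ^ k) y = x := Iff.rfl

theorem apply_mem_cz {c : MulAut G} (k : ℤ) {H : Subgroup G} {x : G} (hx : x ∈ H) :
    (c ^ k) x ∈ cz c k H := ⟨x, hx, rfl⟩

theorem cz_cz (c : MulAut G) (i j : ℤ) (H : Subgroup G) : cz c i (cz c j H) = cz c (i + j) H := by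
  ext x
  simp only [mem_cz]
  constructor
  · rintro ⟨_, ⟨z, hz, rfl⟩, rfl⟩
    exact ⟨z, hz, by rw [zpow_add, MulAut.mul_apply]⟩
  · rintro ⟨z, hz, rfl⟩
    exact ⟨_, ⟨z, hz, rfl⟩, by rw [zpow_add, MulAut.mul_apply]⟩

theorem cz_zero (c : MulAut G) (H : Subgroup G) : cz c 0 H = H := by
  ext x
  simp [mem_cz]

theorem cz_mono (c : MulAut G) (k : ℤ) {H K : Subgroup G} (h : H ≤ K) : cz c k H ≤ cz c k K :=
  Subgroup.map_mono h

theorem cz_sup (c : MulAut G) (k : ℤ) (H K : Subgroup G) :
    cz c k (H ⊔ K) = cz c k H ⊔ cz c k K := Subgroup.map_sup _ _ _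

theorem card_cz (c : MulAut G) (k : ℤ) (H : Subgroup G) : Nat.card (cz c k H) = Nat.card H :=
  Subgroup.card_map_of_injective (c ^ k : MulAut G).injective

theorem cz_inj (c : MulAut G) (k : ℤ) {H K : Subgroup G} (h : cz c k H = cz c k K) : H = K :=
  Subgroup.map_injective (c ^ k : MulAut G).injective h

/-- `R m = P ⊓ c P ⊓ ⋯ ⊓ c^m P`. -/
def R (c : MulAut G) (P : Subgroup G) : ℕ → Subgroup G
  | 0 => P
  | m + 1 => P ⊓ cz c 1 (R c P m)

theorem R_succ_le (c : MulAut G) (P : Subgroup G) : ∀ m, R c P (m + 1) ≤ R c P m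
  | 0 => inf_le_left
  | m + 1 => inf_le_inf_left _ (cz_mono c 1 (R_succ_le c P m))

theorem R_antitone (c : MulAut G) (P : Subgroup G) : Antitone (R c P) :=
  antitone_nat_of_succ_le (R_succ_le c P)

theorem R_le (c : MulAut G) (P : Subgroup G) (m : ℕ) : R c P m ≤ P := R_antitone c P (Nat.zero_le m)

theorem R_succ_le_cz (c : MulAut G) (P : Subgroup G) (m : ℕ) : R c P (m + 1) ≤ cz c 1 (R c P m) :=
  inf_le_right

/-- The standing hypotheses. -/
structure Data (c : MulAut G) (P : Subgroup G) (p : ℕ) : Prop where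
  normal : ∀ h ∈ cz c 1 P, ∀ z ∈ P ⊓ cz c 1 P, h * z * h⁻¹ ∈ P ⊓ cz c 1 P
  index : (P ⊓ cz c 1 P).relIndex (cz c 1 P) = p
  core : ∀ Q : Subgroup G, Q ≤ P → (Q.subgroupOf P).Normal → cz c 1 Q = Q → Q = ⊥

variable {c : MulAut G} {P : Subgroup G} {p : ℕ}

theorem R_succ_conj (d : Data c P p) {m : ℕ} {h z : G} (hh : h ∈ cz c 1 (R c P m))
    (hz : z ∈ R c P (m + 1)) : h * z * h⁻¹ ∈ R c P (m + 1) :=
  ⟨(d.normal h (cz_mono c 1 (R_le c P m) hh) z ⟨hz.1, cz_mono c 1 (R_le c P m) hz.2⟩).1,
    Subgroup.mul_mem _ (Subgroup.mul_mem _ hh hz.2) (Subgroup.inv_mem _ hh)⟩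

theorem cz_fixed {D : Subgroup G} (h : cz c 1 D = D) : ∀ k : ℤ, cz c k D = D := by
  intro k
  induction k with
  | zero => exact cz_zero c D
  | succ i ih => rw [← cz_cz, h, ih]
  | pred i ih =>
    apply cz_inj c 1
    rw [cz_cz, h, show (1 : ℤ) + (-(i : ℤ) - 1) = -(i : ℤ) by ring, ih]

variable [Finite G]

theorem exists_stable (c : MulAut G) (P : Subgroup G) : ∃ m, R c P (m + 1) = R c P m := by
  by_contra hne
  simp only [not_exists] at hne
  have h : ∀ m, Nat.card (R c P m) + m ≤ Nat.card P := by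
    intro m
    induction m with
    | zero => exact le_rfl
    | succ m ih =>
      have hlt : R c P (m + 1) < R c P m := lt_of_le_of_ne (R_succ_le c P m) (hne m)
      have := Set.Finite.card_lt_card (Set.toFinite _) (SetLike.coe_ssubset_coe.2 hlt)
      change Nat.card (R c P (m + 1)) < Nat.card (R c P m) at this
      omega
  have := h (Nat.card P)
  have : 0 < Nat.card (R c P (Nat.card P)) := Nat.card_pos
  omega

theorem stable_fixed {m : ℕ} (h : R c P (m + 1) = R c P m) : cz c 1 (R c P m) = R c P m :=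
  (Subgroup.eq_of_le_of_card_ge (h.ge.trans (R_succ_le_cz c P m)) (card_cz c 1 _).le).symm

variable [hp : Fact p.Prime]

theorem isPGroup (d : Data c P p) : IsPGroup p P := by
  set W : Set G := {x | x ∈ P ∧ (orderOf x).Coprime p} with hW
  obtain ⟨j, hj⟩ := exists_stable c P
  set D := R c P j with hD
  have hDfix := cz_fixed (stable_fixed hj)
  have hord : ∀ (k : ℤ) (x : G), orderOf ((c ^ k) x) = orderOf x := fun k x =>
    MulEquiv.orderOf_eq (c ^ k : MulAut G) x
  have hmem : ∀ (m : ℕ) (x : G), x ∈ W → (c ^ (m : ℤ)) x ∈ R c P m := by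
    intro m
    induction m with
    | zero => intro x hx; simpa [R] using hx.1
    | succ m ih =>
      intro x hx
      set y := (c ^ ((m + 1 : ℕ) : ℤ)) x with hy
      have hy1 : y ∈ cz c 1 (R c P m) :=
        ⟨_, ih x hx, by rw [hy, Nat.cast_succ, add_comm, zpow_add, MulAut.mul_apply]; rfl⟩
      have hyP : y ∈ cz c 1 P := cz_mono c 1 (R_le c P m) hy1
      haveI : ((P ⊓ cz c 1 P).subgroupOf (cz c 1 P)).Normal :=
        ⟨fun z hz h => d.normal h h.2 z hz⟩
      have hpow : y ^ p ∈ P ⊓ cz c 1 P := by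
        have := Subgroup.pow_index_mem ((P ⊓ cz c 1 P).subgroupOf (cz c 1 P)) ⟨y, hyP⟩
        rwa [show ((P ⊓ cz c 1 P).subgroupOf (cz c 1 P)).index = p from d.index,
          Subgroup.mem_subgroupOf] at this
      have hcop : (orderOf y).Coprime p := by rw [hy, hord]; exact hx.2
      obtain ⟨k, hk⟩ := exists_pow_eq_self_of_coprime hcop.symm
      exact ⟨(hk ▸ (Subgroup.pow_mem _ hpow k)).1, hy1⟩
  have hWD : W ⊆ D := by
    intro x hx
    have h1 : (c ^ (j : ℤ)) x ∈ cz c j D := (hDfix j).ge (hmem j x hx)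
    obtain ⟨z, hz, he⟩ := h1
    rwa [(c ^ (j : ℤ) : MulAut G).injective he] at hz
  have hcW : ∀ x ∈ W, (c ^ (1 : ℤ)) x ∈ W := fun x hx =>
    ⟨R_le c P j ((hDfix 1).le (apply_mem_cz 1 (hWD hx))), by rw [hord]; exact hx.2⟩
  have hQP : Subgroup.closure W ≤ P := (Subgroup.closure_le _).2 fun x hx => hx.1
  have hQn : ((Subgroup.closure W).subgroupOf P).Normal := by
    refine ⟨fun z hz h => ?_⟩
    rw [Subgroup.mem_subgroupOf] at hz ⊢
    have : (Subgroup.closure W).map (MulAut.conj (h : G)).toMonoidHom ≤ Subgroup.closure W := by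
      rw [MonoidHom.map_closure, Subgroup.closure_le]
      rintro _ ⟨w, hw, rfl⟩
      refine Subgroup.subset_closure ⟨?_, ?_⟩
      · exact P.mul_mem (P.mul_mem h.2 hw.1) (P.inv_mem h.2)
      · rw [show orderOf ((MulAut.conj (h : G)).toMonoidHom w) = orderOf w from
          MulEquiv.orderOf_eq _ w]
        exact hw.2
    exact this ⟨z, hz, rfl⟩
  have hQc : cz c 1 (Subgroup.closure W) = Subgroup.closure W := by
    refine Subgroup.eq_of_le_of_card_ge ?_ (card_cz c 1 _).ge
    rw [cz, MonoidHom.map_closure, Subgroup.closure_le]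
    rintro _ ⟨w, hw, rfl⟩
    exact Subgroup.subset_closure (hcW w hw)
  have hbot := d.core _ hQP hQn hQc
  intro x
  set a := (orderOf (x : G)).factorization p with ha
  refine ⟨a, Subtype.ext ?_⟩
  rw [Subgroup.coe_pow, Subgroup.coe_one]
  have hdvd : p ^ a ∣ orderOf (x : G) := Nat.ordProj_dvd _ _
  have hcop : (orderOf ((x : G) ^ p ^ a)).Coprime p := by
    rw [orderOf_pow_of_dvd (pow_ne_zero _ hp.out.ne_zero) hdvd, Nat.coprime_comm]
    exact Nat.coprime_ordCompl hp.out (orderOf_pos _).ne'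
  have h1 : (x : G) ^ p ^ a ∈ Subgroup.closure W :=
    Subgroup.subset_closure ⟨P.pow_mem x.2 _, hcop⟩
  exact Subgroup.mem_bot.1 (hbot ▸ h1)

/-! ### Facts about subgroups of index `p` -/

theorem not_eq_of_card {H L : Subgroup G} (h : Nat.card L = p * Nat.card H) : L ≠ H := by
  intro e
  rw [e] at h
  have := hp.out.one_lt
  have : 0 < Nat.card H := Nat.card_pos
  nlinarith

theorem relIndex_eq_of_card {H L : Subgroup G} (hle : H ≤ L) (h : Nat.card L = p * Nat.card H) :
    (H.subgroupOf L).index = p := by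
  have h1 := Subgroup.card_mul_index (H.subgroupOf L)
  rw [Nat.card_congr (Subgroup.subgroupOfEquivOfLe hle).toEquiv, h, mul_comm p] at h1
  exact Nat.eq_of_mul_eq_mul_left Nat.card_pos h1

/-- Nothing lies strictly between. -/
theorem eq_or_eq_of_card {H K L : Subgroup G} (hHK : H ≤ K) (hKL : K ≤ L)
    (h : Nat.card L = p * Nat.card H) : K = H ∨ K = L := by
  have h1 := Subgroup.relIndex_mul_relIndex H K L hHK hKL
  have h2 : H.relIndex L = p := relIndex_eq_of_card (hHK.trans hKL) h
  rw [h2] at h1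
  rcases (Nat.dvd_prime hp.out).1 (Dvd.intro _ h1 : H.relIndex K ∣ p) with h3 | h3
  · exact Or.inl (le_antisymm (Subgroup.relIndex_eq_one.1 h3) hHK)
  · refine Or.inr (le_antisymm hKL (Subgroup.relIndex_eq_one.1 ?_))
    rw [h3] at h1
    exact Nat.eq_of_mul_eq_mul_left hp.out.pos (by rw [h1, mul_one])

theorem commutator_mem_of_card {H L : Subgroup G} (hL : IsPGroup p L) (hle : H ≤ L)
    (h : Nat.card L = p * Nat.card H) {u v : G} (hu : u ∈ L) (hv : v ∈ L) : ⁅u, v⁆ ∈ H := by
  have hidx := relIndex_eq_of_card hle h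
  haveI : (H.subgroupOf L).Normal := H6.normal_of_index_eq_prime hL hidx
  haveI : IsCyclic (↥L ⧸ H.subgroupOf L) :=
    isCyclic_of_prime_card (p := p) (by rw [← Subgroup.index_eq_card, hidx])
  have h1 : QuotientGroup.mk' (H.subgroupOf L) ⁅(⟨u, hu⟩ : L), ⟨v, hv⟩⁆ = 1 := by
    rw [map_commutatorElement, commutatorElement_eq_one_iff_mul_comm]
    letI := IsCyclic.commGroup (α := ↥L ⧸ H.subgroupOf L)
    exact mul_comm _ _
  have h2 := (QuotientGroup.eq_one_iff _).1 h1
  rw [Subgroup.mem_subgroupOf] at h2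
  simpa [commutatorElement_def] using h2

/-- An element of `L` commuting with `z` lies in `H`. -/
theorem mem_of_commute {H L : Subgroup G} (hle : H ≤ L) (h : Nat.card L = p * Nat.card H) {z y w : G}
    (hH : ∀ u ∈ H, Commute u z) (hy : y ∈ L) (hyz : ¬ Commute y z) (hw : w ∈ L)
    (hwz : Commute w z) : w ∈ H := by
  let C : Subgroup G := L ⊓ Subgroup.centralizer {z}
  have hHC : H ≤ C := le_inf hle fun u hu => Subgroup.mem_centralizer_singleton_iff.2 (hH u hu).eq
  rcases eq_or_eq_of_card hHC (inf_le_left : C ≤ L) h with e | e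
  · exact e.le ⟨hw, Subgroup.mem_centralizer_singleton_iff.2 hwz.eq⟩
  · exact absurd (Subgroup.mem_centralizer_singleton_iff.1 (e.ge hy).2) hyz

/-! ### Shifted generators -/

variable (d : Data c P p)
include d

theorem eq_succ_of_eq {m : ℕ} (h : cz c (-1) (R c P (m + 1)) = R c P (m + 1)) :
    R c P (m + 1 + 1) = R c P (m + 1) := by
  have h1 : cz c 1 (R c P (m + 1)) = R c P (m + 1) := by
    conv_lhs => rw [← h]
    rw [cz_cz, show (1 : ℤ) + -1 = 0 by norm_num, cz_zero]
  show P ⊓ cz c 1 (R c P (m + 1)) = _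
  rw [h1, inf_eq_right.2 (R_le c P (m + 1))]

/-- The chain of intersections. -/
theorem exists_chain : ∃ t : ℕ, 1 ≤ t ∧ Nat.card P = p ^ t ∧
    (∀ m ≤ t, Nat.card (R c P m) = p ^ (t - m)) ∧
    (∀ m, m + 1 < t → R c P m = cz c (-1) (R c P (m + 1)) ⊔ R c P (m + 1)) := by
  classical
  have hex := exists_stable c P
  set j := Nat.find hex with hj
  have hstab : R c P (j + 1) = R c P j := Nat.find_spec hex
  have hne : ∀ m < j, R c P (m + 1) ≠ R c P m := fun m hm => Nat.find_min hex hm
  have hP := isPGroup d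
  have hj1 : 1 ≤ j := by
    by_contra h0
    have e : j = 0 := by omega
    have h1 : cz c 1 P = P := by
      have := stable_fixed hstab
      rwa [e] at this
    have h2 := d.index
    rw [h1, inf_idem, Subgroup.relIndex_self] at h2
    exact hp.out.one_lt.ne h2
  have hstep : ∀ m < j, Nat.card (R c P m) = p * Nat.card (R c P (m + 1)) := by
    intro m hm
    obtain ⟨a, ha⟩ := IsPGroup.iff_card.1 (hP.to_le (R_le c P (m + 1)))
    obtain ⟨b, hb⟩ := IsPGroup.iff_card.1 (hP.to_le (R_le c P m))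
    have hlt : Nat.card (R c P (m + 1)) < Nat.card (R c P m) := by
      have := Set.Finite.card_lt_card (Set.toFinite _)
        (SetLike.coe_ssubset_coe.2 (lt_of_le_of_ne (R_succ_le c P m) (hne m hm)))
      exact this
    have hab : a < b := by
      rw [ha, hb] at hlt
      exact (Nat.pow_lt_pow_iff_right hp.out.one_lt).1 hlt
    have hle : (R c P (m + 1)).relIndex (cz c 1 (R c P m)) ≤ p := by
      have e : R c P (m + 1) = (P ⊓ cz c 1 P) ⊓ cz c 1 (R c P m) := by
        rw [inf_assoc, inf_eq_right.2 (cz_mono c 1 (R_le c P m))]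
        rfl
      rw [e, Subgroup.inf_relIndex_right]
      refine (Subgroup.relIndex_le_of_le_right (cz_mono c 1 (R_le c P m)) ?_).trans d.index.le
      rw [d.index]
      exact hp.out.ne_zero
    have hmul : Nat.card (R c P (m + 1)) * (R c P (m + 1)).relIndex (cz c 1 (R c P m)) =
        Nat.card (R c P m) := by
      rw [← card_cz c 1 (R c P m),
        ← Nat.card_congr (Subgroup.subgroupOfEquivOfLe (R_succ_le_cz c P m)).toEquiv]
      exact Subgroup.card_mul_index _
    rw [ha, hb] at hmul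
    have hb' : p ^ b ≤ p ^ (a + 1) := by
      rw [← hmul, pow_succ]
      exact Nat.mul_le_mul_left _ hle
    have := (Nat.pow_le_pow_iff_right hp.out.one_lt).1 hb'
    rw [ha, hb, show b = a + 1 by omega, pow_succ, mul_comm]
  have hsup : ∀ m, m + 1 < j → R c P m = cz c (-1) (R c P (m + 1)) ⊔ R c P (m + 1) := by
    intro m hm
    have h1 : cz c (-1) (R c P (m + 1)) ≤ R c P m := by
      have := cz_mono c (-1) (R_succ_le_cz c P m)
      rwa [cz_cz, show (-1 : ℤ) + 1 = 0 by norm_num, cz_zero] at this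
    have h2 : ¬ cz c (-1) (R c P (m + 1)) ≤ R c P (m + 1) := fun h =>
      hne (m + 1) hm (eq_succ_of_eq d (Subgroup.eq_of_le_of_card_ge h (card_cz c _ _).ge))
    rcases eq_or_eq_of_card (le_sup_right : R c P (m + 1) ≤ cz c (-1) (R c P (m + 1)) ⊔ R c P (m + 1))
      (sup_le h1 (R_succ_le c P m)) (hstep m (by omega)) with e | e
    · exact absurd (le_sup_left.trans e.le) h2
    · exact e.symm
  set D := R c P j with hD
  have hDfix := cz_fixed (stable_fixed hstab)
  have hnorm : ∀ i m, m + 1 + i = j → ∀ x ∈ R c P m, ∀ z ∈ D, x * z * x⁻¹ ∈ D := by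
    intro i
    induction i with
    | zero =>
      intro m hm x hx z hz
      have hm' : R c P (m + 1) = D := by rw [hD, ← hm]
      have hz' : (c ^ (1 : ℤ)) z ∈ R c P (m + 1) := by
        rw [hm']; exact (hDfix 1).le (apply_mem_cz 1 hz)
      have h1 := R_succ_conj d (apply_mem_cz 1 hx) hz'
      rw [hm', ← map_inv, ← map_mul, ← map_mul] at h1
      obtain ⟨w, hw, he⟩ := (hDfix 1).ge h1
      rwa [(c ^ (1 : ℤ) : MulAut G).injective he] at hw
    | succ i ih =>
      intro m hm x hx
      rw [hsup m (by omega)] at hx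
      have hinv : ∀ y ∈ cz c (-1) (R c P (m + 1)), ∀ z ∈ D, y * z * y⁻¹ ∈ D := by
        rintro _ ⟨y, hy, rfl⟩ z hz
        obtain ⟨z', hz', rfl⟩ := (hDfix (-1)).ge hz
        show (c ^ (-1 : ℤ)) y * (c ^ (-1 : ℤ)) z' * ((c ^ (-1 : ℤ)) y)⁻¹ ∈ D
        rw [← map_inv, ← map_mul, ← map_mul]
        exact (hDfix (-1)).le (apply_mem_cz _ (ih (m + 1) (by omega) y hy z' hz'))
      let N : Subgroup G :=
        { carrier := {y | (∀ z ∈ D, y * z * y⁻¹ ∈ D) ∧ ∀ z ∈ D, y⁻¹ * z * y ∈ D}
          one_mem' := ⟨fun z hz => by simpa using hz, fun z hz => by simpa using hz⟩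
          mul_mem' := fun {a b} ha hb => ⟨fun z hz => by
              rw [show a * b * z * (a * b)⁻¹ = a * (b * z * b⁻¹) * a⁻¹ by group]
              exact ha.1 _ (hb.1 z hz),
            fun z hz => by
              rw [show (a * b)⁻¹ * z * (a * b) = b⁻¹ * (a⁻¹ * z * a) * b by group]
              exact hb.2 _ (ha.2 z hz)⟩
          inv_mem' := fun {a} ha => ⟨fun z hz => by rw [inv_inv]; exact ha.2 z hz,
            fun z hz => by rw [inv_inv]; exact ha.1 z hz⟩ }
      have hle : cz c (-1) (R c P (m + 1)) ⊔ R c P (m + 1) ≤ N := by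
        refine sup_le (fun y hy => ⟨hinv y hy, fun z hz => ?_⟩)
          (fun y hy => ⟨ih (m + 1) (by omega) y hy, fun z hz => ?_⟩)
        · have := hinv y⁻¹ (Subgroup.inv_mem _ hy) z hz
          rwa [inv_inv] at this
        · have := ih (m + 1) (by omega) y⁻¹ (Subgroup.inv_mem _ hy) z hz
          rwa [inv_inv] at this
      exact (hle hx).1
  have hDbot : D = ⊥ := by
    refine d.core D (R_le c P j) ⟨fun z hz x => ?_⟩ (hDfix 1)
    rw [Subgroup.mem_subgroupOf] at hz ⊢
    exact hnorm (j - 1) 0 (by omega) x x.2 z hz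
  have hcard : ∀ i m, m + i = j → Nat.card (R c P m) = p ^ i := by
    intro i
    induction i with
    | zero =>
      intro m hm
      rw [show m = j by omega, ← hD, hDbot, Subgroup.card_bot, pow_zero]
    | succ i ih =>
      intro m hm
      rw [hstep m (by omega), ih (m + 1) (by omega), pow_succ, mul_comm]
  exact ⟨j, hj1, hcard j 0 (zero_add j), fun m hm => hcard _ _ (by omega), hsup⟩

end H73.Shift
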