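import Cfsg.Agent.H73.TransferFailure
import Cfsg.Agent.H73.WeakClosureQuad

/-!
Control of strong fusion by isomorphism-invariant functors: reduction to constrained sections (helper73).
-/

set_option autoImplicit false

namespace H73

open Subgroup
open scoped commutatorElement

universe u

variable (𝓦 : Set (∀ (Q : Type u) [Group Q], Subgroup Q))

/-- The functors control strong fusion in `G`. -/
abbrev SF (p : ℕ) (G : Type u) [Group G] : Prop :=
  Cfsg.FamilyControlsStrongFusionIn p (famOf 𝓦 G) ⊤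

variable {𝓦} {p : ℕ} [Fact p.Prime] {G : Type u} [Group G] [Finite G]
  (h𝓦 : ∀ W ∈ 𝓦, Cfsg.IsCharPFunctor.{u} p W)

theorem ChainFrom.gen_mono {X : Type*} [Group X] {Gen Gen' : Set X} (h : Gen ⊆ Gen') {S : Subgroup X}
    {A : Set X} {c : X} (hc : ChainFrom Gen S A c) : ChainFrom Gen' S A c := by
  induction hc with
  | refl => exact .refl
  | step _ hy hs ih => exact ih.step (h hy) hs

theorem FusGen.gen_mono {X : Type*} [Group X] {Gen Gen' : Set X} (h : Gen ⊆ Gen') {S : Subgroup X}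
    {A : Set X} {g : X} (hg : FusGen Gen S A g) : FusGen Gen' S A g := fun B hB hor => by
  obtain ⟨h1, h2, c, hc, hce⟩ := hg B hB hor
  exact ⟨h1, h2, c, hc.gen_mono h, hce⟩

include h𝓦 in
omit [Fact p.Prime] in
/-- Control of strong fusion seen through an injective homomorphism. -/
theorem famFusion_map {X : Type u} [Group X] [Finite X] (f : X →* G) (hf : Function.Injective f)
    (h : SF 𝓦 p X) : Cfsg.FamilyControlsStrongFusionIn p (famOf 𝓦 G) f.range := by
  obtain ⟨T, -, hTp, hTd, hT⟩ := h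
  refine ⟨T.map f, Subgroup.map_le_range f T, hTp.map f, ?_, ?_⟩
  · rwa [MonoidHom.range_eq_map, Subgroup.relIndex_map_map_of_injective _ _ hf]
  intro A g hg hA hgA
  obtain ⟨h, rfl⟩ := hg
  have hmem : ∀ {x : X}, f x ∈ T.map f → x ∈ T := fun hx =>
    (Subgroup.mem_map_iff_mem hf).mp hx
  obtain ⟨n, c, h0, hstep, hin, hlast⟩ := hT (f ⁻¹' A) h (Subgroup.mem_top h)
    (fun a ha => hmem (hA ha)) (by
      rintro _ ⟨a, ha, rfl⟩
      refine hmem ?_
      rw [map_mul, map_mul, map_inv]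
      exact hgA ⟨f a, ha, rfl⟩)
  refine ⟨n, fun i => f (c i), by simp [h0], fun i => ?_, fun i => ?_, fun a ha => ?_⟩
  · obtain ⟨_, ⟨W, hW, rfl⟩, hy⟩ := hstep i
    refine ⟨_, ⟨W, hW, rfl⟩, ?_⟩
    rw [← map_inv, ← map_mul]
    refine ⟨⟨_, rfl⟩, ?_⟩
    show f (c i.succ * (c i.castSucc)⁻¹) ∈ Subgroup.normalizer
      ((Cfsg.inducedFunctor W (T.map f) : Subgroup G) : Set G)
    rw [← map_inducedFunctor (h𝓦 W hW) f hf hTp, mem_normalizer_iff_cj]
    rw [show cj (f (c i.succ * (c i.castSucc)⁻¹)) ((Cfsg.inducedFunctor W T).map f) =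
      (cj (c i.succ * (c i.castSucc)⁻¹) (Cfsg.inducedFunctor W T)).map f by
        rw [cj, cj, Subgroup.map_map, Subgroup.map_map]
        congr 1
        ext a
        simp [MulAut.conj_apply]]
    rw [mem_normalizer_iff_cj.mp hy.2]
  · rintro _ ⟨a, ha, rfl⟩
    obtain ⟨b, hb, rfl⟩ := hA ha
    exact ⟨c i * b * (c i)⁻¹, hin i ⟨b, ha, rfl⟩, by simp⟩
  · obtain ⟨b, hb, rfl⟩ := hA ha
    have := congrArg f (hlast b ha)
    simpa using this

include h𝓦 in
omit [Fact p.Prime] in
theorem sf_of_equiv {X : Type u} [Group X] [Finite X] (e : X ≃* G) (h : SF 𝓦 p X) : SF 𝓦 p G := by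
  have h1 := famFusion_map h𝓦 e.toMonoidHom e.injective h
  rwa [MonoidHom.range_eq_top.mpr e.surjective] at h1

include h𝓦 in
/-- Fusion inside proper overgroups of `S`. -/
theorem fusGen_of_proper (S : Sylow p G) {H : Subgroup G} (hSH : (S : Subgroup G) ≤ H) (h : SF 𝓦 p H)
    {A : Set G} {g : G} (hg : g ∈ H) (hA : A ⊆ (S : Subgroup G))
    (hgA : cset g A ⊆ (S : Subgroup G)) :
    FusGen (genSet (famOf 𝓦 G) ⊤ (S : Subgroup G)) (S : Subgroup G) A g := by
  have h1 := famFusion_map h𝓦 H.subtype H.subtype_injective h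
  rw [Subgroup.range_subtype] at h1
  refine (familyControlsStrongFusionIn_any (famOf_isConjugacyFunctor h𝓦) h1
    ((sylIn_top S).of_le hSH le_top) hg hA hgA).gen_mono ?_
  rintro y ⟨W, hW, hy⟩
  exact ⟨W, hW, Subgroup.mem_top y, hy.2⟩

/-- A chain whose steps are realized gives the fusion. -/
theorem fusGen_of_chain {X : Type*} [Group X] {Gen : Set X} (hGen : ∀ y ∈ Gen, y⁻¹ ∈ Gen)
    {S : Subgroup X} {Gen' : Set X} {A : Set X} {d : X} (hA : A ⊆ S) (hd : ChainFrom Gen' S A d)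
    (hstep : ∀ y ∈ Gen', ∀ B : Set X, B ⊆ S → cset y B ⊆ S → FusGen Gen S B y) :
    FusGen Gen S A d := by
  induction hd with
  | refl => exact (fusGen_closed hGen S).one A
  | @step e y hd hy hs ih =>
    refine (fusGen_closed hGen S).comp A e y ih (hstep y hy _ (hd.cset_subset hA) ?_)
    rw [cset_cset]
    exact hs

include h𝓦 in
/-- Fusion modulo a normal `p'`-subgroup lifts. -/
theorem sf_of_pPrimeCore (S : Sylow p G) {K : Subgroup G} [K.Normal] (hK : (Nat.card K).Coprime p)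
    (hq : SF 𝓦 p (G ⧸ K)) : SF 𝓦 p G := by
  refine familyControlsStrongFusionIn_top_of_fusGen (sylIn_top S) fun A g hA hgA => ?_
  set π := QuotientGroup.mk' K with hπ
  have hπs : Function.Surjective π := QuotientGroup.mk'_surjective K
  have hSK : (S : Subgroup G) ⊓ K = ⊥ := by
    refine Subgroup.inf_eq_bot_of_coprime ?_
    obtain ⟨n, hn⟩ := IsPGroup.iff_card.mp S.2
    rw [hn]
    exact (hK.symm).pow_left n
  have hπK : ∀ {x : G}, π x = 1 ↔ x ∈ K := QuotientGroup.eq_one_iff _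
  have hinj : ∀ {a b : G}, a ∈ (S : Subgroup G) → b ∈ (S : Subgroup G) → π a = π b → a = b := by
    intro a b ha hb e
    have h1 : a⁻¹ * b ∈ (S : Subgroup G) ⊓ K :=
      ⟨(S : Subgroup G).mul_mem ((S : Subgroup G).inv_mem ha) hb,
        hπK.mp (by rw [map_mul, map_inv, e, inv_mul_cancel])⟩
    rw [hSK, Subgroup.mem_bot, inv_mul_eq_one] at h1
    exact h1
  have hπc : ∀ (x a : G), π (x * a * x⁻¹) = π x * π a * (π x)⁻¹ := fun x a => by simp
  obtain ⟨-, -, c, hc, hce⟩ := familyControlsStrongFusionIn_any (famOf_isConjugacyFunctor h𝓦) hq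
    (sylIn_top (S.mapSurjective hπs)) (Subgroup.mem_top (π g)) (A := π '' A)
    (by rintro _ ⟨a, ha, rfl⟩; exact ⟨a, hA ha, rfl⟩)
    (by rintro _ ⟨_, ⟨a, ha, rfl⟩, rfl⟩; exact ⟨_, hgA ⟨a, ha, rfl⟩, hπc g a⟩)
    (π '' A) subset_rfl (Or.inl (by rintro _ ⟨a, ha, rfl⟩; exact ⟨a, hA ha, rfl⟩))
  have key : ∀ d, ChainFrom (genSet (famOf 𝓦 (G ⧸ K)) ⊤ (S.mapSurjective hπs : Subgroup (G ⧸ K)))
      (S.mapSurjective hπs : Subgroup (G ⧸ K)) (π '' A) d →
      ∃ e, ChainFrom (genSet (famOf 𝓦 G) ⊤ (S : Subgroup G)) (S : Subgroup G) A e ∧ π e = d := by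
    intro d hd
    induction hd with
    | refl => exact ⟨1, .refl, map_one π⟩
    | @step d y _ hy hs ih =>
      obtain ⟨e, he, rfl⟩ := ih
      obtain ⟨_, ⟨W, hW, rfl⟩, -, hy⟩ := hy
      set N := Subgroup.normalizer ((Cfsg.inducedFunctor W (S : Subgroup G) : Subgroup G) : Set G)
      have hZ : Cfsg.inducedFunctor W ((S : Subgroup G).map π) =
          (Cfsg.inducedFunctor W (S : Subgroup G)).map π :=
        (map_inducedFunctor_of_disjoint (h𝓦 W hW) π S.2 (by rw [hπ, QuotientGroup.ker_mk', hSK])).symm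
      have hSN : (S : Subgroup G) ≤ N :=
        le_normalizer_functor (isConjugacyFunctor_inducedFunctor (h𝓦 W hW) G) S.2
      obtain ⟨y, rfl⟩ := hπs y
      set Z := Cfsg.inducedFunctor W (S : Subgroup G) with hZdef
      have hy' : π y ∈ Subgroup.normalizer ((Z.map π : Subgroup (G ⧸ K)) : Set (G ⧸ K)) := by
        rw [← hZ]
        exact hy
      have hZS : Z ≤ (S : Subgroup G) := inducedFunctor_le _
      have hZsyl : SylIn p Z (Z ⊔ K) := by
        refine ⟨le_sup_left, S.2.to_le hZS, fun hdvd => ?_⟩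
        have h2 : (⊥ : Subgroup G).relIndex Z * Z.relIndex (Z ⊔ K) =
            (⊥ : Subgroup G).relIndex (Z ⊔ K) :=
          Subgroup.relIndex_mul_relIndex _ _ _ bot_le le_sup_left
        rw [Subgroup.relIndex_bot_left, Subgroup.relIndex_bot_left] at h2
        have h4 := H1.card_sup_dvd_mul Z K
        rw [← h2] at h4
        exact ((Fact.out : p.Prime).coprime_iff_not_dvd.mp hK.symm)
          (hdvd.trans (Nat.dvd_of_mul_dvd_mul_left Nat.card_pos h4))
      have hyN : ∃ n ∈ N, π n = π y := by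
        have e1 : (cj y Z).map π = Z.map π := by
          rw [show (cj y Z).map π = cj (π y) (Z.map π) by
            rw [cj, cj, Subgroup.map_map, Subgroup.map_map]; rfl]
          exact mem_normalizer_iff_cj.mp hy'
        have hh : cj y Z ≤ Z ⊔ K := by
          have h5 : cj y Z ≤ ((cj y Z).map π).comap π := Subgroup.le_comap_map _ _
          rwa [e1, Subgroup.comap_map_eq, hπ, QuotientGroup.ker_mk'] at h5
        obtain ⟨l, hl, hlZ⟩ := hZsyl.exists_conj_le ((S.2.to_le hZS).map _) hh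
        obtain ⟨z, hz, k, hk, rfl⟩ := Subgroup.mem_sup_of_normal_right.mp hl
        refine ⟨k * y, ?_, by rw [map_mul, hπK.mpr hk, one_mul]⟩
        have hn : z * k * y ∈ N := by
          show z * k * y ∈ Subgroup.normalizer (Z : Set G)
          rw [mem_normalizer_iff_cj, ← cj_cj]
          exact Subgroup.eq_of_le_of_card_ge hlZ (by rw [card_cj, card_cj])
        have := N.mul_mem (N.inv_mem (hSN (hZS hz))) hn
        simpa [mul_assoc] using this
      obtain ⟨n, hn, hny⟩ := hyN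
      set L := ((S : Subgroup G) ⊔ K) ⊓ N
      have hPL : Subgroup.closure (cset (n * e) A) ≤ L := by
        rw [Subgroup.closure_le]
        rintro _ ⟨a, ha, rfl⟩
        refine ⟨?_, ?_⟩
        · have h1 : π y * π e * π a * (π y * π e)⁻¹ ∈ (S : Subgroup G).map π :=
            hs ⟨π a, ⟨a, ha, rfl⟩, rfl⟩
          rw [← hny, ← map_mul, ← hπc] at h1
          have h2 : n * e * a * (n * e)⁻¹ ∈ ((S : Subgroup G).map π).comap π := h1
          rwa [Subgroup.comap_map_eq, hπ, QuotientGroup.ker_mk'] at h2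
        · have h1 : e * a * e⁻¹ ∈ N := hSN (he.cset_subset hA ⟨a, ha, rfl⟩)
          have h2 := N.mul_mem (N.mul_mem hn h1) (N.inv_mem hn)
          simpa [mul_assoc] using h2
      have hPp : IsPGroup p (Subgroup.closure (cset (n * e) A)) := by
        rw [closure_conj_image]
        exact (S.2.to_le ((Subgroup.closure_le _).mpr hA)).map _
      obtain ⟨l, ⟨hl, hlN⟩, hlP⟩ :=
        ((sylIn_top S).of_le (le_inf le_sup_left hSN) le_top).exists_conj_le hPp hPL
      obtain ⟨s, hs', k, hk, rfl⟩ := Subgroup.mem_sup_of_normal_right.mp hl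
      have hkN : k ∈ N := by
        have := N.mul_mem (N.inv_mem (hSN hs')) hlN
        rwa [inv_mul_cancel_left] at this
      refine ⟨k * n * e, he.step ⟨_, ⟨W, hW, rfl⟩, Subgroup.mem_top _, N.mul_mem hkN hn⟩ ?_, ?_⟩
      · rintro _ ⟨a, ha, rfl⟩
        have h1 := hlP ⟨_, Subgroup.subset_closure ⟨a, ha, rfl⟩, rfl⟩
        have h2 := (S : Subgroup G).mul_mem ((S : Subgroup G).mul_mem ((S : Subgroup G).inv_mem hs') h1) hs'
        show k * n * e * a * (k * n * e)⁻¹ ∈ (S : Subgroup G)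
        simpa [MulAut.conj_apply, mul_assoc] using h2
      · rw [map_mul, map_mul, hπK.mpr hk, one_mul, hny]
  obtain ⟨e, he, rfl⟩ := key c hc
  refine (fusGen_closed genSet_inv_mem _).congr A e g (fun a ha => ?_)
    (fusGen_of_chain genSet_inv_mem hA he fun y hy B hB hyB B' hB' _ => ?_)
  · refine hinj (he.cset_subset hA ⟨a, ha, rfl⟩) (hgA ⟨a, ha, rfl⟩) ?_
    rw [hπc, hπc]
    exact hce (π a) ⟨a, ha, rfl⟩
  · refine ⟨hB'.trans hB, (cset_mono hB').trans hyB, y * 1,
      ChainFrom.refl.step hy (by rw [mul_one]; exact (cset_mono hB').trans hyB), fun a _ => by rw [mul_one]⟩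

include h𝓦 in
theorem sf_step (hne : 𝓦.Nonempty) (hsub : ∀ H : Subgroup G, H ≠ ⊤ → SF 𝓦 p H)
    (hquot : ∀ (N : Subgroup G) [N.Normal], N ≠ ⊥ → SF 𝓦 p (G ⧸ N))
    (hcons : Subgroup.centralizer ((Cfsg.pCore p G : Subgroup G) : Set G) ≤ Cfsg.pCore p G → SF 𝓦 p G) :
    SF 𝓦 p G := by
  obtain ⟨W₀, hW₀⟩ := hne
  have hW₀' := isConjugacyFunctor_inducedFunctor (h𝓦 W₀ hW₀) G
  obtain ⟨S⟩ : Nonempty (Sylow p G) := inferInstance
  haveI := H1.pPrimeCore_normal' p G
  by_cases hK : Cfsg.pPrimeCore p G = ⊥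
  swap
  · exact sf_of_pPrimeCore h𝓦 S (H1.card_pPrimeCore_coprime p G) (hquot _ hK)
  set Q := Cfsg.pCore p G with hQ
  haveI hQn : Q.Normal := H1.pCore_normal' p G
  have hQS : Q ≤ (S : Subgroup G) := H1.pCore_le_sylow S
  have hQp : IsPGroup p Q := H1.isPGroup_pCore p G
  by_cases hQ0 : Q = ⊥
  · refine familyControlsStrongFusionIn_top_of_fusGen (sylIn_top S) fun A g hA hgA => ?_
    refine familyStrongFusion_of_local (sylIn_top S)
      (Cfsg.IsWellPlaced p (Cfsg.inducedFunctor W₀) (S : Subgroup G)) (wellPlaced_hext S.2)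
      (fun V hV => exists_wellPlaced hW₀' (sylIn_top S) hV) (famOf 𝓦 G)
      (famOf_isConjugacyFunctor h𝓦) (fun U hU hU0 => ?_) hA hgA
    have h1 : Subgroup.normalizer (U : Set G) ≠ ⊤ := fun e => hU0 (le_bot_iff.mp (hQ0 ▸
      (haveI := Subgroup.normalizer_eq_top_iff.mp e; H1.le_pCore (S.2.to_le hU.1))))
    have h2 := famFusion_map h𝓦 _ (Subgroup.subtype_injective _) (hsub _ h1)
    rwa [Subgroup.range_subtype] at h2
  set C := Subgroup.centralizer (Q : Set G) with hCdef
  by_cases hC : C ≤ Q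
  · exact hcons hC
  haveI hCn : C.Normal := Subgroup.normalizer_eq_top_iff.mp (top_le_iff.mp (by
    rw [← Subgroup.normalizer_eq_top (H := Q)]
    exact H75.normalizer_le_normalizer_centralizer Q))
  have hSC : SylIn p ((S : Subgroup G) ⊓ C) C := sylIn_inf_normal S C
  set M := Subgroup.normalizer (((S : Subgroup G) ⊓ C : Subgroup G) : Set G) with hM
  have hSCQ : ¬ (S : Subgroup G) ⊓ C ≤ Q := by
    intro hle
    obtain ⟨P, hP⟩ := hSC.exists_sylow
    have hcent : ∀ x ∈ (P : Subgroup C) ⊓ ⊤, ∀ c ∈ (⊤ : Subgroup C), x * c = c * x := by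
      intro x hx c _
      have h1 : (x : G) ∈ Q := hle (hP.le ⟨x, hx.1, rfl⟩)
      exact Subtype.ext (Subgroup.mem_centralizer_iff.mp c.2 x h1)
    obtain ⟨P', N, hN, hNP⟩ := hasNormalPComplement_of_central P ⊤ hcent (fun x _ => trivial)
    have hNc : (Nat.card N).Coprime p := by
      rw [← hNP.index_eq_card]
      exact ((Fact.out : p.Prime).coprime_iff_not_dvd.mpr P'.not_dvd_index).symm
    have h1 : N.map C.subtype = ⊥ := le_bot_iff.mp (hK ▸
      (Subgroup.map_mono (H1.le_pPrimeCore hNc)).trans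
        ((H1.pPrimeCore_subgroup_map_eq p C).trans_le inf_le_left))
    rw [Subgroup.map_eq_bot_iff_of_injective _ C.subtype_injective] at h1
    subst h1
    have hP' : (P' : Subgroup C) = ⊤ := by
      have := hNP.sup_eq_top
      rwa [bot_sup_eq] at this
    refine hC (H1.le_pCore (IsPGroup.of_equiv ?_ Subgroup.topEquiv))
    rw [← hP']
    exact P'.2
  have hMtop : M ≠ ⊤ := by
    intro e
    haveI := Subgroup.normalizer_eq_top_iff.mp e
    exact hSCQ (H1.le_pCore (S.2.to_le inf_le_left))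
  have hSM : (S : Subgroup G) ≤ M := by
    intro s hs
    rw [hM, mem_normalizer_iff_cj, cj_inf, cj_of_mem hs,
      mem_normalizer_iff_cj.mp (show s ∈ Subgroup.normalizer (C : Set G) by
        rw [Subgroup.normalizer_eq_top]; trivial)]
  have hCM : C ⊔ M = ⊤ := by
    obtain ⟨P, hP⟩ := hSC.exists_sylow
    rw [sup_comm, hM, ← hP]
    exact Sylow.normalizer_sup_eq_top P
  set Gen := genSet (famOf 𝓦 G) ⊤ (S : Subgroup G) with hGen
  have hclosed : FusClosed (FusGen Gen (S : Subgroup G)) := fusGen_closed genSet_inv_mem _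
  refine familyControlsStrongFusionIn_top_of_fusGen (sylIn_top S) fun A g hA hgA => ?_
  by_cases htop : (S : Subgroup G) ⊔ C = ⊤
  swap
  · have hg : g ∈ M ⊔ C := by rw [sup_comm, hCM]; trivial
    obtain ⟨n, hn, c, hc, rfl⟩ := Subgroup.mem_sup_of_normal_right.mp hg
    set L := ((S : Subgroup G) ⊔ C) ⊓ M
    have hPL : Subgroup.closure (cset c A) ≤ L := by
      rw [Subgroup.closure_le]
      rintro _ ⟨a, ha, rfl⟩
      refine ⟨?_, ?_⟩
      · exact Subgroup.mul_mem _ (Subgroup.mul_mem _ (le_sup_right (a := (S : Subgroup G)) hc)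
          (le_sup_left (b := C) (hA ha))) (Subgroup.inv_mem _ (le_sup_right (a := (S : Subgroup G)) hc))
      · have h1 := hgA ⟨a, ha, rfl⟩
        have h2 := M.mul_mem (M.mul_mem (M.inv_mem hn) (hSM h1)) hn
        simpa [mul_assoc] using h2
    have hPp : IsPGroup p (Subgroup.closure (cset c A)) := by
      rw [closure_conj_image]
      exact (S.2.to_le ((Subgroup.closure_le _).mpr hA)).map _
    obtain ⟨m, ⟨hm, hmM⟩, hmP⟩ :=
      ((sylIn_top S).of_le (le_inf le_sup_left hSM) le_top).exists_conj_le hPp hPL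
    have hmA : cset (m * c) A ⊆ (S : Subgroup G) := by
      rintro _ ⟨a, ha, rfl⟩
      have := hmP ⟨_, Subgroup.subset_closure ⟨a, ha, rfl⟩, rfl⟩
      show m * c * a * (m * c)⁻¹ ∈ (S : Subgroup G)
      simpa [MulAut.conj_apply, mul_assoc] using this
    have e : n * m⁻¹ * (m * c) = n * c := by group
    have h2 := hclosed.comp A (m * c) (n * m⁻¹)
      (fusGen_of_proper h𝓦 S le_sup_left (hsub _ htop)
        (Subgroup.mul_mem _ hm (le_sup_right (a := (S : Subgroup G)) hc)) hA hmA)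
      (fusGen_of_proper h𝓦 S hSM (hsub M hMtop) (M.mul_mem hn (M.inv_mem hmM)) hmA
        (by rw [cset_cset, e]; exact hgA))
    rwa [e] at h2
  set π := QuotientGroup.mk' Q with hπ
  have hπs : Function.Surjective π := QuotientGroup.mk'_surjective Q
  have hπQ : ∀ {x : G}, π x = 1 ↔ x ∈ Q := QuotientGroup.eq_one_iff _
  have hπc : ∀ (x a : G), π (x * a * x⁻¹) = π x * π a * (π x)⁻¹ := fun x a => by simp
  have hπS : ∀ {x : G}, π x ∈ (S : Subgroup G).map π → x ∈ (S : Subgroup G) := fun {x} hx => by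
    have h2 : x ∈ ((S : Subgroup G).map π).comap π := hx
    rwa [Subgroup.comap_map_eq, hπ, QuotientGroup.ker_mk', sup_eq_left.mpr hQS] at h2
  refine fusion_of_local S.2 hclosed.toFusBasic (fun _ g => hclosed.congr _ 1 g (by simp) (hclosed.one _))
    (fun U => U ≤ (S : Subgroup G) ∧ SylIn p ((S : Subgroup G) ⊓ Subgroup.normalizer (U : Set G))
      (Subgroup.normalizer (U : Set G))) (fun U hU => hU)
    (fun V hV => by
      obtain ⟨v, h1, h2, h3⟩ := exists_extremal_conj (sylIn_top S) hV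
      exact ⟨v, ⟨h1, h2⟩, h3⟩)
    (fun U hU _ IH x hx => ?_) A g hA hgA
  obtain ⟨hUS, hUsyl⟩ := hU
  by_cases hQU : Q ≤ U
  swap
  · have hlt : U < U ⊔ Q := lt_of_le_of_ne le_sup_left fun e => hQU (le_sup_right.trans e.ge)
    refine hclosed.mono _ _ _ (fun a ha => le_sup_left (b := Q) ha) (IH (U ⊔ Q) x (sup_le hUS hQS) ?_ ?_)
    · rw [cj_sup, mem_normalizer_iff_cj.mp hx, mem_normalizer_iff_cj.mp
        (show x ∈ Subgroup.normalizer (Q : Set G) by rw [Subgroup.normalizer_eq_top]; trivial)]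
      exact sup_le hUS hQS
    · exact lt_of_le_of_ne (Subgroup.card_le_of_le hlt.le)
        fun e => hlt.ne (Subgroup.eq_of_le_of_card_ge hlt.le e.ge)
  obtain ⟨-, -, c, hc, hce⟩ := familyControlsStrongFusionIn_any (famOf_isConjugacyFunctor h𝓦) (hquot Q hQ0)
    (sylIn_top (S.mapSurjective hπs)) (Subgroup.mem_top (π x)) (A := π '' (U : Set G))
    (by rintro _ ⟨a, ha, rfl⟩; exact ⟨a, hUS ha, rfl⟩)
    (by
      rintro _ ⟨_, ⟨a, ha, rfl⟩, rfl⟩
      exact ⟨_, hUS ((Subgroup.mem_normalizer_iff.mp hx a).mp ha), hπc x a⟩)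
    (π '' (U : Set G)) subset_rfl (Or.inl (by rintro _ ⟨a, ha, rfl⟩; exact ⟨a, hUS ha, rfl⟩))
  set Gen₁ : Set G := {y | ∃ W ∈ 𝓦, π y ∈ Subgroup.normalizer
    ((Cfsg.inducedFunctor W ((S : Subgroup G).map π) : Subgroup (G ⧸ Q)) : Set (G ⧸ Q))} with hGen₁
  have key : ∀ d, ChainFrom (genSet (famOf 𝓦 (G ⧸ Q)) ⊤ (S.mapSurjective hπs : Subgroup (G ⧸ Q)))
      (S.mapSurjective hπs : Subgroup (G ⧸ Q)) (π '' (U : Set G)) d →
      ∃ e, ChainFrom Gen₁ (S : Subgroup G) (U : Set G) e ∧ π e = d := by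
    intro d hd
    induction hd with
    | refl => exact ⟨1, .refl, map_one π⟩
    | @step d y _ hy hs ih =>
      obtain ⟨e, he, rfl⟩ := ih
      obtain ⟨_, ⟨W, hW, rfl⟩, -, hy⟩ := hy
      obtain ⟨y, rfl⟩ := hπs y
      refine ⟨y * e, he.step ⟨W, hW, hy⟩ ?_, map_mul π y e⟩
      rintro _ ⟨a, ha, rfl⟩
      refine hπS ?_
      rw [hπc, map_mul]
      exact hs ⟨π a, ⟨a, ha, rfl⟩, rfl⟩
  obtain ⟨d, hd, rfl⟩ := key c hc
  have hstep : FusGen Gen (S : Subgroup G) U d := by
    refine fusGen_of_chain genSet_inv_mem hUS hd fun y hy B hB hyB => ?_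
    obtain ⟨W, hW, hy⟩ := hy
    set H := (Subgroup.normalizer ((Cfsg.inducedFunctor W ((S : Subgroup G).map π) : Subgroup (G ⧸ Q)) :
      Set (G ⧸ Q))).comap π
    refine fusGen_of_proper h𝓦 S (Subgroup.map_le_iff_le_comap.mp
      (le_normalizer_functor (isConjugacyFunctor_inducedFunctor (h𝓦 W hW) _) (S.2.map π)))
      (hsub H fun e => ?_) hy hB hyB
    haveI : (Cfsg.inducedFunctor W ((S : Subgroup G).map π)).Normal :=
      Subgroup.normalizer_eq_top_iff.mp (by
        rw [← Subgroup.map_comap_eq_self_of_surjective hπs (Subgroup.normalizer _)]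
        show H.map π = ⊤
        rw [e, ← MonoidHom.range_eq_map]
        exact MonoidHom.range_eq_top.mpr hπs)
    have h1 : Cfsg.inducedFunctor W ((S : Subgroup G).map π) = ⊥ := le_bot_iff.mp (by
      rw [← H1.pCore_quotient_pCore p G]
      exact H1.le_pCore ((S.2.map π).to_le (inducedFunctor_le _)))
    have h2 : (S : Subgroup G).map π = ⊥ := by
      by_contra h2
      exact (isConjugacyFunctor_inducedFunctor (h𝓦 W hW) _ _ (S.2.map π)).2.1 h2 h1
    rw [Subgroup.map_eq_bot_iff, QuotientGroup.ker_mk'] at h2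
    exact hSCQ (inf_le_left.trans h2)
  have hdN : d ∈ Subgroup.normalizer (U : Set G) := by
    rw [mem_normalizer_iff_cj]
    refine Subgroup.eq_of_le_of_card_ge ?_ (card_cj d U).ge
    rintro _ ⟨u, hu, rfl⟩
    show d * u * d⁻¹ ∈ U
    have h1 : π (d * u * d⁻¹) = π (x * u * x⁻¹) := by
      rw [hπc, hπc]
      exact hce (π u) ⟨u, hu, rfl⟩
    have h2 : (x * u * x⁻¹)⁻¹ * (d * u * d⁻¹) ∈ Q :=
      hπQ.mp (by rw [map_mul, map_inv, h1, inv_mul_cancel])
    have := U.mul_mem ((Subgroup.mem_normalizer_iff.mp hx u).mp hu) (hQU h2)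
    rwa [mul_inv_cancel_left] at this
  set D := Subgroup.normalizer (U : Set G) ⊓ factorCentralizer U Q with hDdef
  have hDn : Subgroup.normalizer (U : Set G) ≤ Subgroup.normalizer (D : Set G) := by
    refine H75.le_normalizer_of_conj fun k hk b hb => ⟨?_, fun u hu => ?_⟩
    · exact Subgroup.mul_mem _ (Subgroup.mul_mem _ hk hb.1) (Subgroup.inv_mem _ hk)
    · have hu' : k⁻¹ * u * k ∈ U := (Subgroup.mem_normalizer_iff''.mp hk u).mp hu
      rw [show ⁅u, k * b * k⁻¹⁆ = k * ⁅k⁻¹ * u * k, b⁆ * k⁻¹ by simp only [commutatorElement_def]; group]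
      exact hQn.conj_mem _ (hb.2 _ hu') k
  have heD : d⁻¹ * x ∈ D := by
    refine ⟨Subgroup.mul_mem _ (Subgroup.inv_mem _ hdN) hx, fun u hu => ?_⟩
    rw [← hπQ, map_commutatorElement, commutatorElement_eq_one_iff_mul_comm]
    have h1 : π d * π u * (π d)⁻¹ = π x * π u * (π x)⁻¹ := hce (π u) ⟨u, hu, rfl⟩
    calc π u * π (d⁻¹ * x) = (π d)⁻¹ * (π d * π u * (π d)⁻¹) * π x := by rw [map_mul, map_inv]; group
      _ = (π d)⁻¹ * (π x * π u * (π x)⁻¹) * π x := by rw [h1]
      _ = π (d⁻¹ * x) * π u := by rw [map_mul, map_inv]; group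
  have hRD : SylIn p (((S : Subgroup G) ⊓ Subgroup.normalizer (U : Set G)) ⊓ D) D :=
    sylIn_inf_of_normalized hUsyl inf_le_left hDn
  haveI hCUn : ((Subgroup.centralizer (U : Set G)).subgroupOf D).Normal := by
    refine ⟨fun a ha k => ?_⟩
    exact (Subgroup.mem_normalizer_iff.mp (H75.normalizer_le_normalizer_centralizer U k.2.1) _).mp ha
  obtain ⟨P, hP⟩ := hRD.exists_sylow
  have hpprime : ∀ z : D, (orderOf z).Coprime p → z ∈ (Subgroup.centralizer (U : Set G)).subgroupOf D := by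
    intro z hz
    have hz' : (orderOf (z : G)).Coprime p := by rwa [Subgroup.orderOf_coe]
    have hzC : (z : G) ∈ C := by
      have h1 : IsPGroup p ((S : Subgroup G).map (QuotientGroup.mk' C)) := S.2.map _
      have h2 : (S : Subgroup G).map (QuotientGroup.mk' C) = ⊤ := by
        have h3 := congrArg (Subgroup.map (QuotientGroup.mk' C)) htop
        rwa [Subgroup.map_sup, show C.map (QuotientGroup.mk' C) = ⊥ from
          (Subgroup.map_eq_bot_iff C).mpr (by rw [QuotientGroup.ker_mk']), sup_bot_eq,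
          ← MonoidHom.range_eq_map, MonoidHom.range_eq_top.mpr (QuotientGroup.mk'_surjective C)] at h3
      rw [h2] at h1
      refine (QuotientGroup.eq_one_iff (z : G)).mp (H75.eq_one_of_mem_of_coprime h1
        (Subgroup.mem_top ((z : G) : G ⧸ C)) ?_)
      exact hz'.coprime_dvd_left (orderOf_map_dvd (QuotientGroup.mk' C) (z : G))
    show (z : G) ∈ Subgroup.centralizer (U : Set G)
    rw [Subgroup.mem_centralizer_iff]
    intro u hu
    refine (H75.commute_of_stabilize (A := U) (B := Q) hQp hz' (fun a ha => ?_) (fun q hq => ?_) u hu).symm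
    · rw [← commutatorElement_inv]
      exact Q.inv_mem (z.2.2 a ha)
    · exact (Subgroup.mem_centralizer_iff.mp hzC q hq).symm
  have hz : (⟨d⁻¹ * x, heD⟩ : D) ∈ (P : Subgroup D) ⊔ (Subgroup.centralizer (U : Set G)).subgroupOf D := by
    rw [eq_top_of_sylow_le_of_pPrime_mem P le_sup_left (fun w hw => le_sup_right (a := (P : Subgroup D))
      (hpprime w hw))]
    trivial
  obtain ⟨y, hy, z, hz, hyz⟩ := Subgroup.mem_sup_of_normal_right.mp hz
  have hyS : (y : G) ∈ (S : Subgroup G) := (hP.le ⟨y, hy, rfl⟩).1.1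
  have hagree : ∀ u ∈ (U : Set G), (y : G) * u * (y : G)⁻¹ = (d⁻¹ * x) * u * (d⁻¹ * x)⁻¹ := by
    intro u hu
    have e := congrArg Subtype.val hyz
    simp only [Subgroup.coe_mul] at e
    rw [← e]
    have hzc : u * (z : G) = (z : G) * u := Subgroup.mem_centralizer_iff.mp hz u hu
    calc (y : G) * u * (y : G)⁻¹ = (y : G) * (u * z) * (z : G)⁻¹ * (y : G)⁻¹ := by group
      _ = (y : G) * (z * u) * (z : G)⁻¹ * (y : G)⁻¹ := by rw [hzc]
      _ = (y : G) * z * u * ((y : G) * z)⁻¹ := by group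
  have he : FusGen Gen (S : Subgroup G) U (d⁻¹ * x) := by
    refine hclosed.congr _ (y : G) _ hagree fun B hB _ => ?_
    have hyB : cset (y : G) B ⊆ (S : Subgroup G) := by
      rintro _ ⟨b, hb, rfl⟩
      exact Subgroup.mul_mem _ (Subgroup.mul_mem _ hyS (hUS (hB hb))) (Subgroup.inv_mem _ hyS)
    refine ⟨hB.trans hUS, hyB, (y : G) * 1, ChainFrom.refl.step ⟨_, ⟨W₀, hW₀, rfl⟩, Subgroup.mem_top _,
      le_normalizer_functor hW₀' S.2 hyS⟩ (by rw [mul_one]; exact hyB), fun a _ => by rw [mul_one]⟩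
  have hU' : cset (d⁻¹ * x) (U : Set G) = U := by
    rw [cset_subgroup, mem_normalizer_iff_cj.mp heD.1]
  have h2 := hclosed.comp (U : Set G) (d⁻¹ * x) d he (by rw [hU']; exact hstep)
  rwa [mul_inv_cancel_left] at h2

include h𝓦 in
/-- Control of strong fusion in all sections of `G`, from the constrained ones. -/
theorem sf_of_sections (hne : 𝓦.Nonempty)
    (hcons : ∀ (X : Type u) [Group X] [Finite X], IsSectionOf X G →
      Subgroup.centralizer ((Cfsg.pCore p X : Subgroup X) : Set X) ≤ Cfsg.pCore p X → SF 𝓦 p X) :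
    ∀ (X : Type u) [Group X] [Finite X], IsSectionOf X G → SF 𝓦 p X := by
  suffices key : ∀ n, ∀ (X : Type u) [Group X] [Finite X], Nat.card X = n → IsSectionOf X G →
      SF 𝓦 p X from fun X _ _ hX => key _ X rfl hX
  intro n
  induction n using Nat.strong_induction_on with
  | _ n ih =>
  intro X _ _ hn hX
  refine sf_step h𝓦 hne (fun H hH => ?_) (fun N _ hN => ?_) (hcons X hX)
  · exact ih _ (hn ▸ lt_of_le_of_ne (Subgroup.card_le_card_group H)
      (fun e => hH (Subgroup.eq_top_of_card_eq H e))) _ rfl (hX.subgroup H)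
  · refine ih _ ?_ _ rfl (hX.quotient N)
    rw [← hn, Subgroup.card_eq_card_quotient_mul_card_subgroup N]
    exact lt_mul_of_one_lt_right Nat.card_pos (Subgroup.one_lt_card_iff_ne_bot _ |>.mpr hN)

end H73
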