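import Cfsg.Agent.H73.StrongFusionCriteria
import Cfsg.Agent.H73.PComplement
import Cfsg.Agent.H73.CentralFunctor
import Cfsg.Agent.H5.Frobenius
import Cfsg.Agent.H11.PStable
import Cfsg.Prelude.Def_TwoFusion
import Cfsg.Prelude.Def_PLocal

/-!
Factorizations in the constrained sections: the elementary abelian strongly closed subgroup (helper73).
-/

set_option autoImplicit false

namespace H73

open Subgroup
open scoped commutatorElement

universe u

variable {p : ℕ} [Fact p.Prime]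

/-- Modulo the `p'`-core the centralizer of a normal `p`-subgroup whose Sylow is central is a `p`-group. -/
theorem isPGroup_map_centralizer_of_central {Y : Type u} [Group Y] [Finite Y]
    [(Cfsg.pPrimeCore p Y).Normal] (Q : Subgroup Y) [Q.Normal] (T : Sylow p Y)
    (hTQ : (T : Subgroup Y) ⊓ Subgroup.centralizer (Q : Set Y) ≤ Q) :
    IsPGroup p ((Subgroup.centralizer (Q : Set Y)).map (QuotientGroup.mk' (Cfsg.pPrimeCore p Y))) := by
  set C := Subgroup.centralizer (Q : Set Y) with hC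
  haveI : C.Normal := inferInstance
  have hT : SylIn p ((T : Subgroup Y) ⊓ C) C :=
    sylIn_centralizer T.2 (by
      rw [Subgroup.normalizer_eq_top, inf_top_eq]
      exact sylIn_top T)
  obtain ⟨P, hP⟩ := hT.exists_sylow
  have hnpc : Cfsg.HasNormalPComplement p C := by
    refine H5.hasNormalPComplement_of_fusion P fun x hx g _ => ⟨1, P.1.one_mem, ?_⟩
    have hxQ : (x : Y) ∈ Q := hTQ (hP.le ⟨x, hx, rfl⟩)
    have h1 := Subgroup.mem_centralizer_iff.mp g.2 _ hxQ
    refine Subtype.ext ?_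
    show (1 : Y) * x * 1⁻¹ = g * x * (g : Y)⁻¹
    rw [← h1]
    group
  set R := (Cfsg.pResidual p C).map C.subtype with hR
  haveI : R.Normal := H1.map_subtype_normal_of_characteristic C _
  have hRle : R ≤ Cfsg.pPrimeCore p Y := H1.le_pPrimeCore (by
    rw [hR, Subgroup.card_map_of_injective C.subtype_injective, Nat.coprime_comm,
      (Fact.out : p.Prime).coprime_iff_not_dvd]
    exact H5.hasNormalPComplement_iff_not_dvd.mp hnpc)
  rintro ⟨_, c, hc, rfl⟩
  obtain ⟨j, hj⟩ := H5.isPGroup_quotient_pResidual (p := p) (G := C) (QuotientGroup.mk ⟨c, hc⟩)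
  rw [← QuotientGroup.mk_pow, QuotientGroup.eq_one_iff] at hj
  refine ⟨j, Subtype.ext ?_⟩
  rw [SubgroupClass.coe_pow, OneMemClass.coe_one, ← map_pow]
  exact (QuotientGroup.eq_one_iff _).mpr (hRle ⟨_, hj, by simp⟩)

variable {G : Type u} [Group G] [Finite G] {W : ∀ (Q : Type u) [Group Q], Subgroup Q}

/-- The factorization `X = C(Z) N(W(T))` in the constrained sections. -/
def CenterFactor (p : ℕ) (G : Type u) [Group G] (W : ∀ (Q : Type u) [Group Q], Subgroup Q) : Prop :=
  ∀ (X : Type u) [Group X] [Finite X], IsSectionOf X G →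
    Subgroup.centralizer ((Cfsg.pCore p X : Subgroup X) : Set X) ≤ Cfsg.pCore p X →
    ∀ (T : Sylow p X) (Z : Subgroup X), Z ≤ (T : Subgroup X) → (∀ z ∈ Z, z ^ p = 1) →
      (T : Subgroup X) ≤ Subgroup.centralizer (Z : Set X) → ∀ x : X,
      ∃ a ∈ Subgroup.centralizer (Z : Set X),
      ∃ b ∈ Subgroup.normalizer ((Cfsg.inducedFunctor W (T : Subgroup X) : Subgroup X) : Set X), x = a * b

/-- The same factorization in every subgroup with `Z` in its core. -/
theorem factor_of_centerFactor (hW : Cfsg.IsCharPFunctor.{u} p W) (hfac : CenterFactor p G W) :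
    ∀ (Y : Type u) [Group Y] [Finite Y], IsSectionOf Y G → ∀ (T : Sylow p Y) (Z : Subgroup Y),
      Z ≤ Cfsg.pCore p Y → (∀ z ∈ Z, z ^ p = 1) → (T : Subgroup Y) ≤ Subgroup.centralizer (Z : Set Y) →
      ∀ x : Y, ∃ a ∈ Subgroup.centralizer (Z : Set Y),
        ∃ b ∈ Subgroup.normalizer ((Cfsg.inducedFunctor W (T : Subgroup Y) : Subgroup Y) : Set Y),
          x = a * b := by
  suffices key : ∀ n, ∀ (Y : Type u) [Group Y] [Finite Y], Nat.card Y = n → IsSectionOf Y G →
      ∀ (T : Sylow p Y) (Z : Subgroup Y), Z ≤ Cfsg.pCore p Y → (∀ z ∈ Z, z ^ p = 1) →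
      (T : Subgroup Y) ≤ Subgroup.centralizer (Z : Set Y) →
      ∀ x : Y, ∃ a ∈ Subgroup.centralizer (Z : Set Y),
        ∃ b ∈ Subgroup.normalizer ((Cfsg.inducedFunctor W (T : Subgroup Y) : Subgroup Y) : Set Y),
          x = a * b from
    fun Y _ _ hY => key _ Y rfl hY
  intro n
  induction n using Nat.strong_induction_on with
  | _ n ih =>
  intro Y _ _ hn hY T Z hZQ hZp hTZ
  set Q := Cfsg.pCore p Y with hQ
  haveI hQn : Q.Normal := H1.pCore_normal' p Y
  have hQp : IsPGroup p Q := H1.isPGroup_pCore p Y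
  have hQT : Q ≤ (T : Subgroup Y) := H1.pCore_le_sylow T
  set C := Subgroup.centralizer (Q : Set Y) with hC
  haveI : C.Normal := inferInstance
  have hCZ : C ≤ Subgroup.centralizer (Z : Set Y) := Subgroup.centralizer_le hZQ
  have hT : SylIn p ((T : Subgroup Y) ⊓ C) C :=
    sylIn_centralizer T.2 (by
      rw [Subgroup.normalizer_eq_top, inf_top_eq]
      exact sylIn_top T)
  set Q' := Q ⊔ ((T : Subgroup Y) ⊓ C) with hQ'
  have hQ'T : Q' ≤ (T : Subgroup Y) := sup_le hQT inf_le_left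
  set M := Subgroup.normalizer (Q' : Set Y) with hM
  have hTM : (T : Subgroup Y) ≤ M := fun t ht => by
    rw [hM, mem_normalizer_iff_cj, hQ', cj_sup, cj_inf, cj_of_mem ht, hC, cj_centralizer,
      mem_normalizer_iff_cj.mp (show t ∈ Subgroup.normalizer (Q : Set Y) by
        rw [Subgroup.normalizer_eq_top]; trivial)]
  intro x
  by_cases hMtop : M = ⊤
  · -- `Q' = Q`: constrained modulo the core
    haveI : Q'.Normal := Subgroup.normalizer_eq_top_iff.mp hMtop
    have hTQ : (T : Subgroup Y) ⊓ C ≤ Q :=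
      le_sup_right.trans (H1.le_pCore (T.2.to_le hQ'T) : Q' ≤ Q)
    haveI := H1.pPrimeCore_normal' p Y
    set K := Cfsg.pPrimeCore p Y with hK
    have hKc : (Nat.card K).Coprime p := H1.card_pPrimeCore_coprime p Y
    set π := QuotientGroup.mk' K with hπ
    have hπs : Function.Surjective π := QuotientGroup.mk'_surjective K
    have hdisj : ∀ P : Subgroup Y, IsPGroup p P → ∀ v ∈ P, π v = 1 → v = 1 := fun P hP v hv h1 =>
      H11.eq_one_of_map_eq_one π (by rw [hπ, QuotientGroup.ker_mk']; exact hKc) hP hv h1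
    have hcent : ∀ {S : Subgroup Y}, S ≤ Q → ∀ c : Y,
        π c ∈ Subgroup.centralizer ((S.map π : Subgroup (Y ⧸ K)) : Set (Y ⧸ K)) →
        c ∈ Subgroup.centralizer (S : Set Y) := by
      intro S hS c hc
      rw [Subgroup.mem_centralizer_iff]
      intro s hs
      rw [← commutatorElement_eq_one_iff_mul_comm]
      refine hdisj Q hQp _ (Subgroup.commutator_le_left Q ⊤
        (Subgroup.commutator_mem_commutator (hS hs) (Subgroup.mem_top c))) ?_
      rw [map_commutatorElement, commutatorElement_eq_one_iff_mul_comm]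
      exact Subgroup.mem_centralizer_iff.mp hc (π s) ⟨s, hs, rfl⟩
    have hcon : Subgroup.centralizer ((Cfsg.pCore p (Y ⧸ K) : Subgroup (Y ⧸ K)) : Set (Y ⧸ K)) ≤
        Cfsg.pCore p (Y ⧸ K) := by
      intro y hy
      obtain ⟨c, rfl⟩ := hπs y
      haveI : (C.map π).Normal := Subgroup.Normal.map inferInstance π hπs
      exact H1.le_pCore (isPGroup_map_centralizer_of_central Q T hTQ)
        ⟨c, hcent le_rfl c (Subgroup.centralizer_le (H1.map_pCore_le_of_surjective p π hπs) hy), rfl⟩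
    obtain ⟨a', ha', b', hb', he⟩ := hfac (Y ⧸ K) (hY.quotient K) hcon (T.mapSurjective hπs) (Z.map π)
      (by rw [Sylow.coe_mapSurjective]; exact Subgroup.map_mono (hZQ.trans hQT))
      (by rintro _ ⟨z, hz, rfl⟩; rw [← map_pow, hZp z hz, map_one])
      (by
        rw [Sylow.coe_mapSurjective]
        rintro _ ⟨t, ht, rfl⟩
        rw [Subgroup.mem_centralizer_iff]
        rintro _ ⟨z, hz, rfl⟩
        rw [← map_mul, ← map_mul, Subgroup.mem_centralizer_iff.mp (hTZ ht) z hz])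
      (π x)
    rw [Sylow.coe_mapSurjective, ← map_inducedFunctor_of_disjoint hW π T.2
      (eq_bot_iff.mpr fun v hv => Subgroup.mem_bot.mpr (hdisj _ T.2 v hv.1 hv.2)),
      ← H11.map_normalizer_eq π hπs (by rw [hπ, QuotientGroup.ker_mk']; exact hKc) _
        (T.2.to_le (inducedFunctor_le _))] at hb'
    obtain ⟨b, hb, rfl⟩ := hb'
    refine ⟨x * b⁻¹, hcent hZQ _ ?_, b, hb, (inv_mul_cancel_right x b).symm⟩
    rw [map_mul, map_inv, he, mul_inv_cancel_right]
    exact ha'
  · -- Frattini argument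
    have hlt : Nat.card M < n := hn ▸ lt_of_le_of_ne (Subgroup.card_le_card_group M)
      fun e => hMtop (Subgroup.eq_top_of_card_eq M e)
    have hxC : cj x C = C := mem_normalizer_iff_cj.mp (by rw [Subgroup.normalizer_eq_top]; trivial)
    have h1 := hT.cj x
    rw [hxC] at h1
    obtain ⟨c, hc, hcT⟩ := h1.exists_conj hT
    have hcxM : c * x ∈ M := by
      rw [hM, mem_normalizer_iff_cj, hQ', cj_sup, ← cj_cj, ← cj_cj, hcT,
        mem_normalizer_iff_cj.mp (show x ∈ Subgroup.normalizer (Q : Set Y) by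
          rw [Subgroup.normalizer_eq_top]; trivial),
        mem_normalizer_iff_cj.mp (show c ∈ Subgroup.normalizer (Q : Set Y) by
          rw [Subgroup.normalizer_eq_top]; trivial)]
    have hQ'M : (Q'.subgroupOf M).Normal := Subgroup.normal_subgroupOf_of_le_normalizer le_rfl
    obtain ⟨a, ha, b, hb, he⟩ := ih _ hlt M rfl (hY.subgroup M) (T.subtype hTM) (Z.subgroupOf M)
      (le_trans (fun z hz => (le_sup_left : Q ≤ Q') (hZQ hz) : Z.subgroupOf M ≤ Q'.subgroupOf M)
        (H1.le_pCore (N := Q'.subgroupOf M) ((T.2.to_le hQ'T).comap_of_injective _ M.subtype_injective)))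
      (fun z hz => Subtype.ext (by rw [SubgroupClass.coe_pow, OneMemClass.coe_one]; exact hZp z hz))
      (by
        intro t ht
        rw [Subgroup.mem_centralizer_iff]
        intro z hz
        exact Subtype.ext (Subgroup.mem_centralizer_iff.mp (hTZ ht) z hz))
      ⟨c * x, hcxM⟩
    refine ⟨c⁻¹ * a, Subgroup.mul_mem _ (Subgroup.inv_mem _ (hCZ hc)) ?_, b, ?_, ?_⟩
    · rw [Subgroup.mem_centralizer_iff]
      intro z hz
      have hzM : z ∈ M := (hQT.trans hTM) (hZQ hz)
      exact congrArg Subtype.val (Subgroup.mem_centralizer_iff.mp ha ⟨z, hzM⟩ hz)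
    · have h2 := Subgroup.le_normalizer_map M.subtype ⟨b, hb, rfl⟩
      rwa [map_inducedFunctor hW M.subtype M.subtype_injective (T.subtype hTM).2, Sylow.coe_subtype,
        Subgroup.map_subgroupOf_eq_of_le hTM] at h2
    · have h3 : c * x = (a : Y) * b := congrArg Subtype.val he
      rw [mul_assoc, ← h3, inv_mul_cancel_left]

/-- The orbit of `Z` under a subgroup with `Z` in its core. -/
theorem exists_normalizer_agree (hW : Cfsg.IsCharPFunctor.{u} p W) (hfac : CenterFactor p G W)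
    (S : Sylow p G) {Z : Subgroup G} (hZp : ∀ z ∈ Z, z ^ p = 1)
    (hSZ : (S : Subgroup G) ≤ Subgroup.centralizer (Z : Set G)) (H : Subgroup G)
    (hSH : (S : Subgroup G) ≤ H) {U : Subgroup G} (hUS : U ≤ (S : Subgroup G))
    (hHU : H ≤ Subgroup.normalizer (U : Set G)) (hZU : Z ≤ U) {n : G} (hn : n ∈ H) :
    ∃ m ∈ Subgroup.normalizer ((Cfsg.inducedFunctor W (S : Subgroup G) : Subgroup G) : Set G),
      ∀ z ∈ Z, n * z * n⁻¹ = m * z * m⁻¹ := by
  have hUH : U ≤ H := hUS.trans hSH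
  haveI : (U.subgroupOf H).Normal := Subgroup.normal_subgroupOf_of_le_normalizer hHU
  obtain ⟨a, ha, b, hb, he⟩ := factor_of_centerFactor hW hfac H ((IsSectionOf.refl G).subgroup H)
    (S.subtype hSH) (Z.subgroupOf H)
    (le_trans (fun z hz => hZU hz : Z.subgroupOf H ≤ U.subgroupOf H)
      (H1.le_pCore (N := U.subgroupOf H) ((S.2.to_le hUS).comap_of_injective _ H.subtype_injective)))
    (fun z hz => Subtype.ext (by rw [SubgroupClass.coe_pow, OneMemClass.coe_one]; exact hZp z hz))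
    (by
      intro t ht
      rw [Subgroup.mem_centralizer_iff]
      intro z hz
      exact Subtype.ext (Subgroup.mem_centralizer_iff.mp (hSZ ht) z hz))
    ⟨n, hn⟩⁻¹
  have hbN := Subgroup.le_normalizer_map H.subtype ⟨b, hb, rfl⟩
  rw [map_inducedFunctor hW H.subtype H.subtype_injective (S.subtype hSH).2, Sylow.coe_subtype,
    Subgroup.map_subgroupOf_eq_of_le hSH] at hbN
  refine ⟨(b : G)⁻¹, Subgroup.inv_mem _ hbN, fun z hz => ?_⟩
  have h3 : n⁻¹ = (a : G) * b := congrArg Subtype.val he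
  have hzH : z ∈ H := hUH (hZU hz)
  have hac : z * (a : G) = (a : G) * z :=
    congrArg Subtype.val (Subgroup.mem_centralizer_iff.mp ha ⟨z, hzH⟩ hz)
  have h4 : n = (b : G)⁻¹ * (a : G)⁻¹ := by rw [← mul_inv_rev, ← h3, inv_inv]
  rw [h4]
  calc (b : G)⁻¹ * (a : G)⁻¹ * z * ((b : G)⁻¹ * (a : G)⁻¹)⁻¹ =
        (b : G)⁻¹ * ((a : G)⁻¹ * (z * a)) * b := by group
    _ = (b : G)⁻¹ * z * (b : G)⁻¹⁻¹ := by rw [hac]; group

/-- A triple factorization gives an elementary abelian strongly closed subgroup controlling fusion. -/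
theorem triple_factor {W₁ W₂ : ∀ (Q : Type u) [Group Q], Subgroup Q}
    (hW₁ : Cfsg.IsCharPFunctor.{u} p W₁) (hW₂ : Cfsg.IsCharPFunctor.{u} p W₂)
    (h₁ : CenterFactor p G W₁) (h₂ : CenterFactor p G W₂)
    (h12 : ∀ (X : Type u) [Group X] [Finite X], IsSectionOf X G →
      Subgroup.centralizer ((Cfsg.pCore p X : Subgroup X) : Set X) ≤ Cfsg.pCore p X →
      ∀ (T : Sylow p X) (x : X),
      ∃ a ∈ Subgroup.normalizer ((Cfsg.inducedFunctor W₁ (T : Subgroup X) : Subgroup X) : Set X),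
      ∃ b ∈ Subgroup.normalizer ((Cfsg.inducedFunctor W₂ (T : Subgroup X) : Subgroup X) : Set X),
        x = a * b)
    (S : Sylow p G) (Z : Subgroup G) (hZp : ∀ z ∈ Z, z ^ p = 1)
    (hZ : Z ≤ Cfsg.inducedFunctor W₁ (S : Subgroup G) ⊓ Cfsg.inducedFunctor W₂ (S : Subgroup G))
    (hSZ : (S : Subgroup G) ≤ Subgroup.centralizer (Z : Set G)) (A : Subgroup G)
    (hA : A = Subgroup.closure {x | ∃ n ∈ Subgroup.normalizer
      ((Cfsg.inducedFunctor W₁ (S : Subgroup G) : Subgroup G) : Set G), ∃ z ∈ Z, x = n * z * n⁻¹}) :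
    A ≤ (S : Subgroup G) ∧ Cfsg.IsElementaryAbelian p A ∧ Cfsg.IsStronglyClosed A (S : Subgroup G) ∧
      Cfsg.ControlsStrongFusion p A := by
  set U₁ := Cfsg.inducedFunctor W₁ (S : Subgroup G) with hU₁
  set U₂ := Cfsg.inducedFunctor W₂ (S : Subgroup G) with hU₂
  set N₁ := Subgroup.normalizer (U₁ : Set G) with hN₁
  set N₂ := Subgroup.normalizer (U₂ : Set G) with hN₂
  have hU₁S : U₁ ≤ (S : Subgroup G) := inducedFunctor_le _
  have hU₂S : U₂ ≤ (S : Subgroup G) := inducedFunctor_le _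
  have hS₁ : (S : Subgroup G) ≤ N₁ :=
    le_normalizer_functor (isConjugacyFunctor_inducedFunctor hW₁ G) S.2
  have hS₂ : (S : Subgroup G) ≤ N₂ :=
    le_normalizer_functor (isConjugacyFunctor_inducedFunctor hW₂ G) S.2
  set Gen := {x | ∃ n ∈ N₁, ∃ z ∈ Z, x = n * z * n⁻¹} with hGen
  have hgenU : Gen ⊆ U₁ := by
    rintro _ ⟨n, hn, z, hz, rfl⟩
    exact (Subgroup.mem_normalizer_iff.mp hn z).mp (hZ hz).1
  have hAU : A ≤ U₁ := hA ▸ (Subgroup.closure_le _).mpr hgenU
  have hAS : A ≤ (S : Subgroup G) := hAU.trans hU₁S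
  have hgenA : Gen ⊆ A := hA ▸ Subgroup.subset_closure
  have hcomm : ∀ a ∈ Gen, ∀ b ∈ Gen, a * b = b * a := by
    rintro _ ⟨n, hn, z, hz, rfl⟩ _ ⟨m, hm, w, hw, rfl⟩
    have hmem : m⁻¹ * (n * z * n⁻¹) * m ∈ (S : Subgroup G) := by
      refine hU₁S ?_
      have h := (Subgroup.mem_normalizer_iff.mp (N₁.mul_mem (N₁.inv_mem hm) hn) z).mp (hZ hz).1
      simpa [mul_assoc] using h
    have h1 := Subgroup.mem_centralizer_iff.mp (hSZ hmem) w hw
    calc n * z * n⁻¹ * (m * w * m⁻¹) = m * (m⁻¹ * (n * z * n⁻¹) * m * w) * m⁻¹ := by group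
      _ = m * (w * (m⁻¹ * (n * z * n⁻¹) * m)) * m⁻¹ := by rw [h1]
      _ = m * w * m⁻¹ * (n * z * n⁻¹) := by group
  have hel : Cfsg.IsElementaryAbelian p A := by
    have hab : IsMulCommutative A := by
      rw [hA]
      exact Subgroup.isMulCommutative_closure hcomm
    refine ⟨hab, fun a ha => ?_⟩
    rw [hA] at ha
    induction ha using Subgroup.closure_induction with
    | mem x hx =>
      obtain ⟨n, -, z, hz, rfl⟩ := hx
      rw [conj_pow, hZp z hz, mul_one, mul_inv_cancel]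
    | one => exact one_pow p
    | mul x y hx hy ihx ihy =>
      have hc : Commute x y :=
        congrArg Subtype.val (hab.is_comm.comm (⟨x, hA ▸ hx⟩ : A) ⟨y, hA ▸ hy⟩)
      rw [hc.mul_pow, ihx, ihy, one_mul]
    | inv x _ ihx => rw [inv_pow, ihx, inv_one]
  have hN1A : ∀ g ∈ N₁, ∀ a ∈ A, g * a * g⁻¹ ∈ A := by
    intro g hg a ha
    rw [hA] at ha
    have h : Subgroup.closure Gen ≤ A.comap (MulAut.conj g).toMonoidHom := by
      rw [Subgroup.closure_le]
      rintro _ ⟨n, hn, z, hz, rfl⟩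
      show g * (n * z * n⁻¹) * g⁻¹ ∈ A
      exact hgenA ⟨g * n, N₁.mul_mem hg hn, z, hz, by group⟩
    exact h ha
  -- the second orbit
  set A' := Subgroup.closure {x | ∃ n ∈ N₂, ∃ z ∈ Z, x = n * z * n⁻¹} with hA'
  have hA'A : A' ≤ A := by
    rw [hA', Subgroup.closure_le]
    rintro _ ⟨n, hn, z, hz, rfl⟩
    obtain ⟨m, hm, he⟩ := exists_normalizer_agree hW₁ h₁ S hZp hSZ N₂ hS₂ hU₂S le_rfl
      (hZ.trans inf_le_right) hn
    exact hgenA ⟨m, hm, z, hz, he z hz⟩
  have hAA' : A ≤ A' := by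
    rw [hA, Subgroup.closure_le]
    rintro _ ⟨n, hn, z, hz, rfl⟩
    obtain ⟨m, hm, he⟩ := exists_normalizer_agree hW₂ h₂ S hZp hSZ N₁ hS₁ hU₁S le_rfl
      (hZ.trans inf_le_left) hn
    exact Subgroup.subset_closure ⟨m, hm, z, hz, he z hz⟩
  have hN2A : ∀ g ∈ N₂, ∀ a ∈ A, g * a * g⁻¹ ∈ A := by
    intro g hg a ha
    have h : A' ≤ A.comap (MulAut.conj g).toMonoidHom := by
      rw [hA', Subgroup.closure_le]
      rintro _ ⟨n, hn, z, hz, rfl⟩
      show g * (n * z * n⁻¹) * g⁻¹ ∈ A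
      exact hA'A (Subgroup.subset_closure ⟨g * n, N₂.mul_mem hg hn, z, hz, by group⟩)
    exact h (hAA' ha)
  have hnorm : ∀ N : Subgroup G, (∀ g ∈ N, ∀ a ∈ A, g * a * g⁻¹ ∈ A) →
      N ≤ Subgroup.normalizer (A : Set G) := fun N h => H79.le_normalizer_of_conj_mem h
  -- fusion
  have h𝓦 : ∀ W ∈ ({W₁, W₂} : Set (∀ (Q : Type u) [Group Q], Subgroup Q)),
      Cfsg.IsCharPFunctor.{u} p W := by
    rintro W (rfl | rfl)
    exacts [hW₁, hW₂]
  have hsf := sf_of_sections (G := G) h𝓦 ⟨W₁, Or.inl rfl⟩ (fun X _ _ hX hc => by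
    obtain ⟨T⟩ : Nonempty (Sylow p X) := inferInstance
    exact sf_of_product h𝓦 (Or.inl rfl) (Or.inr rfl) T (h12 X hX hc T)) G (IsSectionOf.refl G)
  have hfus : ∀ (B : Set G) (g : G), B ⊆ (S : Subgroup G) → cset g B ⊆ (S : Subgroup G) →
      FusBy (Subgroup.normalizer (A : Set G)) B g := by
    intro B g hB hgB
    obtain ⟨-, -, c, hc, hce⟩ := familyControlsStrongFusionIn_any
      (famOf_isConjugacyFunctor h𝓦) hsf (sylIn_top S) (Subgroup.mem_top g) hB hgB B subset_rfl
        (Or.inl hB)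
    refine ⟨c, ?_, hce⟩
    clear hce
    induction hc with
    | refl => exact Subgroup.one_mem _
    | @step d y hd hy hs ih =>
      obtain ⟨_, ⟨W, hW, rfl⟩, -, hy⟩ := hy
      refine Subgroup.mul_mem _ ?_ ih
      rcases hW with rfl | rfl
      · exact hnorm _ hN1A hy
      · exact hnorm _ hN2A hy
  refine ⟨hAS, hel, ⟨hAS, fun x hx g hg => ?_⟩, S, hAS, fun B hB => ⟨hB, fun g hgB => ?_⟩⟩
  · obtain ⟨n, hn, he⟩ := hfus {x} g (Set.singleton_subset_iff.mpr (hAS hx)) (by
      rw [cset, Set.image_singleton]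
      exact Set.singleton_subset_iff.mpr hg)
    rw [← he x rfl]
    exact (Subgroup.mem_normalizer_iff.mp hn x).mp hx
  · obtain ⟨n, hn, he⟩ := hfus B g hB hgB
    exact ⟨n, hn, fun a ha => (he a ha).symm⟩

end H73
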