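import Cfsg.Agent.H37.Sylow
import Cfsg.Agent.H29.FrattiniBasis

/-!
A subgroup of the unitriangular group of degree `n` over the prime field is generated by at most
`n²/4` elements (leading positions not composable from others form a triangle-free graph); helper73.
-/

set_option autoImplicit false

namespace H73.Unip

open Subgroup Finset

/-- Mantel's bound for transitively triangle-free sets of increasing pairs. -/
theorem card_le_of_no_triangle {n : ℕ} : ∀ (m : ℕ) (V : Finset (Fin n)), V.card ≤ m →
    ∀ E : Finset (Fin n × Fin n), (∀ e ∈ E, e.1 < e.2 ∧ e.1 ∈ V ∧ e.2 ∈ V) →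
      (∀ i j l, (i, j) ∈ E → (j, l) ∈ E → (i, l) ∉ E) → 4 * E.card ≤ m * m := by
  classical
  intro m
  induction m using Nat.strong_induction_on with
  | _ m ih =>
    intro V hV E hE hT
    rcases E.eq_empty_or_nonempty with rfl | ⟨⟨a, b⟩, hab⟩
    · simp
    obtain ⟨hlt, ha, hb⟩ := hE _ hab
    have h2 : 2 ≤ V.card := Finset.one_lt_card.2 ⟨a, ha, b, hb, hlt.ne⟩
    set V' := (V.erase a).erase b with hV'
    have hcard : V'.card = V.card - 2 := by
      rw [hV', Finset.card_erase_of_mem (Finset.mem_erase.2 ⟨hlt.ne', hb⟩), Finset.card_erase_of_mem ha]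
      omega
    have hmem : ∀ x ∈ V, x ≠ a → x ≠ b → x ∈ V' := fun x hx h1 h2 =>
      Finset.mem_erase.2 ⟨h2, Finset.mem_erase.2 ⟨h1, hx⟩⟩
    set E' := E.filter (fun e => e.1 ∈ V' ∧ e.2 ∈ V') with hE'
    have hb' : 4 * E'.card ≤ (m - 2) * (m - 2) :=
      ih (m - 2) (by omega) V' (by omega) E'
        (fun e he => ⟨(hE e (Finset.mem_filter.1 he).1).1, (Finset.mem_filter.1 he).2⟩)
        (fun i j l h1 h2 h3 => hT i j l (Finset.mem_filter.1 h1).1 (Finset.mem_filter.1 h2).1
          (Finset.mem_filter.1 h3).1)
    set E'' := E.filter (fun e => ¬ (e.1 ∈ V' ∧ e.2 ∈ V')) with hE''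
    have hsum : E'.card + E''.card = E.card := Finset.card_filter_add_card_filter_not _
    have hrest : (E''.erase (a, b)).card ≤ V'.card := by
      refine Finset.card_le_card_of_injOn
        (fun e => if e.1 = a ∨ e.1 = b then e.2 else e.1) ?_ ?_
      · intro e he
        obtain ⟨hne, he⟩ := Finset.mem_erase.1 he
        obtain ⟨heE, hnot⟩ := Finset.mem_filter.1 he
        obtain ⟨h12, h1, h2⟩ := hE e heE
        show (if e.1 = a ∨ e.1 = b then e.2 else e.1) ∈ V'
        split_ifs with h
        · refine hmem _ h2 ?_ ?_ <;> rintro h3 <;> rcases h with h | h <;>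
            first
              | exact absurd (Prod.ext h h3) hne
              | (rw [h, h3] at h12; exact absurd h12 (lt_irrefl _))
              | (rw [h, h3] at h12; exact absurd h12 hlt.not_gt)
        · push Not at h
          exact hmem _ h1 h.1 h.2
      · intro e he e' he' hee
        obtain ⟨hne, he⟩ := Finset.mem_erase.1 he
        obtain ⟨heE, hnot⟩ := Finset.mem_filter.1 he
        obtain ⟨hne', he'⟩ := Finset.mem_erase.1 he'
        obtain ⟨heE', hnot'⟩ := Finset.mem_filter.1 he'
        obtain ⟨h12, h1, h2⟩ := hE e heE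
        obtain ⟨h12', h1', h2'⟩ := hE e' heE'
        have key : ∀ f ∈ E, f ≠ (a, b) → ¬ (f.1 ∈ V' ∧ f.2 ∈ V') → f.1 ≠ a → f.1 ≠ b → f.2 = a ∨ f.2 = b :=
          fun f hf _ hnot h3 h4 => by
            by_contra hc
            push Not at hc
            exact hnot ⟨hmem _ (hE f hf).2.1 h3 h4, hmem _ (hE f hf).2.2 hc.1 hc.2⟩
        obtain ⟨x, y⟩ := e
        obtain ⟨x', y'⟩ := e'
        simp only at hee h12 h12' hnot hnot'
        have tri : ∀ i j l, (i, j) ∈ E → (j, l) ∈ E → (i, l) ∈ E → False := hT
        split_ifs at hee with h h' h'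
        · subst hee
          rcases h with rfl | rfl <;> rcases h' with rfl | rfl
          · rfl
          · exact (tri _ _ _ hab heE' heE).elim
          · exact (tri _ _ _ hab heE heE').elim
          · rfl
        · subst hee
          push Not at h'
          rcases key _ heE' hne' hnot' h'.1 h'.2 with h3 | h3 <;> simp only at h3 <;> subst h3 <;>
            rcases h with rfl | rfl
          all_goals first
            | exact absurd (h12.trans h12') (lt_irrefl _)
            | exact (tri _ _ _ heE heE' hab).elim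
            | exact absurd (h12.trans h12') hlt.not_gt
        · subst hee
          push Not at h
          rcases key _ heE hne hnot h.1 h.2 with h3 | h3 <;> simp only at h3 <;> subst h3 <;>
            rcases h' with rfl | rfl
          all_goals first
            | exact absurd (h12'.trans h12) (lt_irrefl _)
            | exact (tri _ _ _ heE' heE hab).elim
            | exact absurd (h12'.trans h12) hlt.not_gt
        · subst hee
          push Not at h h'
          rcases key _ heE hne hnot h.1 h.2 with h3 | h3 <;>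
            rcases key _ heE' hne' hnot' h'.1 h'.2 with h4 | h4 <;>
            simp only at h3 h4 <;> subst h3 <;> subst h4
          · rfl
          · exact (tri _ _ _ heE hab heE').elim
          · exact (tri _ _ _ heE' hab heE).elim
          · rfl
    have hE1 : E''.card ≤ (E''.erase (a, b)).card + 1 := by
      by_cases h : (a, b) ∈ E''
      · rw [Finset.card_erase_add_one h]
      · rw [Finset.erase_eq_of_notMem h]
        omega
    rcases (Nat.exists_eq_add_of_le (show 2 ≤ m by omega)) with ⟨t, rfl⟩
    rw [Nat.add_sub_cancel_left] at hb'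
    have hc : E.card ≤ E'.card + (t + 1) := by omega
    nlinarith

variable {p n : ℕ} [Fact p.Prime]

/-- Position of an entry: by superdiagonal, then by row. -/
def key (a : Fin n × Fin n) : ℕ := (a.2.1 - a.1.1) * n + a.1.1

theorem key_lt_of_left {i u l : Fin n} (hiu : i < u) (hul : u < l) : key (i, u) < key (i, l) := by
  have h1 : (u.1 - i.1) + 1 ≤ l.1 - i.1 := by omega
  have h2 := Nat.mul_le_mul_right n h1
  have := i.2
  simp only [key]
  nlinarith

theorem level_le_of_key_le {a b : Fin n × Fin n} (h : key a ≤ key b) :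
    a.2.1 - a.1.1 ≤ b.2.1 - b.1.1 := by
  by_contra hc
  push Not at hc
  have h2 := Nat.mul_le_mul_right n (show b.2.1 - b.1.1 + 1 ≤ a.2.1 - a.1.1 from hc)
  have := b.1.2
  simp only [key] at h
  nlinarith

local notation "GLn" => GL (Fin n) (ZMod p)
local notation "U" => H37.unitriangular n (ZMod p)

/-- The entry of an element. -/
abbrev ent (g : GLn) (i j : Fin n) : ZMod p := (g : Matrix (Fin n) (Fin n) (ZMod p)) i j

theorem ent_eq_zero {g : GLn} (hg : g ∈ U) {i j : Fin n} (h : j < i) : ent g i j = 0 := hg.1 h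

theorem ent_mul {g h : GLn} (hg : g ∈ U) (hh : h ∈ U) {i l : Fin n} (hil : i < l) :
    ent (g * h) i l = ent g i l + ent h i l +
      ∑ u ∈ univ.filter (fun u => i < u ∧ u < l), ent g i u * ent h u l := by
  classical
  show ((g * h : GLn) : Matrix (Fin n) (Fin n) (ZMod p)) i l = _
  rw [Units.val_mul, Matrix.mul_apply,
    ← Finset.sum_filter_add_sum_filter_not univ (fun u => i < u ∧ u < l), add_comm]
  congr 1
  rw [← Finset.sum_subset (s₁ := {i, l}) (fun u hu => ?_) (fun u hu hu' => ?_)]
  · rw [Finset.sum_pair hil.ne]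
    simp only [ent, hg.2 i, hh.2 l]
    ring
  · simp only [Finset.mem_insert, Finset.mem_singleton] at hu
    rcases hu with rfl | rfl <;> simp
  · simp only [Finset.mem_insert, Finset.mem_singleton, not_or] at hu'
    simp only [Finset.mem_filter, Finset.mem_univ, true_and, not_and, not_lt] at hu
    rcases lt_trichotomy u i with h1 | h1 | h1
    · exact mul_eq_zero_of_left (hg.1 h1) _
    · exact absurd h1 hu'.1
    · exact mul_eq_zero_of_right _ (hh.1 (lt_of_le_of_ne (hu h1) (Ne.symm hu'.2)))

/-- All entries at positions before `m` vanish. -/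
def Van (m : ℕ) (g : GLn) : Prop := ∀ i l : Fin n, i < l → key (i, l) < m → ent g i l = 0

theorem ent_mul_of_van {g h : GLn} (hg : g ∈ U) (hh : h ∈ U) {m : ℕ} (hv : Van m g) {i l : Fin n}
    (hil : i < l) (hk : key (i, l) ≤ m) : ent (g * h) i l = ent g i l + ent h i l := by
  rw [ent_mul hg hh hil, Finset.sum_eq_zero, add_zero]
  intro u hu
  simp only [Finset.mem_filter, Finset.mem_univ, true_and] at hu
  rw [hv i u hu.1 (lt_of_lt_of_le (key_lt_of_left hu.1 hu.2) hk), zero_mul]

theorem ent_pow_of_van {g : GLn} (hg : g ∈ U) {m : ℕ} (hv : Van m g) {i l : Fin n}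
    (hil : i < l) (hk : key (i, l) ≤ m) (a : ℕ) : ent (g ^ a) i l = a * ent g i l := by
  induction a with
  | zero => simp [ent, hil.ne]
  | succ a ih =>
    rw [pow_succ', ent_mul_of_van hg (pow_mem hg a) hv hil hk, ih]
    push_cast
    ring

/-- Leading position. -/
def Lead (g : GLn) (P : Fin n × Fin n) : Prop :=
  P.1 < P.2 ∧ ent g P.1 P.2 ≠ 0 ∧ Van (key P) g

theorem exists_lead {g : GLn} (hg : g ∈ U) (hne : g ≠ 1) : ∃ P, Lead g P := by
  classical
  have h : ∃ m, ∃ P : Fin n × Fin n, P.1 < P.2 ∧ key P = m ∧ ent g P.1 P.2 ≠ 0 := by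
    by_contra hc
    push Not at hc
    refine hne (Units.ext (Matrix.ext fun i j => ?_))
    show ent g i j = (1 : Matrix (Fin n) (Fin n) (ZMod p)) i j
    rcases lt_trichotomy i j with h | rfl | h
    · rw [Matrix.one_apply_ne h.ne]
      exact hc _ (i, j) h rfl
    · rw [Matrix.one_apply_eq]
      exact hg.2 i
    · rw [Matrix.one_apply_ne h.ne']
      exact ent_eq_zero hg h
  obtain ⟨P, hP, hk, hent⟩ := Nat.find_spec h
  refine ⟨P, hP, hent, fun i l hil hlt => ?_⟩
  by_contra hc
  exact Nat.find_min h (hk ▸ hlt) ⟨(i, l), hil, rfl, hc⟩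

theorem eq_of_key_eq {P Q : Fin n × Fin n} (hP : P.1 < P.2) (hQ : Q.1 < Q.2) (h : key P = key Q) :
    P = Q := by
  have h1 := level_le_of_key_le h.le
  have h2 := level_le_of_key_le h.ge
  have h3 : P.2.1 - P.1.1 = Q.2.1 - Q.1.1 := le_antisymm h1 h2
  simp only [key, h3] at h
  have h4 : P.1.1 = Q.1.1 := by omega
  exact Prod.ext (Fin.ext h4) (Fin.ext (by have : P.1.1 < P.2.1 := hP; have : Q.1.1 < Q.2.1 := hQ; omega))

/-- The commutator of elements with composable leading positions. -/
theorem lead_commutator {x y : GLn} (hx : x ∈ U) (hy : y ∈ U) {i j l : Fin n}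
    (hxl : Lead x (i, j)) (hyl : Lead y (j, l)) : Lead (x * y * x⁻¹ * y⁻¹) (i, l) := by
  classical
  obtain ⟨hij, hxe, hxv⟩ := hxl
  obtain ⟨hjl, hye, hyv⟩ := hyl
  set c := x * y * x⁻¹ * y⁻¹ with hc
  have hcU : c ∈ U := by
    rw [hc]
    exact mul_mem (mul_mem (mul_mem hx hy) (inv_mem hx)) (inv_mem hy)
  have hyx : y * x ∈ U := mul_mem hy hx
  have hxy : x * y = c * (y * x) := by rw [hc]; group
  simp only at hij hjl hxe hye hxv hyv
  have hkil : ∀ a b : Fin n, a < b → key (a, b) ≤ key (i, l) → ∀ u, a < u → u < b →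
      (ent x a u * ent y u b ≠ 0 → a = i ∧ u = j ∧ b = l) ∧ ent y a u * ent x u b = 0 := by
    intro a b hab hk u hau hub
    have hL := level_le_of_key_le hk
    simp only at hL
    refine ⟨fun hne => ?_, by_contra fun hne => ?_⟩
    · have h1 : key (i, j) ≤ key (a, u) := by
        by_contra hlt
        exact left_ne_zero_of_mul hne (hxv a u hau (not_le.1 hlt))
      have h2 : key (j, l) ≤ key (u, b) := by
        by_contra hlt
        exact right_ne_zero_of_mul hne (hyv u b hub (not_le.1 hlt))
      have h3 := level_le_of_key_le h1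
      have h4 := level_le_of_key_le h2
      simp only at h3 h4
      have e1 : u.1 - a.1 = j.1 - i.1 := by omega
      have e2 : b.1 - u.1 = l.1 - j.1 := by omega
      have e3 : b.1 - a.1 = l.1 - i.1 := by omega
      simp only [key, e1, e2, e3] at h1 h2 hk
      refine ⟨Fin.ext ?_, Fin.ext ?_, Fin.ext ?_⟩ <;> omega
    · have h1 : key (j, l) ≤ key (a, u) := by
        by_contra hlt
        exact left_ne_zero_of_mul hne (hyv a u hau (not_le.1 hlt))
      have h2 : key (i, j) ≤ key (u, b) := by
        by_contra hlt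
        exact right_ne_zero_of_mul hne (hxv u b hub (not_le.1 hlt))
      have h3 := level_le_of_key_le h1
      have h4 := level_le_of_key_le h2
      simp only at h3 h4
      have e1 : u.1 - a.1 = l.1 - j.1 := by omega
      have e3 : b.1 - a.1 = l.1 - i.1 := by omega
      simp only [key, e1, e3] at h1 hk
      omega
  have main : ∀ m a b, key (a, b) = m → a < b → key (a, b) ≤ key (i, l) →
      ent c a b = if a = i ∧ b = l then ent x i j * ent y j l else 0 := by
    intro m
    induction m using Nat.strong_induction_on with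
    | _ m ih =>
      intro a b hm hab hk
      have hv : Van m c := fun a' b' hab' hlt => by
        rw [ih _ hlt a' b' rfl hab' (by omega), if_neg]
        rintro ⟨rfl, rfl⟩
        omega
      have h1 := ent_mul_of_van hcU hyx hv hab (le_of_eq hm)
      rw [← hxy, ent_mul hx hy hab, ent_mul hy hx hab,
        Finset.sum_eq_zero (f := fun u => ent y a u * ent x u b) (fun u hu => by
          simp only [Finset.mem_filter, Finset.mem_univ, true_and] at hu
          exact (hkil a b hab hk u hu.1 hu.2).2), add_zero, add_comm (ent y a b)] at h1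
      have h2 : ent c a b = ∑ u ∈ univ.filter (fun u => a < u ∧ u < b), ent x a u * ent y u b := by
        linear_combination -h1
      rw [h2]
      split_ifs with h
      · obtain ⟨rfl, rfl⟩ := h
        refine Finset.sum_eq_single_of_mem j (by simp [hij, hjl]) fun u hu hne => ?_
        simp only [Finset.mem_filter, Finset.mem_univ, true_and] at hu
        by_contra h0
        exact hne ((hkil a b hab hk u hu.1 hu.2).1 h0).2.1
      · refine Finset.sum_eq_zero fun u hu => ?_
        simp only [Finset.mem_filter, Finset.mem_univ, true_and] at hu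
        by_contra h0
        exact h ⟨((hkil a b hab hk u hu.1 hu.2).1 h0).1, ((hkil a b hab hk u hu.1 hu.2).1 h0).2.2⟩
  refine ⟨hij.trans hjl, ?_, fun a b hab hlt => ?_⟩
  · show ent c i l ≠ 0
    rw [main _ i l rfl (hij.trans hjl) le_rfl, if_pos ⟨rfl, rfl⟩]
    exact mul_ne_zero hxe hye
  · rw [main _ a b rfl hab hlt.le, if_neg]
    rintro ⟨rfl, rfl⟩
    exact lt_irrefl _ hlt

/-- Subgroups of the unitriangular group are generated by at most `n² / 4` elements. -/
theorem exists_gens (H : Subgroup GLn) (hH : H ≤ U) :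
    ∃ S : Finset H, S.card ≤ n * n / 4 ∧ Subgroup.closure (S : Set H) = ⊤ := by
  classical
  set D := univ.filter (fun P : Fin n × Fin n => ∃ h ∈ H, Lead h P) with hD
  set D' := D.filter (fun P => ¬ ∃ j, (P.1, j) ∈ D ∧ (j, P.2) ∈ D) with hD'
  have hpick : ∀ P ∈ D, ∃ h : H, Lead (h : GLn) P := fun P hP => by
    obtain ⟨h, hh, hl⟩ := (Finset.mem_filter.1 hP).2
    exact ⟨⟨h, hh⟩, hl⟩
  choose! f hf using hpick
  have hcard : 4 * D'.card ≤ n * n :=
    card_le_of_no_triangle n univ (by simp) D'
      (fun e he => ⟨(hf e (Finset.mem_filter.1 he).1).1, by simp, by simp⟩)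
      (fun i j l h1 h2 h3 => (Finset.mem_filter.1 h3).2
        ⟨j, (Finset.mem_filter.1 h1).1, (Finset.mem_filter.1 h2).1⟩)
  refine ⟨D'.image f, le_trans Finset.card_image_le ((Nat.le_div_iff_mul_le (by norm_num)).2 (by omega)), ?_⟩
  set M : Subgroup H := Subgroup.closure ((D'.image f : Finset H) : Set H) ⊔ commutator H with hM
  have hp : IsPGroup p H := (H37.isPGroup_unitriangular p n).to_le hH
  have step : ∀ P ∈ D, ∃ c : H, c ∈ M ∧ Lead (c : GLn) P := by
    intro P hP
    by_cases hP' : P ∈ D'
    · refine ⟨f P, le_sup_left (α := Subgroup H) (Subgroup.subset_closure ?_), hf P hP⟩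
      rw [Finset.coe_image]
      exact ⟨P, hP', rfl⟩
    · rw [hD', Finset.mem_filter, not_and, not_not] at hP'
      obtain ⟨j, h1, h2⟩ := hP' hP
      refine ⟨f (P.1, j) * f (j, P.2) * (f (P.1, j))⁻¹ * (f (j, P.2))⁻¹,
        le_sup_right (α := Subgroup H) ?_, ?_⟩
      · rw [← commutatorElement_def]
        exact Subgroup.commutator_mem_commutator (Subgroup.mem_top _) (Subgroup.mem_top _)
      · simp only [Subgroup.coe_mul, Subgroup.coe_inv]
        exact lead_commutator (hH (f (P.1, j)).2) (hH (f (j, P.2)).2) (hf _ h1) (hf _ h2)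
  have hall : ∀ d, ∀ h : H, (∀ i l : Fin n, i < l → key (i, l) + d < n * n + n →
      ent (h : GLn) i l = 0) → h ∈ M := by
    intro d
    induction d with
    | zero =>
      intro h hv
      have h1 : (h : GLn) = 1 := by
        by_contra hne
        obtain ⟨P, hP1, hP2, -⟩ := exists_lead (hH h.2) hne
        have := P.2.2
        have := P.1.2
        refine hP2 (hv _ _ hP1 ?_)
        simp only [key]
        have : (P.2.1 - P.1.1) * n ≤ n * n := Nat.mul_le_mul_right n (by omega)
        omega
      rw [show h = 1 from Subtype.ext h1]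
      exact one_mem _
    | succ d ih =>
      intro h hv
      by_cases hz : ∀ i l : Fin n, i < l → key (i, l) + d < n * n + n → ent (h : GLn) i l = 0
      · exact ih h hz
      push Not at hz
      obtain ⟨i, l, hil, hk, hent⟩ := hz
      have hkey : key (i, l) + (d + 1) = n * n + n := by
        by_contra hne
        exact hent (hv i l hil (by omega))
      have hlead : Lead (h : GLn) (i, l) :=
        ⟨hil, hent, fun a b hab hlt => hv a b hab (by omega)⟩
      obtain ⟨c, hcM, hcl⟩ := step (i, l) (Finset.mem_filter.2 ⟨Finset.mem_univ _, h, h.2, hlead⟩)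
      obtain ⟨a, ha⟩ : ∃ a : ℕ, (a : ZMod p) * ent (c : GLn) i l = - ent (h : GLn) i l :=
        ⟨((- ent (h : GLn) i l) / ent (c : GLn) i l).val, by
          rw [ZMod.natCast_zmod_val, div_mul_cancel₀ _ hcl.2.1]⟩
      have h' : c ^ a * h ∈ M := by
        refine ih _ fun a' b' hab hlt => ?_
        have hle : key (a', b') ≤ key (i, l) := by omega
        rw [Subgroup.coe_mul, SubmonoidClass.coe_pow]
        have hcU : (c : GLn) ∈ U := hH c.2
        have hv' : Van (key (i, l)) ((c : GLn) ^ a) := fun a1 b1 hab1 hlt1 => by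
          rw [ent_pow_of_van hcU hcl.2.2 hab1 hlt1.le, hcl.2.2 a1 b1 hab1 hlt1, mul_zero]
        rw [ent_mul_of_van (pow_mem hcU a) (hH h.2) hv' hab hle,
          ent_pow_of_van hcU hcl.2.2 hab hle]
        rcases lt_or_eq_of_le hle with hlt' | heq
        · rw [hcl.2.2 a' b' hab hlt', hlead.2.2 a' b' hab hlt', mul_zero, add_zero]
        · obtain ⟨rfl, rfl⟩ : a' = i ∧ b' = l := by
            have := eq_of_key_eq (P := (a', b')) (Q := (i, l)) hab hil heq
            exact ⟨congrArg Prod.fst this, congrArg Prod.snd this⟩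
          rw [ha, neg_add_cancel]
      have := mul_mem (inv_mem (pow_mem hcM a)) h'
      rwa [inv_mul_cancel_left] at this
  have htop : M = ⊤ := by
    rw [eq_top_iff]
    intro h _
    exact hall (n * n + n) h (fun i l _ hlt => by omega)
  refine frattini_nongenerating (K := Subgroup.closure _) ?_
  rw [eq_top_iff, ← htop, hM]
  exact sup_le_sup_left (H6.commutator_le_frattini hp) _

end H73.Unip
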